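import Mathlib

set_option autoImplicit false

/-!
Automorphism groups of `p`-groups having a characteristic chain with factors of order `p`
are `p`-closed (all `p`-elements lie in one `p`-subgroup).
-/

namespace Cfsg.Agent.Lib.Helper86

/-- A coprime automorphism of a `p`-group stabilizing a chain from `⊤` to `⊥` is trivial.
(Same statement as helper87's `aut_eq_one_of_chain`, reproved here to keep imports light.) -/
theorem aut_eq_one_of_chain_stab {G : Type*} [Group G] {p : ℕ} (hG : IsPGroup p G) (α : MulAut G)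
    (m : ℕ) (hm : m.Coprime p) (hαm : α ^ m = 1) (k : ℕ) (C : ℕ → Subgroup G) (h0 : C 0 = ⊤)
    (hk : C k = ⊥) (hstep : ∀ i < k, ∀ x ∈ C i, x⁻¹ * α x ∈ C (i + 1)) : α = 1 := by
  have claim : ∀ j : ℕ, j ≤ k → ∀ x ∈ C (k - j), α x = x := by
    intro j
    induction j with
    | zero =>
      intro _ x hx
      rw [Nat.sub_zero, hk, Subgroup.mem_bot] at hx
      rw [hx, map_one]
    | succ j ih =>
      intro hj x hx
      have hi : k - (j + 1) < k := by omega
      have hy := hstep _ hi x hx
      have e : k - (j + 1) + 1 = k - j := by omega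
      rw [e] at hy
      set y := x⁻¹ * α x with hydef
      have hfix : α y = y := ih (by omega) y hy
      have hpow : ∀ n : ℕ, (α ^ n) x = x * y ^ n := by
        intro n
        induction n with
        | zero => simp
        | succ n ihn =>
          rw [pow_succ', MulAut.mul_apply, ihn, map_mul, map_pow, hfix, pow_succ']
          have hbx : α x = x * y := by rw [hydef]; group
          rw [hbx, mul_assoc]
      have h1 := hpow m
      rw [hαm] at h1
      have hym : y ^ m = 1 := by
        have : x = x * y ^ m := h1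
        exact mul_eq_left.mp this.symm
      obtain ⟨n, hn⟩ := hG y
      have hg : y ^ (Nat.gcd m (p ^ n)) = 1 := pow_gcd_eq_one.mpr ⟨hym, hn⟩
      have hcop : Nat.gcd m (p ^ n) = 1 := Nat.Coprime.pow_right n hm
      rw [hcop, pow_one] at hg
      have : x⁻¹ * α x = 1 := hg
      exact (inv_mul_eq_one.mp this).symm
  ext x
  have := claim k le_rfl x (by rw [Nat.sub_self, h0]; exact Subgroup.mem_top x)
  rw [this]
  rfl

/-- An automorphism of `p`-power order of a group of prime order `p` is trivial. -/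
theorem mulAut_eq_one_of_prime_card {Z : Type*} [Group Z] (p : ℕ) [Fact p.Prime]
    (hZ : Nat.card Z = p) (γ : MulAut Z) (m : ℕ) (hγ : γ ^ (p ^ m) = 1) : γ = 1 := by
  have hp : p.Prime := Fact.out
  have hfin : Finite Z := Nat.finite_of_card_ne_zero (by rw [hZ]; exact hp.ne_zero)
  have hcyc : IsCyclic Z := isCyclic_of_prime_card hZ
  have hcard : Nat.card (MulAut Z) = p - 1 := by
    rw [IsCyclic.card_mulAut, hZ, Nat.totient_prime hp]
  have h2 : γ ^ (p - 1) = 1 := by
    rw [← hcard]; exact pow_card_eq_one'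
  have hg : γ ^ (Nat.gcd (p ^ m) (p - 1)) = 1 := pow_gcd_eq_one.mpr ⟨hγ, h2⟩
  have hcop : Nat.gcd (p ^ m) (p - 1) = 1 := by
    apply Nat.Coprime.pow_left
    rw [Nat.Prime.coprime_iff_not_dvd hp]
    intro hdvd
    have h1 : 0 < p - 1 := by have := hp.two_le; omega
    have := Nat.le_of_dvd h1 hdvd
    omega
  rw [hcop, pow_one] at hg
  exact hg

/-- An automorphism of `p`-power order acts trivially on an invariant section of order `p`. -/
theorem step_trivial {H : Type*} [Group H] [Finite H] (p : ℕ) [Fact p.Prime]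
    (C D : Subgroup H) [D.Normal] (hDC : D ≤ C) (hcard : Nat.card C = p * Nat.card D)
    (σ : MulAut H) (hσC : ∀ x ∈ C, σ x ∈ C) (hσD : ∀ x ∈ D, σ x ∈ D)
    (m : ℕ) (hσ : σ ^ (p ^ m) = 1) : ∀ x ∈ C, x⁻¹ * σ x ∈ D := by
  classical
  have hp : p.Prime := Fact.out
  have hDmap : D.map σ.toMonoidHom = D := by
    apply Subgroup.eq_of_le_of_card_ge
    · rintro _ ⟨x, hx, rfl⟩; exact hσD x hx
    · rw [Subgroup.card_map_of_injective σ.injective]
  set π : H →* H ⧸ D := QuotientGroup.mk' D with hπ
  have hπsurj : Function.Surjective π := QuotientGroup.mk'_surjective D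
  set σq : MulAut (H ⧸ D) := QuotientGroup.congr D D σ hDmap with hσqdef
  have hσq : ∀ x : H, σq (π x) = π (σ x) := fun x => QuotientGroup.congr_mk D D σ hDmap x
  have hpow : ∀ n : ℕ, ∀ x : H, (σq ^ n) (π x) = π ((σ ^ n) x) := by
    intro n
    induction n with
    | zero => intro x; simp
    | succ n ih =>
      intro x
      rw [pow_succ', MulAut.mul_apply, ih, hσq, pow_succ', MulAut.mul_apply]
  have hσq1 : σq ^ (p ^ m) = 1 := by
    ext y
    obtain ⟨x, rfl⟩ := hπsurj y
    rw [hpow, hσ]
    rfl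
  set Z : Subgroup (H ⧸ D) := C.map π with hZdef
  have hZ : ∀ z ∈ Z, σq z ∈ Z := by
    rintro _ ⟨x, hx, rfl⟩
    rw [hσq]
    exact ⟨σ x, hσC x hx, rfl⟩
  -- the restricted automorphism
  let f : Z →* Z := (σq.toMonoidHom.comp Z.subtype).codRestrict Z (fun z => hZ z z.2)
  have hf : ∀ z : Z, ((f z : Z) : H ⧸ D) = σq z := fun z => rfl
  have hfinj : Function.Injective f := by
    intro a b hab
    apply Subtype.ext
    apply σq.injective
    rw [← hf, ← hf, hab]
  have hfbij : Function.Bijective f := Finite.injective_iff_bijective.mp hfinj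
  set γ : MulAut Z := MulEquiv.ofBijective f hfbij with hγdef
  have hγ : ∀ z : Z, ((γ z : Z) : H ⧸ D) = σq z := fun z => rfl
  have hγpow : ∀ n : ℕ, ∀ z : Z, (((γ ^ n) z : Z) : H ⧸ D) = (σq ^ n) z := by
    intro n
    induction n with
    | zero => intro z; simp
    | succ n ih =>
      intro z
      rw [pow_succ', MulAut.mul_apply, hγ, ih, pow_succ', MulAut.mul_apply]
  have hγ1 : γ ^ (p ^ m) = 1 := by
    ext z
    rw [hγpow, hσq1]
    rfl
  -- the order of Z
  have hZcard : Nat.card Z = p := by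
    have h1 : Z.index = C.index := by
      rw [hZdef, Subgroup.index_map, hπ, QuotientGroup.ker_mk', sup_eq_left.mpr hDC,
        MonoidHom.range_eq_top.mpr hπsurj, Subgroup.index_top, mul_one]
    have h2 : Nat.card Z * Z.index = Nat.card (H ⧸ D) := Subgroup.card_mul_index Z
    have h3 : Nat.card C * C.index = Nat.card H := Subgroup.card_mul_index C
    have h4 : Nat.card D * D.index = Nat.card H := Subgroup.card_mul_index D
    have h5 : Nat.card (H ⧸ D) = D.index := rfl
    have hD0 : 0 < Nat.card D := Nat.card_pos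
    have hC0 : 0 < C.index := Nat.pos_of_ne_zero Subgroup.index_ne_zero_of_finite
    rw [h1, h5] at h2
    have h6 : Nat.card Z * (C.index * Nat.card D) = p * (C.index * Nat.card D) := by
      calc Nat.card Z * (C.index * Nat.card D) = (Nat.card Z * C.index) * Nat.card D := by ring
        _ = D.index * Nat.card D := by rw [h2]
        _ = Nat.card H := by rw [mul_comm, h4]
        _ = Nat.card C * C.index := h3.symm
        _ = p * (C.index * Nat.card D) := by rw [hcard]; ring
    exact Nat.eq_of_mul_eq_mul_right (Nat.mul_pos hC0 hD0) h6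
  have hγone : γ = 1 := mulAut_eq_one_of_prime_card p hZcard γ m hγ1
  intro x hx
  have hxZ : π x ∈ Z := ⟨x, hx, rfl⟩
  have h1 : σq (π x) = π x := by
    have := hγ ⟨π x, hxZ⟩
    rw [hγone] at this
    exact this.symm
  rw [hσq] at h1
  have h2 : π x = π (σ x) := h1.symm
  exact (QuotientGroup.eq).mp h2

/-- If a finite `p`-group has a chain of characteristic subgroups with all factors of order `p`,
then all `p`-elements of its automorphism group lie in one `p`-subgroup. -/
theorem exists_pgroup_of_chain {H : Type*} [Group H] [Finite H] (p : ℕ) [Fact p.Prime]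
    (hH : IsPGroup p H) (k : ℕ) (C : ℕ → Subgroup H) (h0 : C 0 = ⊤) (hk : C k = ⊥)
    (hanti : ∀ i < k, C (i + 1) ≤ C i)
    (hchar : ∀ i, ∀ σ : MulAut H, ∀ x ∈ C i, σ x ∈ C i)
    (hidx : ∀ i < k, Nat.card (C i) = p * Nat.card (C (i + 1))) :
    ∃ K : Subgroup (MulAut H), IsPGroup p K ∧
      ∀ σ : MulAut H, (∃ m : ℕ, σ ^ (p ^ m) = 1) → σ ∈ K := by
  classical
  have hp : p.Prime := Fact.out
  have hfinA : Finite (MulAut H) := Finite.of_injective (fun α : MulAut H => (α : H → H))
    (fun α β h => by ext x; exact congrFun h x)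
  have hnorm : ∀ i, (C i).Normal := by
    intro i
    constructor
    intro n hn g
    exact hchar i (MulAut.conj g) n hn
  let K : Subgroup (MulAut H) :=
    { carrier := {σ | ∀ i < k, ∀ x ∈ C i, x⁻¹ * σ x ∈ C (i + 1)}
      one_mem' := by
        intro i _ x _
        simp
      mul_mem' := by
        intro σ τ hσ hτ i hi x hx
        have h1 : x⁻¹ * (σ * τ) x = (x⁻¹ * τ x) * ((τ x)⁻¹ * σ (τ x)) := by
          rw [MulAut.mul_apply]; group
        rw [h1]
        exact mul_mem (hτ i hi x hx) (hσ i hi (τ x) (hchar i τ x hx))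
      inv_mem' := by
        intro σ hσ i hi x hx
        have hy : σ⁻¹ x ∈ C i := hchar i σ⁻¹ x hx
        have h1 := hσ i hi (σ⁻¹ x) hy
        have h2 : σ (σ⁻¹ x) = x := by
          rw [← MulAut.mul_apply, mul_inv_cancel]; rfl
        rw [h2] at h1
        have h3 : x⁻¹ * σ⁻¹ x = ((σ⁻¹ x)⁻¹ * x)⁻¹ := by group
        rw [h3]
        exact inv_mem h1 }
  have hKmem : ∀ σ : MulAut H, σ ∈ K ↔ ∀ i < k, ∀ x ∈ C i, x⁻¹ * σ x ∈ C (i + 1) := fun σ => Iff.rfl
  refine ⟨K, ?_, ?_⟩
  · -- K is a p-group
    rintro ⟨σ, hσK⟩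
    have hord : 0 < orderOf σ := orderOf_pos σ
    obtain ⟨a, m', hm', hn⟩ := Nat.exists_eq_pow_mul_and_not_dvd hord.ne' p hp.ne_one
    refine ⟨a, ?_⟩
    apply Subtype.ext
    show σ ^ (p ^ a) = 1
    have hτK : σ ^ (p ^ a) ∈ K := pow_mem hσK _
    have hτm : (σ ^ (p ^ a)) ^ m' = 1 := by
      rw [← pow_mul, ← hn]; exact pow_orderOf_eq_one σ
    have hcop : m'.Coprime p := (Nat.Prime.coprime_iff_not_dvd hp).mpr hm' |>.symm
    exact aut_eq_one_of_chain_stab hH (σ ^ (p ^ a)) m' hcop hτm k C h0 hk ((hKmem _).mp hτK)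
  · rintro σ ⟨m, hσ⟩
    rw [hKmem]
    intro i hi
    have := hnorm (i + 1)
    exact step_trivial p (C i) (C (i + 1)) (hanti i hi) (hidx i hi) σ (hchar i σ)
      (hchar (i + 1) σ) m hσ

/-- With such a chain, every quotient of a subgroup of `Aut(H)` by a normal `p`-subgroup has a
unique Sylow `p`-subgroup. -/
theorem sylow_unique_of_pgroup {H : Type*} [Group H] [Finite H] (p : ℕ) [Fact p.Prime]
    (K : Subgroup (MulAut H)) (hK : IsPGroup p K)
    (hKall : ∀ σ : MulAut H, (∃ m : ℕ, σ ^ (p ^ m) = 1) → σ ∈ K)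
    (A : Subgroup (MulAut H)) (N : Subgroup A) [N.Normal] (hN : IsPGroup p N)
    (P₁ P₂ : Sylow p (A ⧸ N)) : P₁ = P₂ := by
  set π : A →* A ⧸ N := QuotientGroup.mk' N with hπ
  have hπsurj : Function.Surjective π := QuotientGroup.mk'_surjective N
  have hR : IsPGroup p ((K.subgroupOf A).map π) := by
    apply IsPGroup.map
    exact hK.comap_of_injective A.subtype (Subgroup.subtype_injective A)
  have key : ∀ P : Sylow p (A ⧸ N), (P : Subgroup (A ⧸ N)) = (K.subgroupOf A).map π := by
    intro P
    have hle : (P : Subgroup (A ⧸ N)) ≤ (K.subgroupOf A).map π := by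
      intro y hy
      obtain ⟨x, rfl⟩ := hπsurj y
      refine ⟨x, ?_, rfl⟩
      rw [SetLike.mem_coe, Subgroup.mem_subgroupOf]
      apply hKall
      -- x is a p-element
      have h1 : IsPGroup p ((P : Subgroup (A ⧸ N)).comap π) :=
        P.isPGroup'.comap_of_ker_isPGroup π (by rw [hπ, QuotientGroup.ker_mk']; exact hN)
      obtain ⟨m, hm⟩ := h1 ⟨x, hy⟩
      refine ⟨m, ?_⟩
      have h2 : x ^ (p ^ m) = 1 := by
        have := congrArg Subtype.val hm
        simpa using this
      have h3 := congrArg Subtype.val h2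
      simpa using h3
    exact (P.is_maximal' hR hle).symm
  apply Sylow.ext
  rw [key P₁, key P₂]

end Cfsg.Agent.Lib.Helper86
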