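import Cfsg.Agent.Lib.Helper86.SL2

set_option autoImplicit false

namespace Cfsg.Agent.Lib.Helper86.GL2

open Matrix Matrix.GeneralLinearGroup Matrix.SpecialLinearGroup MatrixGroups

variable {F : Type*} [Field F]

theorem toGL_val (A : SL(2, F)) (i j : Fin 2) :
    (Matrix.SpecialLinearGroup.toGL A : GL (Fin 2) F).val i j = A.val i j := rfl

/-- generation lemma inside `GL₂` -/
theorem range_toGL_le_of_conj (c : GL (Fin 2) F) (hc : c.val 1 0 ≠ 0) (H : Subgroup (GL (Fin 2) F))
    (hU : U ≤ H) (hcU : ∀ t : F, c * uE t * c⁻¹ ∈ H) :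
    (Matrix.SpecialLinearGroup.toGL : SL(2, F) →* GL (Fin 2) F).range ≤ H := by
  have huE : ∀ s : F, uE s ∈ H := fun s => hU (mem_U.mpr ⟨s, rfl⟩)
  have hl : ∀ r : F, Matrix.SpecialLinearGroup.toGL (SL2.lS r) ∈ H := by
    intro r
    set s : F := -c.val 0 0 / c.val 1 0 with hs
    set m : GL (Fin 2) F := uE s * c with hm
    have m00 : m.val 0 0 = 0 := by
      rw [hm, mul_entry, uE_val]; simp [hs]; field_simp; ring
    have m10 : m.val 1 0 = c.val 1 0 := by
      rw [hm, mul_entry, uE_val]; simp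
    have hdet := det_eq m
    rw [m00, m10] at hdet
    have m01 : m.val 0 1 ≠ 0 := by
      intro h; rw [h] at hdet; simp at hdet
    set t : F := r * m.val 0 1 / c.val 1 0 with ht
    have key : Matrix.SpecialLinearGroup.toGL (SL2.lS r) * m = m * uE t := by
      apply ext2 <;> simp only [mul_entry, toGL_val, SL2.lS_val, uE_val] <;> simp [m00, m10]
      rw [ht]; field_simp
    have e : Matrix.SpecialLinearGroup.toGL (SL2.lS r) = uE s * (c * uE t * c⁻¹) * (uE s)⁻¹ := by
      have : Matrix.SpecialLinearGroup.toGL (SL2.lS r) = m * uE t * m⁻¹ := by rw [← key]; group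
      rw [this, hm]; group
    rw [e]
    exact H.mul_mem (H.mul_mem (huE s) (hcU t)) (H.inv_mem (huE s))
  rintro _ ⟨A, rfl⟩
  refine SL2.transvection_induction (fun A => Matrix.SpecialLinearGroup.toGL A ∈ H) ?_
    (fun A B hA hB => by rw [map_mul]; exact H.mul_mem hA hB) A
  intro i j hij x
  fin_cases i <;> fin_cases j
  · exact absurd rfl hij
  · have : Matrix.SpecialLinearGroup.toGL (SL2.uS x) = uE x := SL2.toGL_uS x
    show Matrix.SpecialLinearGroup.toGL (SL2.uS x) ∈ H
    rw [this]; exact huE x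
  · exact hl x
  · exact absurd rfl hij

section finite
variable [Fintype F] (p : ℕ) [Fact p.Prime] [CharP F p]

theorem range_toGL_le_sup (P Q : Sylow p (GL (Fin 2) F)) (h : P ≠ Q) :
    (Matrix.SpecialLinearGroup.toGL : SL(2, F) →* GL (Fin 2) F).range ≤
      (P : Subgroup (GL (Fin 2) F)) ⊔ (Q : Subgroup (GL (Fin 2) F)) := by
  obtain ⟨g, hg⟩ := MulAction.exists_smul_eq (GL (Fin 2) F) (USylow p) P
  obtain ⟨k, hk⟩ := MulAction.exists_smul_eq (GL (Fin 2) F) (USylow p) Q
  have hc : (g⁻¹ * k).val 1 0 ≠ 0 := by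
    intro h0
    have hn : g⁻¹ * k ∈ Subgroup.normalizer ((U : Subgroup (GL (Fin 2) F)) : Set (GL (Fin 2) F)) := by
      rw [normalizer_U, mem_B]; exact h0
    rw [← USylow_coe p] at hn
    have h1 : (g⁻¹ * k) • (USylow p : Sylow p (GL (Fin 2) F)) = USylow p :=
      Sylow.smul_eq_iff_mem_normalizer.mpr hn
    apply h
    rw [← hg, ← hk]
    calc g • (USylow p : Sylow p (GL (Fin 2) F)) = g • ((g⁻¹ * k) • USylow p) := by rw [h1]
      _ = k • USylow p := by rw [smul_smul]; congr 1; group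
  set H : Subgroup (GL (Fin 2) F) :=
    ((P : Subgroup (GL (Fin 2) F)) ⊔ (Q : Subgroup (GL (Fin 2) F))).comap
      (MulAut.conj g).toMonoidHom with hH
  have hHtop : (Matrix.SpecialLinearGroup.toGL : SL(2, F) →* GL (Fin 2) F).range ≤ H := by
    apply range_toGL_le_of_conj (g⁻¹ * k) hc H
    · intro x hx
      rw [hH, Subgroup.mem_comap]
      apply Subgroup.mem_sup_left
      rw [← hg, mem_smul_USylow]
      simp only [MulEquiv.coe_toMonoidHom, MulAut.conj_apply]
      have : g⁻¹ * (g * x * g⁻¹) * g = x := by group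
      rw [this]; exact hx
    · intro t
      rw [hH, Subgroup.mem_comap]
      apply Subgroup.mem_sup_right
      rw [← hk, mem_smul_USylow]
      simp only [MulEquiv.coe_toMonoidHom, MulAut.conj_apply]
      have : k⁻¹ * (g * (g⁻¹ * k * uE t * (g⁻¹ * k)⁻¹) * g⁻¹) * k = uE t := by group
      rw [this]; exact mem_U.mpr ⟨t, rfl⟩
  rintro _ ⟨A, rfl⟩
  have hmem : g⁻¹ * Matrix.SpecialLinearGroup.toGL A * g ∈
      (Matrix.SpecialLinearGroup.toGL : SL(2, F) →* GL (Fin 2) F).range := by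
    refine ⟨⟨(g⁻¹ * Matrix.SpecialLinearGroup.toGL A * g).val, ?_⟩, ?_⟩
    · simp
      exact inv_mul_cancel₀ (Matrix.GeneralLinearGroup.det_ne_zero g)
    · apply Units.ext; rfl
  have hy := hHtop hmem
  rw [hH, Subgroup.mem_comap] at hy
  simp only [MulEquiv.coe_toMonoidHom, MulAut.conj_apply] at hy
  have : g * (g⁻¹ * Matrix.SpecialLinearGroup.toGL A * g) * g⁻¹ = Matrix.SpecialLinearGroup.toGL A := by
    group
  rwa [this] at hy

end finite

end Cfsg.Agent.Lib.Helper86.GL2
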