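import Cfsg.Prelude.Def_FusionSystem
import Cfsg.Agent.Lib.Helper86.GL2b
import Mathlib.LinearAlgebra.Matrix.ToLin
import Mathlib.LinearAlgebra.Dimension.Free
import Mathlib.LinearAlgebra.FiniteDimensional.Defs
import Mathlib.Algebra.Module.ZMod
import Mathlib.FieldTheory.Finiteness

set_option autoImplicit false

namespace Cfsg.Agent.Lib.Helper86

open Matrix

theorem exists_two_sylow {X : Type*} [Group X] [Finite X] (p : ℕ) [Fact p.Prime] (E : Subgroup X)
    (hE : Cfsg.IsStronglyPEmbedded p E) : ∃ P Q : Sylow p X, P ≠ Q := by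
  have hp : p.Prime := Fact.out
  obtain ⟨hdvd, hne, P, hP⟩ := hE
  by_contra hcon
  push Not at hcon
  have hnorm : Subgroup.normalizer ((P : Subgroup X) : Set X) = ⊤ := by
    rw [eq_top_iff]; intro g _
    exact Sylow.smul_eq_iff_mem_normalizer.mp (hcon _ _)
  have hPne := P.ne_bot_of_dvd_card hdvd
  have hrank : ¬ Cfsg.PRankLE p (1 - 1) (P : Subgroup X) := by
    intro h
    have hdvdP : p ∣ Nat.card (P : Subgroup X) := by
      obtain ⟨k, hk⟩ := IsPGroup.iff_card.mp P.isPGroup'
      have hk0 : k ≠ 0 := by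
        rintro rfl
        apply hPne
        rw [pow_zero] at hk
        exact Subgroup.card_eq_one.mp hk
      rw [hk]; exact dvd_pow_self p hk0
    obtain ⟨x, hx⟩ := exists_prime_orderOf_dvd_card' p hdvdP
    have h1 := h (Subgroup.zpowers x) inferInstance (fun a ha => by
      obtain ⟨k, rfl⟩ := Subgroup.mem_zpowers_iff.mp ha
      have hxp : x ^ p = 1 := by
        have := pow_orderOf_eq_one x
        rwa [hx] at this
      rw [← zpow_natCast, ← _root_.zpow_mul, mul_comm, _root_.zpow_mul, zpow_natCast, hxp, _root_.one_zpow])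
    rw [Nat.card_zpowers, hx] at h1
    simp at h1
    exact absurd h1 (by have := hp.one_lt; omega)
  have hle : Subgroup.normalizer ((P : Subgroup X) : Set X) ≤ Cfsg.kGeneratedCore p 1 (P : Subgroup X) :=
    le_iSup (fun Q : {Q : Subgroup X // Q ≤ (P : Subgroup X) ∧ ¬ Cfsg.PRankLE p (1 - 1) Q} =>
      Subgroup.normalizer ((Q : Subgroup X) : Set X)) ⟨P, le_rfl, hrank⟩
  exact hne (eq_top_iff.mpr (hnorm ▸ hle.trans hP))

/-- automorphisms as linear endomorphisms -/
def thetaHom (p : ℕ) (H : Type*) [CommGroup H] [Module (ZMod p) (Additive H)] :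
    MulAut H →* Module.End (ZMod p) (Additive H) where
  toFun α := (MonoidHom.toAdditive α.toMonoidHom).toZModLinearMap p
  map_one' := by
    apply LinearMap.ext; intro x
    rw [AddMonoidHom.coe_toZModLinearMap]
    rfl
  map_mul' α β := by
    apply LinearMap.ext; intro x
    rw [Module.End.mul_apply, AddMonoidHom.coe_toZModLinearMap, AddMonoidHom.coe_toZModLinearMap,
      AddMonoidHom.coe_toZModLinearMap]
    rfl

theorem thetaHom_apply (p : ℕ) (H : Type*) [CommGroup H] [Module (ZMod p) (Additive H)]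
    (α : MulAut H) (x : Additive H) : thetaHom p H α x = Additive.ofMul (α (Additive.toMul x)) := by
  show (MonoidHom.toAdditive α.toMonoidHom).toZModLinearMap p x = _
  rw [AddMonoidHom.coe_toZModLinearMap]
  rfl

theorem exists_hom_GL2_aux {H : Type*} [CommGroup H] [Finite H] (p : ℕ) [Fact p.Prime]
    [Module (ZMod p) (Additive H)] (hcard : Nat.card H = p ^ 2) :
    ∃ Θ : MulAut H →* GL (Fin 2) (ZMod p), Function.Injective Θ := by
  have hp : p.Prime := Fact.out
  let : Fintype (Additive H) := Fintype.ofFinite _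
  have hfin : Module.finrank (ZMod p) (Additive H) = 2 := by
    have h1 := Module.card_eq_pow_finrank (K := ZMod p) (V := Additive H)
    rw [ZMod.card, ← Nat.card_eq_fintype_card] at h1
    have h2 : Nat.card (Additive H) = p ^ 2 := hcard
    rw [h2] at h1
    exact (Nat.pow_right_injective hp.two_le h1).symm
  have i1 : Module.Finite (ZMod p) (Additive H) := Module.Finite.of_finite
  let b : Module.Basis (Fin 2) (ZMod p) (Additive H) :=
    Module.finBasisOfFinrankEq (ZMod p) (Additive H) hfin
  refine ⟨(Units.mapEquiv (LinearMap.toMatrixAlgEquiv b).toMulEquiv).toMonoidHom.comp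
    (thetaHom p H).toHomUnits, ?_⟩
  intro α β hαβ
  have h1 : (thetaHom p H).toHomUnits α = (thetaHom p H).toHomUnits β :=
    (Units.mapEquiv (LinearMap.toMatrixAlgEquiv b).toMulEquiv).injective hαβ
  have h2 : thetaHom p H α = thetaHom p H β := congrArg Units.val h1
  ext x
  have h3 := LinearMap.congr_fun h2 (Additive.ofMul x)
  rw [thetaHom_apply, thetaHom_apply] at h3
  exact h3

theorem exists_hom_GL2 {H : Type*} [Group H] [Finite H] (p : ℕ) [Fact p.Prime]
    (hcomm : ∀ a b : H, a * b = b * a) (hexp : ∀ a : H, a ^ p = 1) (hcard : Nat.card H = p ^ 2) :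
    ∃ Θ : MulAut H →* GL (Fin 2) (ZMod p), Function.Injective Θ := by
  let : CommGroup H := { ‹Group H› with mul_comm := hcomm }
  let : Module (ZMod p) (Additive H) := AddCommGroup.zmodModule (n := p) (fun x => by
    show Additive.ofMul ((Additive.toMul x) ^ p) = 0
    rw [hexp]; rfl)
  exact exists_hom_GL2_aux p hcard


theorem card_sylow_GL2 {F : Type*} [Field F] [Fintype F] (p : ℕ) [Fact p.Prime] [CharP F p]
    (P : Sylow p (GL (Fin 2) F)) : Nat.card (P : Subgroup (GL (Fin 2) F)) = Nat.card F := by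
  obtain ⟨g, hg⟩ := MulAction.exists_smul_eq (GL (Fin 2) F) (GL2.USylow p) P
  rw [← hg, ← Nat.card_congr (Sylow.equivSMul (GL2.USylow p) g).toEquiv, GL2.USylow_coe, GL2.card_U]

theorem eq_of_le_of_prime_card {G : Type*} [Group G] {Q P : Subgroup G} {p : ℕ} (hp : p.Prime)
    (hle : Q ≤ P) (hne : Q ≠ ⊥) (hcard : Nat.card P = p) : Q = P := by
  have hfin : Finite P := Nat.finite_of_card_ne_zero (by rw [hcard]; exact hp.ne_zero)
  have hdvd : Nat.card Q ∣ Nat.card P := Subgroup.card_dvd_of_le hle
  rw [hcard] at hdvd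
  rcases (Nat.dvd_prime hp).mp hdvd with h1 | h1
  · exact absurd (Subgroup.card_eq_one.mp h1) hne
  · have : Finite (P : Set G) := hfin
    apply Subgroup.eq_of_le_of_card_ge hle
    rw [hcard, h1]

end Cfsg.Agent.Lib.Helper86
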