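import Mathlib

set_option autoImplicit false

/-!
Recognition of the quaternion group of order 8 by generators and relations.
-/

namespace Cfsg.Agent.Lib.Helper86

open QuaternionGroup

section lift

variable {G : Type*} [Group G] (α β : G)

/-- the underlying function of the lift -/
def quat8Fun : QuaternionGroup 2 → G
  | a i => α ^ i.val
  | xa i => β * α ^ i.val

variable {α β}

theorem quat8_E_add (hα4 : α ^ 4 = 1) (i j : ZMod (2 * 2)) :
    α ^ (i + j).val = α ^ i.val * α ^ j.val := by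
  rw [ZMod.val_add, ← pow_add]
  exact (pow_eq_pow_mod _ hα4).symm

theorem quat8_E_sub (hα4 : α ^ 4 = 1) (i j : ZMod (2 * 2)) :
    α ^ (j - i).val = α ^ j.val * (α ^ i.val)⁻¹ := by
  have h := quat8_E_add hα4 (j - i) i
  rw [sub_add_cancel] at h
  rw [h, mul_inv_cancel_right]

theorem quat8_comm (hc : α * β = β * α⁻¹) (k : ℕ) : α ^ k * β = β * (α ^ k)⁻¹ := by
  induction k with
  | zero => simp
  | succ k ih =>
    rw [pow_succ, mul_assoc, hc, ← mul_assoc, ih, mul_assoc, ← mul_inv_rev, ← pow_succ']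
    rw [pow_succ]

theorem quat8Fun_mul (hα4 : α ^ 4 = 1) (hβ : β ^ 2 = α ^ 2) (hc : α * β = β * α⁻¹)
    (x y : QuaternionGroup 2) : quat8Fun α β (x * y) = quat8Fun α β x * quat8Fun α β y := by
  have hcomm : ∀ m n : ℕ, α ^ m * α ^ n = α ^ n * α ^ m := fun m n => by
    rw [← pow_add, ← pow_add, add_comm]
  have hcommi : ∀ m n : ℕ, (α ^ m)⁻¹ * α ^ n = α ^ n * (α ^ m)⁻¹ := fun m n => by
    have := hcomm m n
    calc (α ^ m)⁻¹ * α ^ n = (α ^ m)⁻¹ * (α ^ n * α ^ m) * (α ^ m)⁻¹ := by group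
      _ = (α ^ m)⁻¹ * (α ^ m * α ^ n) * (α ^ m)⁻¹ := by rw [this]
      _ = α ^ n * (α ^ m)⁻¹ := by group
  rcases x with i | i <;> rcases y with j | j
  · rw [a_mul_a]
    simp only [quat8Fun]
    exact quat8_E_add hα4 i j
  · rw [a_mul_xa]
    simp only [quat8Fun]
    rw [quat8_E_sub hα4]
    symm
    calc α ^ i.val * (β * α ^ j.val) = (α ^ i.val * β) * α ^ j.val := by group
      _ = β * (α ^ i.val)⁻¹ * α ^ j.val := by rw [quat8_comm hc]
      _ = β * (α ^ j.val * (α ^ i.val)⁻¹) := by rw [mul_assoc, hcommi]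
  · rw [xa_mul_a]
    simp only [quat8Fun]
    rw [quat8_E_add hα4, mul_assoc]
  · rw [xa_mul_xa]
    simp only [quat8Fun]
    rw [quat8_E_sub hα4, quat8_E_add hα4]
    have h2 : ((2 : ℕ) : ZMod (2 * 2)).val = 2 := by decide
    rw [h2]
    calc α ^ 2 * α ^ j.val * (α ^ i.val)⁻¹ = β * β * (α ^ j.val * (α ^ i.val)⁻¹) := by
          rw [← hβ, pow_two, mul_assoc (β * β)]
      _ = β * β * ((α ^ i.val)⁻¹ * α ^ j.val) := by rw [hcommi]
      _ = β * β * (α ^ i.val)⁻¹ * α ^ j.val := by rw [← mul_assoc]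
      _ = β * (β * (α ^ i.val)⁻¹) * α ^ j.val := by group
      _ = β * (α ^ i.val * β) * α ^ j.val := by rw [quat8_comm hc]
      _ = β * α ^ i.val * (β * α ^ j.val) := by group

/-- the lift as a monoid hom -/
def quat8Hom (hα4 : α ^ 4 = 1) (hβ : β ^ 2 = α ^ 2) (hc : α * β = β * α⁻¹) :
    QuaternionGroup 2 →* G :=
  MonoidHom.mk' (quat8Fun α β) (quat8Fun_mul hα4 hβ hc)

theorem quat8Hom_apply (hα4 : α ^ 4 = 1) (hβ : β ^ 2 = α ^ 2) (hc : α * β = β * α⁻¹)
    (x : QuaternionGroup 2) : quat8Hom hα4 hβ hc x = quat8Fun α β x := rfl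

end lift

/-- A group of order 8 generated by `α` of order 4 and `β ∉ ⟨α⟩` with `β² = α²`,
`β α β⁻¹ = α⁻¹` is the quaternion group. -/
theorem nonempty_mulEquiv_quaternionGroup {G : Type*} [Group G] (hcard : Nat.card G = 8)
    (α β : G) (hα4 : α ^ 4 = 1) (hα2 : α ^ 2 ≠ 1) (hβ : β ^ 2 = α ^ 2)
    (hβα : β ∉ Subgroup.zpowers α) (hc : β * α * β⁻¹ = α⁻¹) :
    Nonempty (G ≃* QuaternionGroup 2) := by
  have hfin : Finite G := Nat.finite_of_card_ne_zero (by rw [hcard]; norm_num)
  have hc' : α * β = β * α⁻¹ := by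
    have h1 : β * α = α⁻¹ * β := by
      calc β * α = β * α * β⁻¹ * β := by group
        _ = α⁻¹ * β := by rw [hc]
    calc α * β = α * (α⁻¹ * β) * α⁻¹ := by rw [← h1]; group
      _ = β * α⁻¹ := by group
  set φ := quat8Hom hα4 hβ hc' with hφ
  have hord : orderOf α = 4 := by
    have h4 : orderOf α ∣ 4 := orderOf_dvd_of_pow_eq_one hα4
    have h2 : ¬ orderOf α ∣ 2 := fun h => hα2 (orderOf_dvd_iff_pow_eq_one.mp h)
    have hle : orderOf α ≤ 4 := Nat.le_of_dvd (by norm_num) h4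
    interval_cases h : orderOf α
    · simp at h4
    · exact absurd (one_dvd 2) h2
    · exact absurd (dvd_refl 2) h2
    · norm_num at h4
    · rfl
  have hinj : Function.Injective φ := by
    rw [injective_iff_map_eq_one]
    intro x hx
    rw [hφ, quat8Hom_apply] at hx
    rcases x with i | i
    · simp only [quat8Fun] at hx
      have h1 : orderOf α ∣ i.val := orderOf_dvd_of_pow_eq_one hx
      rw [hord] at h1
      have h2 : i.val < 4 := ZMod.val_lt i
      have h3 : i.val = 0 := by omega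
      have h4 : i = 0 := by
        rw [← ZMod.natCast_zmod_val i, h3]; simp
      rw [h4]; rfl
    · exfalso
      simp only [quat8Fun] at hx
      apply hβα
      have : β = (α ^ i.val)⁻¹ := eq_inv_of_mul_eq_one_left hx
      rw [this]
      exact inv_mem (Subgroup.pow_mem _ (Subgroup.mem_zpowers α) _)
  have hcardQ : Nat.card (QuaternionGroup 2) = 8 := by
    rw [Nat.card_eq_fintype_card, QuaternionGroup.card]
  have hbij : Function.Bijective φ := by
    rw [Nat.bijective_iff_injective_and_card]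
    exact ⟨hinj, by rw [hcardQ, hcard]⟩
  exact ⟨(MulEquiv.ofBijective φ hbij).symm⟩

end Cfsg.Agent.Lib.Helper86
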