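import Mathlib
import Cfsg.Prelude.Def_Transfer
import Cfsg.Agent.Lib.Helper86.AutChain
import Cfsg.Agent.Lib.Helper86.QuatLift
import Cfsg.Agent.Lib.Helper86.Ess
import Cfsg.Agent.Lib.Helper29.ClassTwo
import Cfsg.Agent.Lib.Helper47.Frattini
import Cfsg.Agent.Lib.Helper2.PGroup

set_option autoImplicit false

/-!
Groups of order `p³`: either elementary abelian, extraspecial of exponent `p` (`p` odd),
quaternion (`p = 2`), or there is a characteristic chain with factors of order `p`.
-/

namespace Cfsg.Agent.Lib.Helper86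

open scoped commutatorElement

/-- the data of a characteristic chain `⊤ > C₁ > C₂ > ⊥` with factors of order `p` -/
def HasCharChain3 (p : ℕ) (H : Type*) [Group H] : Prop :=
  ∃ C₁ C₂ : Subgroup H, C₂ ≤ C₁ ∧ Nat.card C₁ = p ^ 2 ∧ Nat.card C₂ = p ∧
    (∀ σ : MulAut H, ∀ x ∈ C₁, σ x ∈ C₁) ∧ (∀ σ : MulAut H, ∀ x ∈ C₂, σ x ∈ C₂)

theorem sylow_unique_of_chain3 {H : Type*} [Group H] [Finite H] (p : ℕ) [Fact p.Prime]
    (hcard : Nat.card H = p ^ 3) (hch : HasCharChain3 p H)
    (A : Subgroup (MulAut H)) (N : Subgroup A) [N.Normal] (hN : IsPGroup p N)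
    (P₁ P₂ : Sylow p (A ⧸ N)) : P₁ = P₂ := by
  obtain ⟨C₁, C₂, h21, hc1, hc2, hch1, hch2⟩ := hch
  have hH : IsPGroup p H := IsPGroup.of_card hcard
  let C : ℕ → Subgroup H := fun i => match i with
    | 0 => ⊤
    | 1 => C₁
    | 2 => C₂
    | _ => ⊥
  have hC0 : C 0 = ⊤ := rfl
  have hC1 : C 1 = C₁ := rfl
  have hC2 : C 2 = C₂ := rfl
  have hC3 : C 3 = ⊥ := rfl
  obtain ⟨K, hK, hKall⟩ := exists_pgroup_of_chain p hH 3 C hC0 hC3 (by
      intro i hi
      interval_cases i
      · rw [hC0]; exact le_top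
      · rw [hC1, hC2]; exact h21
      · rw [hC3]; exact bot_le) (by
      intro i σ x hx
      rcases i with _ | _ | _ | i
      · rw [hC0]; exact Subgroup.mem_top _
      · rw [hC1] at hx ⊢; exact hch1 σ x hx
      · rw [hC2] at hx ⊢; exact hch2 σ x hx
      · have h : C (i + 3) = ⊥ := rfl
        rw [h, Subgroup.mem_bot] at hx ⊢
        rw [hx, map_one]) (by
      intro i hi
      interval_cases i
      · rw [hC0, hC1, Subgroup.card_top, hcard, hc1]; ring
      · rw [hC1, hC2, hc1, hc2]; ring
      · rw [hC2, hC3, hc2, Subgroup.card_bot]; ring)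
  exact sylow_unique_of_pgroup p K hK hKall A N hN P₁ P₂

/-- the centre is invariant under automorphisms -/
theorem center_invariant {H : Type*} [Group H] (σ : MulAut H) (x : H)
    (hx : x ∈ Subgroup.center H) : σ x ∈ Subgroup.center H := by
  rw [Subgroup.mem_center_iff] at hx ⊢
  intro g
  have h := hx (σ⁻¹ g)
  have h2 : σ (σ⁻¹ g) = g := by rw [← MulAut.mul_apply, mul_inv_cancel]; rfl
  have := congrArg σ h
  rw [map_mul, map_mul, h2] at this
  exact this

theorem card_eq_prime_pow_of_dvd {p n : ℕ} (hp : p.Prime) {k : ℕ} (h : n ∣ p ^ k) :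
    ∃ a ≤ k, n = p ^ a := (Nat.dvd_prime_pow hp).mp h

/-- abelian, not elementary abelian, order `p³` -/
theorem abelian_case {H : Type*} [Group H] [Finite H] (p : ℕ) [Fact p.Prime]
    (hcard : Nat.card H = p ^ 3) (hcomm : ∀ a b : H, a * b = b * a)
    (hexp : ¬ ∀ a : H, a ^ p = 1) : HasCharChain3 p H := by
  have hp : p.Prime := Fact.out
  let P : H →* H := MonoidHom.mk' (fun x => x ^ p) (fun a b => (show Commute a b from hcomm a b).mul_pow p)
  have hP : ∀ x, P x = x ^ p := fun x => rfl
  have hΩchar : ∀ σ : MulAut H, ∀ x ∈ P.ker, σ x ∈ P.ker := by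
    intro σ x hx
    rw [MonoidHom.mem_ker, hP] at hx ⊢
    rw [← map_pow, hx, map_one]
  have hUchar : ∀ σ : MulAut H, ∀ x ∈ P.range, σ x ∈ P.range := by
    rintro σ _ ⟨y, rfl⟩
    exact ⟨σ y, by rw [hP, hP, map_pow]⟩
  have hmul : Nat.card P.ker * Nat.card P.range = p ^ 3 := by
    rw [← Subgroup.index_ker, Subgroup.card_mul_index, hcard]
  have hΩne : P.ker ≠ ⊥ := by
    obtain ⟨x, hx⟩ := exists_prime_orderOf_dvd_card' p (by rw [hcard]; exact dvd_pow_self p (by norm_num))
    intro hbot
    have hxk : x ∈ P.ker := by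
      rw [MonoidHom.mem_ker, hP, ← hx]; exact pow_orderOf_eq_one x
    rw [hbot, Subgroup.mem_bot] at hxk
    rw [hxk, orderOf_one] at hx
    exact hp.one_lt.ne hx
  have hUne : P.range ≠ ⊥ := by
    intro hbot
    apply hexp
    intro a
    have : P a ∈ P.range := ⟨a, rfl⟩
    rw [hbot, Subgroup.mem_bot, hP] at this
    exact this
  have hdvd : Nat.card P.ker ∣ p ^ 3 := Dvd.intro _ hmul
  obtain ⟨a, ha, hca⟩ := (Nat.dvd_prime_pow hp).mp hdvd
  have hcU : Nat.card P.range = p ^ (3 - a) := by
    have h1 : p ^ a * Nat.card P.range = p ^ a * p ^ (3 - a) := by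
      rw [← hca, hmul, hca, ← pow_add]; congr 1; omega
    exact Nat.eq_of_mul_eq_mul_left (pow_pos hp.pos a) h1
  have ha0 : a ≠ 0 := by
    intro h0
    apply hΩne
    apply Subgroup.eq_bot_of_card_eq
    rw [hca, h0, pow_zero]
  have ha3 : a ≠ 3 := by
    intro h3
    apply hUne
    apply Subgroup.eq_bot_of_card_eq
    rw [hcU, h3]; rfl
  have ha12 : a = 1 ∨ a = 2 := by omega
  rcases ha12 with h1 | h2
  · -- |Ω| = p, |℧| = p²
    subst h1
    rw [pow_one] at hca
    have hcU' : Nat.card P.range = p ^ 2 := hcU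
    refine ⟨P.range, P.ker, ?_, hcU', hca, hUchar, hΩchar⟩
    -- Ω ≤ ℧
    have hpdvd : p ∣ Nat.card P.range := by rw [hcU']; exact dvd_pow_self p (by norm_num)
    obtain ⟨y, hy⟩ := exists_prime_orderOf_dvd_card' p hpdvd
    have hyk : (y : H) ∈ P.ker := by
      rw [MonoidHom.mem_ker, hP]
      have : y ^ p = 1 := by rw [← hy]; exact pow_orderOf_eq_one y
      have := congrArg Subtype.val this
      simpa using this
    have hy1 : (y : H) ≠ 1 := by
      intro h
      have : y = 1 := Subtype.ext h
      rw [this, orderOf_one] at hy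
      exact hp.one_lt.ne hy
    have heq : Subgroup.zpowers (y : H) = P.ker := by
      apply eq_of_le_of_prime_card hp
      · rw [Subgroup.zpowers_le]; exact hyk
      · intro hbot
        apply hy1
        have := Subgroup.mem_zpowers (y : H)
        rw [hbot, Subgroup.mem_bot] at this
        exact this
      · exact hca
    rw [← heq, Subgroup.zpowers_le]
    exact y.2
  · -- |Ω| = p², |℧| = p
    subst h2
    have hcU' : Nat.card P.range = p := by rw [hcU]; norm_num
    refine ⟨P.ker, P.range, ?_, hca, hcU', hΩchar, hUchar⟩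
    intro y hy
    rw [MonoidHom.mem_ker, hP]
    have : (⟨y, hy⟩ : P.range) ^ p = 1 := by
      rw [← hcU']; exact pow_card_eq_one'
    have := congrArg Subtype.val this
    simpa using this

/-- basic structure of a nonabelian group of order `p³` -/
theorem nonabelian_basic {H : Type*} [Group H] [Finite H] (p : ℕ) [Fact p.Prime]
    (hcard : Nat.card H = p ^ 3) (hna : ¬ ∀ a b : H, a * b = b * a) :
    Nat.card (Subgroup.center H) = p ∧ commutator H = Subgroup.center H ∧
      ∀ x : H, x ^ p ∈ Subgroup.center H := by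
  have hp : p.Prime := Fact.out
  have hH : IsPGroup p H := IsPGroup.of_card hcard
  have hnt : Nontrivial H := by
    rw [← Finite.one_lt_card_iff_nontrivial, hcard]
    exact Nat.one_lt_pow (by norm_num) hp.one_lt
  have hdvd : Nat.card (Subgroup.center H) ∣ p ^ 3 := hcard ▸ Subgroup.card_subgroup_dvd_card _
  obtain ⟨a, ha, hca⟩ := (Nat.dvd_prime_pow hp).mp hdvd
  have hidx : Nat.card (H ⧸ Subgroup.center H) * p ^ a = p ^ 3 := by
    have := Subgroup.card_eq_card_quotient_mul_card_subgroup (Subgroup.center H)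
    rw [hcard, hca] at this
    exact this.symm
  have hcardQ : Nat.card (H ⧸ Subgroup.center H) = p ^ (3 - a) := by
    have h1 : Nat.card (H ⧸ Subgroup.center H) * p ^ a = p ^ (3 - a) * p ^ a := by
      rw [hidx, ← pow_add]; congr 1; omega
    exact Nat.eq_of_mul_eq_mul_right (pow_pos hp.pos a) h1
  have hker : (QuotientGroup.mk' (Subgroup.center H)).ker ≤ Subgroup.center H := by
    rw [QuotientGroup.ker_mk']
  have ha0 : a ≠ 0 := by
    intro h0
    have hntc : Nontrivial (Subgroup.center H) := hH.center_nontrivial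
    rw [← Finite.one_lt_card_iff_nontrivial, hca, h0, pow_zero] at hntc
    exact lt_irrefl _ hntc
  have ha3 : a ≠ 3 := by
    intro h3
    apply hna
    have htop : Subgroup.center H = ⊤ := by
      apply Subgroup.eq_top_of_card_eq
      rw [hca, h3, hcard]
    intro x y
    have hy : y ∈ Subgroup.center H := by rw [htop]; exact Subgroup.mem_top y
    exact (Subgroup.mem_center_iff.mp hy) x
  have ha2 : a ≠ 2 := by
    intro h2
    apply hna
    have hc : Nat.card (H ⧸ Subgroup.center H) = p := by rw [hcardQ, h2]; norm_num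
    have hcyc : IsCyclic (H ⧸ Subgroup.center H) := isCyclic_of_prime_card hc
    exact isMulCommutative_iff.mp
      (MonoidHom.isMulCommutative_of_isCyclic_of_ker_le_center
        (QuotientGroup.mk' (Subgroup.center H)) hker)
  have ha1 : a = 1 := by omega
  subst ha1
  rw [pow_one] at hca
  have hcQ : Nat.card (H ⧸ Subgroup.center H) = p ^ 2 := hcardQ
  have hQcomm : IsMulCommutative (H ⧸ Subgroup.center H) :=
    IsPGroup.isMulCommutative_of_card_eq_prime_sq hcQ
  have hle : commutator H ≤ Subgroup.center H :=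
    Subgroup.Normal.quotient_commutative_iff_commutator_le.mp hQcomm
  have hne : commutator H ≠ ⊥ := by
    intro hbot
    apply hna
    intro x y
    have : ⁅x, y⁆ ∈ commutator H := Subgroup.commutator_mem_commutator (Subgroup.mem_top x) (Subgroup.mem_top y)
    rw [hbot, Subgroup.mem_bot] at this
    exact commutatorElement_eq_one_iff_mul_comm.mp this
  refine ⟨hca, eq_of_le_of_prime_card hp hle hne hca, ?_⟩
  intro x
  rw [← QuotientGroup.eq_one_iff, QuotientGroup.mk_pow]
  set y : H ⧸ Subgroup.center H := (x : H ⧸ Subgroup.center H) with hy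
  have hdvdy : orderOf y ∣ p ^ 2 := hcQ ▸ orderOf_dvd_natCard y
  obtain ⟨k, hk, hky⟩ := (Nat.dvd_prime_pow hp).mp hdvdy
  have hk2 : k ≠ 2 := by
    intro h2
    apply hna
    have hcyc : IsCyclic (H ⧸ Subgroup.center H) :=
      isCyclic_of_orderOf_eq_card y (by rw [hky, h2, hcQ])
    exact isMulCommutative_iff.mp
      (MonoidHom.isMulCommutative_of_isCyclic_of_ker_le_center
        (QuotientGroup.mk' (Subgroup.center H)) hker)
  have hk1 : k ≤ 1 := by omega
  rw [← orderOf_dvd_iff_pow_eq_one, hky]
  exact (Nat.pow_dvd_pow_iff_le_right hp.one_lt).mpr hk1 |>.trans (by rw [pow_one])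

/-- nonabelian of order `p³` and exponent `p` is extraspecial -/
theorem extraspecial_of_exponent {H : Type*} [Group H] [Finite H] (p : ℕ) [Fact p.Prime]
    (hcard : Nat.card H = p ^ 3) (hna : ¬ ∀ a b : H, a * b = b * a)
    (hexp : ∀ x : H, x ^ p = 1) : Cfsg.IsExtraspecial p H := by
  have hH : IsPGroup p H := IsPGroup.of_card hcard
  obtain ⟨hZ, hcZ, -⟩ := nonabelian_basic p hcard hna
  refine ⟨⟨hH, ?_, hcZ⟩, hZ⟩
  apply le_antisymm
  · apply Cfsg.Agent.Lib.Helper47.frattini_le_of_elementary_abelian_quotient p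
    · intro x y
      rw [← hcZ]
      exact Subgroup.commutator_mem_commutator (Subgroup.mem_top x) (Subgroup.mem_top y)
    · intro x
      rw [hexp]; exact one_mem _
  · rw [← hcZ]
    exact Cfsg.Agent.Lib.Helper2.commutator_le_frattini hH

/-- nonabelian, `p` odd, order `p³`, exponent not `p` -/
theorem nonabelian_odd_case {H : Type*} [Group H] [Finite H] (p : ℕ) [Fact p.Prime]
    (hcard : Nat.card H = p ^ 3) (hp2 : p ≠ 2) (hna : ¬ ∀ a b : H, a * b = b * a)
    (hexp : ¬ ∀ x : H, x ^ p = 1) : HasCharChain3 p H := by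
  have hp : p.Prime := Fact.out
  obtain ⟨hZ, hcZ, hpow⟩ := nonabelian_basic p hcard hna
  have hle : commutator H ≤ Subgroup.center H := hcZ.le
  have hZpow : ∀ z ∈ Subgroup.center H, z ^ p = 1 := by
    intro z hz
    have : (⟨z, hz⟩ : Subgroup.center H) ^ p = 1 := by
      rw [← hZ]; exact pow_card_eq_one'
    have := congrArg Subtype.val this
    simpa using this
  let P : H →* H := MonoidHom.mk' (fun x => x ^ p) (fun x y => by
    apply Cfsg.Agent.Lib.Helper29.mul_pow_prime_classTwo hle hp hp2 x y
    apply hZpow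
    exact hle (Cfsg.Agent.Lib.Helper29.cm_mem_commutator y x))
  have hP : ∀ x, P x = x ^ p := fun x => rfl
  have hΩchar : ∀ σ : MulAut H, ∀ x ∈ P.ker, σ x ∈ P.ker := by
    intro σ x hx
    rw [MonoidHom.mem_ker, hP] at hx ⊢
    rw [← map_pow, hx, map_one]
  have hrange : P.range = Subgroup.center H := by
    apply eq_of_le_of_prime_card hp
    · rintro _ ⟨x, rfl⟩
      rw [hP]; exact hpow x
    · intro hbot
      apply hexp
      intro x
      have : P x ∈ P.range := ⟨x, rfl⟩
      rw [hbot, Subgroup.mem_bot, hP] at this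
      exact this
    · exact hZ
  have hmul : Nat.card P.ker * Nat.card P.range = p ^ 3 := by
    rw [← Subgroup.index_ker, Subgroup.card_mul_index, hcard]
  have hker : Nat.card P.ker = p ^ 2 := by
    rw [hrange, hZ] at hmul
    have : Nat.card P.ker * p = p ^ 2 * p := by rw [hmul]; ring
    exact Nat.eq_of_mul_eq_mul_right hp.pos this
  refine ⟨P.ker, Subgroup.center H, ?_, hker, hZ, hΩchar, fun σ x hx => center_invariant σ x hx⟩
  intro z hz
  rw [MonoidHom.mem_ker, hP]
  exact hZpow z hz

/-- nonabelian of order 8 -/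
theorem nonabelian_two_case {H : Type*} [Group H] [Finite H]
    (hcard : Nat.card H = 2 ^ 3) (hna : ¬ ∀ a b : H, a * b = b * a) :
    Nonempty (H ≃* QuaternionGroup 2) ∨ HasCharChain3 2 H := by
  have : Fact (Nat.Prime 2) := ⟨Nat.prime_two⟩
  obtain ⟨hZ, hcZ, hpow⟩ := nonabelian_basic 2 hcard hna
  have hle : commutator H ≤ Subgroup.center H := hcZ.le
  have hZpow : ∀ z ∈ Subgroup.center H, z ^ 2 = 1 := by
    intro z hz
    have : (⟨z, hz⟩ : Subgroup.center H) ^ 2 = 1 := by
      rw [← hZ]; exact pow_card_eq_one'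
    have := congrArg Subtype.val this
    simpa using this
  -- an element of order 4
  have hex : ∃ a : H, a ^ 2 ≠ 1 := by
    by_contra hcon
    push Not at hcon
    apply hna
    intro x y
    have hx : x⁻¹ = x := by
      rw [inv_eq_iff_mul_eq_one, ← pow_two]; exact hcon x
    have hy : y⁻¹ = y := by
      rw [inv_eq_iff_mul_eq_one, ← pow_two]; exact hcon y
    have hxy : (x * y)⁻¹ = x * y := by
      rw [inv_eq_iff_mul_eq_one, ← pow_two]; exact hcon (x * y)
    rw [mul_inv_rev, hx, hy] at hxy
    exact hxy.symm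
  obtain ⟨a, ha2⟩ := hex
  have hzZ : a ^ 2 ∈ Subgroup.center H := hpow a
  have ha4 : a ^ 4 = 1 := by
    have := hZpow _ hzZ
    rw [← pow_mul] at this
    exact this
  -- elements of the centre
  have hZelts : ∀ z ∈ Subgroup.center H, z = 1 ∨ z = a ^ 2 := by
    intro z hz
    by_contra hcon
    push Not at hcon
    obtain ⟨y, -, hy⟩ := (Nat.card_eq_two_iff' (1 : Subgroup.center H)).mp hZ
    have h1 : (⟨a ^ 2, hzZ⟩ : Subgroup.center H) = y := hy _ (fun h => ha2 (congrArg Subtype.val h))
    have h2 : (⟨z, hz⟩ : Subgroup.center H) = y := hy _ (fun h => hcon.1 (congrArg Subtype.val h))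
    exact hcon.2 (congrArg Subtype.val (h2.trans h1.symm))
  have hord : orderOf a = 4 := by
    have h4 : orderOf a ∣ 4 := orderOf_dvd_of_pow_eq_one ha4
    have h2 : ¬ orderOf a ∣ 2 := fun h => ha2 (orderOf_dvd_iff_pow_eq_one.mp h)
    have hle4 : orderOf a ≤ 4 := Nat.le_of_dvd (by norm_num) h4
    interval_cases h : orderOf a
    · simp at h4
    · exact absurd (one_dvd 2) h2
    · exact absurd (dvd_refl 2) h2
    · norm_num at h4
    · rfl
  have hcA : Nat.card (Subgroup.zpowers a) = 4 := by rw [Nat.card_zpowers, hord]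
  have hidxA : (Subgroup.zpowers a).index = 2 := by
    have := Subgroup.card_mul_index (Subgroup.zpowers a)
    rw [hcA, hcard] at this
    omega
  -- relations for elements outside ⟨a⟩
  have hrel : ∀ b : H, b ∉ Subgroup.zpowers a → b * a * b⁻¹ = a⁻¹ := by
    intro b hb
    have hnc : a * b ≠ b * a := by
      intro hab
      -- the centralizer of a is everything
      have hCa : Subgroup.zpowers a ≤ Subgroup.centralizer {a} := by
        rw [Subgroup.zpowers_le, Subgroup.mem_centralizer_iff]
        intro h hh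
        rw [Set.mem_singleton_iff] at hh
        rw [hh]
      have hbC : b ∈ Subgroup.centralizer {a} := by
        rw [Subgroup.mem_centralizer_iff]
        intro h hh
        rw [Set.mem_singleton_iff] at hh
        rw [hh]; exact hab
      have hdvd1 : 4 ∣ Nat.card (Subgroup.centralizer ({a} : Set H)) := by
        rw [← hcA]; exact Subgroup.card_dvd_of_le hCa
      have hdvd2 : Nat.card (Subgroup.centralizer ({a} : Set H)) ∣ 8 := by
        have := Subgroup.card_subgroup_dvd_card (Subgroup.centralizer ({a} : Set H))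
        rw [hcard] at this
        exact this
      have hne4 : Nat.card (Subgroup.centralizer ({a} : Set H)) ≠ 4 := by
        intro h4
        apply hb
        have : Subgroup.zpowers a = Subgroup.centralizer {a} :=
          Subgroup.eq_of_le_of_card_ge hCa (by rw [h4, hcA])
        rw [this]; exact hbC
      have h8 : Nat.card (Subgroup.centralizer ({a} : Set H)) = 8 := by
        have hle8 := Nat.le_of_dvd (by norm_num) hdvd2
        have hpos : 0 < Nat.card (Subgroup.centralizer ({a} : Set H)) := Nat.card_pos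
        obtain ⟨k, hk⟩ := hdvd1
        have : k = 2 := by
          have hk1 : k ≠ 1 := by intro h1; apply hne4; rw [hk, h1]
          have hk0 : k ≠ 0 := by intro h0; rw [hk, h0] at hpos; exact lt_irrefl _ hpos
          have : k ≤ 2 := by omega
          omega
        rw [hk, this]
      have htop : Subgroup.centralizer ({a} : Set H) = ⊤ :=
        Subgroup.eq_top_of_card_eq _ (by rw [h8, hcard]; norm_num)
      have haZ : a ∈ Subgroup.center H := by
        rw [Subgroup.mem_center_iff]
        intro g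
        have hg : g ∈ Subgroup.centralizer ({a} : Set H) := by rw [htop]; exact Subgroup.mem_top g
        rw [Subgroup.mem_centralizer_iff] at hg
        exact (hg a rfl).symm
      exact ha2 (hZpow a haZ)
    have hcomm : ⁅a, b⁆ ∈ Subgroup.center H :=
      hle (Subgroup.commutator_mem_commutator (Subgroup.mem_top a) (Subgroup.mem_top b))
    have hcne : ⁅a, b⁆ ≠ 1 := fun h => hnc (commutatorElement_eq_one_iff_mul_comm.mp h)
    have hceq : ⁅a, b⁆ = a ^ 2 := (hZelts _ hcomm).resolve_left hcne
    rw [commutatorElement_def] at hceq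
    have h1 : b * a⁻¹ * b⁻¹ = a := by
      calc b * a⁻¹ * b⁻¹ = a⁻¹ * (a * b * a⁻¹ * b⁻¹) := by group
        _ = a⁻¹ * a ^ 2 := by rw [hceq]
        _ = a := by group
    calc b * a * b⁻¹ = (b * a⁻¹ * b⁻¹)⁻¹ := by group
      _ = a⁻¹ := by rw [h1]
  have hsq : ∀ b : H, b ^ 2 = 1 ∨ b ^ 2 = a ^ 2 := fun b => hZelts _ (hpow b)
  have hexb : ∃ b : H, b ∉ Subgroup.zpowers a := by
    by_contra hcon
    push Not at hcon
    have : Subgroup.zpowers a = ⊤ := by
      rw [eq_top_iff]; intro x _; exact hcon x
    rw [this, Subgroup.card_top, hcard] at hcA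
    norm_num at hcA
  by_cases hinv : ∃ b : H, b ∉ Subgroup.zpowers a ∧ b ^ 2 = 1
  · right
    obtain ⟨b, hb, hb2⟩ := hinv
    have hbrel := hrel b hb
    -- every element with nontrivial square lies in ⟨a⟩
    have hclaim : ∀ x : H, x ^ 2 ≠ 1 → x ∈ Subgroup.zpowers a := by
      intro x hx2
      by_contra hx
      apply hx2
      have hmem : b⁻¹ * x ∈ Subgroup.zpowers a := by
        rw [Subgroup.mul_mem_iff_of_index_two hidxA]
        constructor
        · intro h; exact absurd (inv_mem_iff.mp h) hb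
        · intro h; exact absurd h hx
      obtain ⟨k, hk⟩ := Subgroup.mem_zpowers_iff.mp hmem
      have hxeq : x = b * a ^ k := by rw [hk]; group
      have hconj : b * a ^ k * b⁻¹ = (a ^ k)⁻¹ := by
        have : b * a ^ k * b⁻¹ = (b * a * b⁻¹) ^ k := by
          rw [conj_zpow]
        rw [this, hbrel, inv_zpow]
      have hb' : b⁻¹ = b := by
        rw [inv_eq_iff_mul_eq_one, ← pow_two]; exact hb2
      rw [hb'] at hconj
      rw [hxeq, pow_two]
      calc b * a ^ k * (b * a ^ k) = (b * a ^ k * b) * a ^ k := by group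
        _ = 1 := by rw [hconj]; group
    refine ⟨Subgroup.zpowers a, Subgroup.center H, ?_, by rw [hcA]; norm_num, hZ, ?_,
      fun σ x hx => center_invariant σ x hx⟩
    · intro z hz
      rcases hZelts z hz with h | h
      · rw [h]; exact one_mem _
      · rw [h]; exact Subgroup.pow_mem _ (Subgroup.mem_zpowers a) 2
    · intro σ x hx
      obtain ⟨k, rfl⟩ := Subgroup.mem_zpowers_iff.mp hx
      rw [map_zpow]
      apply Subgroup.zpow_mem
      apply hclaim
      rw [← map_pow]
      intro h
      apply ha2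
      exact (MulEquiv.map_eq_one_iff σ).mp h
  · left
    push Not at hinv
    obtain ⟨b, hb⟩ := hexb
    have hb2 : b ^ 2 = a ^ 2 := (hsq b).resolve_left (hinv b hb)
    exact nonempty_mulEquiv_quaternionGroup (by rw [hcard]; norm_num) a b ha4 ha2 hb2 hb (hrel b hb)

end Cfsg.Agent.Lib.Helper86
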