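import Mathlib
import Cfsg.Agent.S1137

set_option autoImplicit false
set_option linter.style.haveILetI false
set_option linter.unusedSectionVars false

/-! Shared definitions for the Higman theorem on Suzuki 2-groups (S1138). -/

namespace Cfsg.Agent.Lib.Helper86.Suz

universe u v

variable {𝕂 : Type v} [Group 𝕂] {G : Type u} [Group G]

/-- A finite non-abelian 2-group with at least two involutions, acted on by a group `𝕂` which is
regular on the involutions. -/
structure Ctx (φ : 𝕂 →* MulAut G) : Prop where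
  fin : Finite G
  pg : IsPGroup 2 G
  nonab : ∃ x y : G, x * y ≠ y * x
  two : ∃ s t : G, s ≠ t ∧ s ≠ 1 ∧ s * s = 1 ∧ t ≠ 1 ∧ t * t = 1
  trans : ∀ s t : G, s ≠ 1 → s * s = 1 → t ≠ 1 → t * t = 1 → ∃ k : 𝕂, φ k s = t
  free : ∀ (k : 𝕂) (s : G), s ≠ 1 → s * s = 1 → φ k s = s → k = 1

/-- `𝕂`-invariant subgroups. -/
def Inv (φ : 𝕂 →* MulAut G) (H : Subgroup G) : Prop := ∀ (k : 𝕂) (x : G), x ∈ H → φ k x ∈ H

/-- The restricted action on an invariant subgroup. -/
def res (φ : 𝕂 →* MulAut G) (H : Subgroup G) (hH : Inv φ H) : 𝕂 →* MulAut H where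
  toFun k :=
    { toFun := fun x => ⟨φ k x, hH k x x.2⟩
      invFun := fun x => ⟨φ k⁻¹ x, hH k⁻¹ x x.2⟩
      left_inv := fun x => by
        apply Subtype.ext
        show φ k⁻¹ (φ k x) = x
        rw [map_inv]; exact (φ k).symm_apply_apply x
      right_inv := fun x => by
        apply Subtype.ext
        show φ k (φ k⁻¹ x) = x
        rw [map_inv]; exact (φ k).apply_symm_apply x
      map_mul' := fun x y => by
        apply Subtype.ext
        show φ k (x * y : G) = φ k x * φ k y
        exact map_mul _ _ _ }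
  map_one' := by
    ext x
    show φ 1 (x : G) = x
    rw [map_one]; rfl
  map_mul' k l := by
    ext x
    show φ (k * l) (x : G) = φ k (φ l x)
    rw [map_mul]; rfl

@[simp] theorem res_apply (φ : 𝕂 →* MulAut G) (H : Subgroup G) (hH : Inv φ H) (k : 𝕂) (x : H) :
    ((res φ H hH k x : H) : G) = φ k x := rfl

end Cfsg.Agent.Lib.Helper86.Suz
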