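import Mathlib
import Cfsg.Agent.Lib.Helper86.SuzDefs
import Cfsg.Agent.Lib.Helper59.SuzT1
import Cfsg.Agent.Lib.Helper9.SuzT3
import Cfsg.Agent.Lib.Helper59.SuzT5
import Cfsg.Agent.Lib.Helper70.SuzT7
import Cfsg.Agent.Lib.Helper70.SuzT8

set_option autoImplicit false
set_option linter.style.haveILetI false
set_option linter.unusedSectionVars false

namespace Cfsg.Agent.Lib.Helper86.Suz

open Cfsg.Agent.S1137 (cm cm_eq_one_iff cm_map cm_self cm_left_central cm_right_central cswap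
  map_mem_center)

universe u v
variable {𝕂 : Type v} [Group 𝕂] {G : Type u} [Group G] {φ : 𝕂 →* MulAut G}

theorem cm_mul_left' {a a' b : G} (hc : cm a b ∈ Subgroup.center G) :
    cm (a * a') b = cm a b * cm a' b := by
  have h1 : a⁻¹ * b⁻¹ * a = cm a b * b⁻¹ := by rw [cm]; group
  calc cm (a * a') b = a'⁻¹ * (a⁻¹ * b⁻¹ * a) * a' * b := by rw [cm]; group
    _ = a'⁻¹ * (cm a b * b⁻¹) * a' * b := by rw [h1]
    _ = (a'⁻¹ * cm a b) * b⁻¹ * a' * b := by group
    _ = (cm a b * a'⁻¹) * b⁻¹ * a' * b := by rw [cswap hc a'⁻¹]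
    _ = cm a b * cm a' b := by rw [cm, cm]; group

theorem cm_mul_right' {a b b' : G} (hc : cm a b ∈ Subgroup.center G) :
    cm a (b * b') = cm a b * cm a b' := by
  have h1 : b⁻¹ * a * b = a * cm a b := by rw [cm]; group
  calc cm a (b * b') = a⁻¹ * b'⁻¹ * (b⁻¹ * a * b) * b' := by rw [cm]; group
    _ = a⁻¹ * b'⁻¹ * (a * cm a b) * b' := by rw [h1]
    _ = a⁻¹ * b'⁻¹ * a * (cm a b * b') := by group
    _ = a⁻¹ * b'⁻¹ * a * (b' * cm a b) := by rw [← cswap hc b']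
    _ = (a⁻¹ * b'⁻¹ * a * b') * cm a b := by group
    _ = cm a b * cm a b' := by rw [← cswap hc]; rfl

theorem cm_one_left (b : G) : cm 1 b = 1 := by rw [cm]; group
theorem cm_one_right (a : G) : cm a 1 = 1 := by rw [cm]; group

theorem Inv.centralizer {H : Subgroup G} (hH : Inv φ H) :
    Inv φ (Subgroup.centralizer (H : Set G)) := by
  intro k g hg
  rw [Subgroup.mem_centralizer_iff] at hg ⊢
  intro y hy
  have h1 := hg (φ k⁻¹ y) (hH k⁻¹ y hy)
  have h2 := congrArg (φ k) h1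
  rw [map_mul, map_mul, map_inv] at h2
  simpa using h2

theorem Inv.inf {H H' : Subgroup G} (hH : Inv φ H) (hH' : Inv φ H') : Inv φ (H ⊓ H') :=
  fun k x hx => ⟨hH k x hx.1, hH' k x hx.2⟩

/-- the output of the first stage -/
structure Pack (φ : 𝕂 →* MulAut G) (D X : Subgroup G) : Prop where
  Dinv : Inv φ D
  Dnormal : D.Normal
  Dcomm : ∀ a ∈ D, ∀ b ∈ D, a * b = b * a
  sqD : ∀ g : G, g * g ∈ D
  X_def : ∀ x, x ∈ X ↔ x ∈ D ∧ x ^ 4 = 1
  cmX : ∀ x ∈ X, ∀ g, cm x g ∈ Subgroup.center G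
  ker : ∀ g, (∀ x ∈ X, cm x g = 1) → g ∈ D
  sq_onto : ∀ z ∈ Subgroup.center G, ∃ x ∈ X, x * x = z
  Dne : ∃ g, g ∉ D
  Z2D : ∀ x, (∀ g, cm x g ∈ Subgroup.center G) → x ∈ D

theorem Ctx.commK (hcyc : IsCyclic 𝕂) : ∀ a b : 𝕂, a * b = b * a := by
  letI := IsCyclic.commGroup (α := 𝕂)
  exact fun a b => mul_comm a b

theorem Ctx.sqK (h : Ctx φ) (hcyc : IsCyclic 𝕂) : ∀ k : 𝕂, ∃ l : 𝕂, l * l = k := by
  have := h.fin
  have := h.finiteK
  have hcard := h.card_K hcyc
  obtain ⟨n, hn⟩ := IsPGroup.iff_card.mp (h.pg.to_subgroup (Subgroup.center G))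
  have hn1 : 1 ≤ n := by
    by_contra hlt
    have hn0 : n = 0 := by omega
    rw [hn0, pow_zero] at hn
    have : 0 < Nat.card 𝕂 := Nat.card_pos
    omega
  have h2dvd : 2 ∣ 2 ^ n := dvd_pow_self 2 (by omega)
  obtain ⟨r, hr⟩ : ∃ r, Nat.card 𝕂 = 2 * r + 1 := by
    obtain ⟨c, hc⟩ := h2dvd
    refine ⟨c - 1, ?_⟩
    have : 0 < Nat.card 𝕂 := Nat.card_pos
    omega
  intro k
  refine ⟨k ^ (r + 1), ?_⟩
  have h1 : k ^ (r + 1) * k ^ (r + 1) = k ^ (Nat.card 𝕂) * k := by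
    rw [← pow_add, ← pow_succ, hr]; congr 1; ring
  rw [h1, pow_card_eq_one', one_mul]

theorem sq_mem_center_of_cm (h : Ctx φ) (hcyc : IsCyclic 𝕂) {x : G}
    (hx : ∀ g, cm x g ∈ Subgroup.center G) : x * x ∈ Subgroup.center G := by
  rw [Subgroup.mem_center_iff]
  intro g
  have h1 : cm (x * x) g = 1 := by
    rw [cm_mul_left' (hx g)]
    exact (h.mem_center_iff hcyc _).mp (hx g)
  exact ((cm_eq_one_iff _ _).mp h1).symm

theorem pow_four_eq (x : G) : x ^ 4 = (x * x) * (x * x) := by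
  simp [pow_succ, mul_assoc]

theorem stage1 (h : Ctx φ) (hcyc : IsCyclic 𝕂) {g₀ : G} (hg₀ : g₀ ^ 4 ≠ 1) :
    ∃ D X : Subgroup G, Pack φ D X := by
  have hfin := h.fin
  have hZ := h.mem_center_iff hcyc
  -- the second centre
  let Z₂ : Subgroup G :=
    (Subgroup.center (G ⧸ Subgroup.center G)).comap (QuotientGroup.mk' (Subgroup.center G))
  have hZ₂ : ∀ x, x ∈ Z₂ ↔ ∀ g, cm x g ∈ Subgroup.center G := by
    intro x
    show (QuotientGroup.mk' (Subgroup.center G)) x ∈ Subgroup.center (G ⧸ Subgroup.center G) ↔ _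
    rw [Subgroup.mem_center_iff]
    constructor
    · intro hx g
      have := hx (QuotientGroup.mk g)
      rw [QuotientGroup.mk'_apply, ← QuotientGroup.mk_mul, ← QuotientGroup.mk_mul,
        QuotientGroup.eq] at this
      have e : (g * x)⁻¹ * (x * g) = cm x g := by rw [cm]; group
      rw [e] at this
      exact this
    · intro hx g
      induction g using QuotientGroup.induction_on with | H g => ?_
      rw [QuotientGroup.mk'_apply, ← QuotientGroup.mk_mul, ← QuotientGroup.mk_mul,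
        QuotientGroup.eq]
      have e : (g * x)⁻¹ * (x * g) = cm x g := by rw [cm]; group
      rw [e]
      exact hx g
  haveI hZ₂n : Z₂.Normal := Subgroup.Normal.comap inferInstance _
  have hZ₂inv : Inv φ Z₂ := by
    intro k x hx
    rw [hZ₂] at hx ⊢
    intro g
    have h1 : cm (φ k x) g = φ k (cm x ((φ k).symm g)) := by
      rw [cm_map]; simp
    rw [h1]
    exact map_mem_center _ (hx _)
  -- its centralizer
  let D₀ : Subgroup G := Subgroup.centralizer (Z₂ : Set G)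
  haveI hD₀n : D₀.Normal := Subgroup.normal_centralizer
  have hD₀inv : Inv φ D₀ := hZ₂inv.centralizer
  have hsqD₀ : ∀ g : G, g * g ∈ D₀ := by
    intro g
    rw [Subgroup.mem_centralizer_iff]
    intro y hy
    have hy' := (hZ₂ y).mp hy
    have h1 : cm y (g * g) = 1 := by
      rw [cm_mul_right' (hy' g)]
      exact (hZ _).mp (hy' g)
    exact (cm_eq_one_iff _ _).mp h1
  have hD₀Z : ¬ D₀ ≤ Subgroup.center G := by
    intro hle
    have h1 := (hZ _).mp (hle (hsqD₀ g₀))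
    exact hg₀ (by rw [pow_four_eq]; exact h1)
  obtain ⟨w, hwD₀, hwZ, hwc⟩ := exists_mem_second_center (p := 2) h.pg D₀ hD₀Z
  have hwZ₂ : w ∈ Z₂ := (hZ₂ w).mpr hwc
  -- A
  let A : Subgroup G := D₀ ⊓ Z₂
  have hAinv : Inv φ A := hD₀inv.inf hZ₂inv
  have hwA : w ∈ A := ⟨hwD₀, hwZ₂⟩
  have hAcomm : ∀ a ∈ A, ∀ b ∈ A, a * b = b * a := by
    intro a ha b hb
    exact ((Subgroup.mem_centralizer_iff.mp ha.1) b hb.2).symm
  haveI hAn : A.Normal := Subgroup.normal_inf_normal D₀ Z₂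
  -- D
  let D : Subgroup G := Subgroup.centralizer (A : Set G)
  haveI hDn : D.Normal := Subgroup.normal_centralizer
  have hDinv : Inv φ D := hAinv.centralizer
  have hAD : A ≤ D := by
    intro a ha
    rw [Subgroup.mem_centralizer_iff]
    intro b hb
    exact hAcomm b hb a ha
  have hww : w * w ∈ Subgroup.center G := sq_mem_center_of_cm h hcyc hwc
  have hw2 : w * w ≠ 1 := fun e => hwZ ((hZ w).mpr e)
  have hw4 : w ^ 4 = 1 := by rw [pow_four_eq]; exact (hZ _).mp hww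
  have hDcomm : ∀ a ∈ D, ∀ b ∈ D, a * b = b * a := by
    have hQ : Cfsg.Agent.S1137.Q (res φ D hDinv) := by
      refine ⟨inferInstance, h.pg.to_subgroup D, ?_, ?_⟩
      · intro s t hs1 hs ht1 ht
        obtain ⟨k, hk⟩ := h.trans (s : G) (t : G) (fun e => hs1 (Subtype.ext e))
          (by rw [← Subgroup.coe_mul, hs]; rfl) (fun e => ht1 (Subtype.ext e))
          (by rw [← Subgroup.coe_mul, ht]; rfl)
        exact ⟨k, Subtype.ext hk⟩
      · refine ⟨⟨w, hAD hwA⟩, ?_, ?_, ?_⟩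
        · rw [Subgroup.mem_center_iff]
          intro d
          apply Subtype.ext
          show (d : G) * w = w * d
          exact ((Subgroup.mem_centralizer_iff.mp d.2) w hwA).symm
        · intro e
          exact hw2 (congrArg Subtype.val e)
        · apply Subtype.ext
          show w ^ 4 = 1
          exact hw4
    have hmain := Cfsg.Agent.S1137.main (Ctx.commK hcyc) (h.sqK hcyc) (Nat.card D) D
      (res φ D hDinv) hQ le_rfl
    intro a ha b hb
    exact congrArg Subtype.val (hmain ⟨a, ha⟩ ⟨b, hb⟩)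
  have hD₀D : D₀ ≤ D := Subgroup.centralizer_le (fun x hx => hx.2)
  -- X
  let X : Subgroup G :=
    { carrier := {x | x ∈ D ∧ x ^ 4 = 1}
      mul_mem' := by
        rintro a b ⟨ha, ha4⟩ ⟨hb, hb4⟩
        refine ⟨D.mul_mem ha hb, ?_⟩
        have hc : Commute a b := hDcomm a ha b hb
        rw [hc.mul_pow, ha4, hb4, one_mul]
      one_mem' := ⟨D.one_mem, one_pow 4⟩
      inv_mem' := by
        rintro a ⟨ha, ha4⟩
        exact ⟨D.inv_mem ha, by rw [inv_pow, ha4, inv_one]⟩ }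
  have hXdef : ∀ x, x ∈ X ↔ x ∈ D ∧ x ^ 4 = 1 := fun x => Iff.rfl
  have hAX : A ≤ X := by
    intro a ha
    refine ⟨hAD ha, ?_⟩
    rw [pow_four_eq]
    exact (hZ _).mp (sq_mem_center_of_cm h hcyc ((hZ₂ a).mp ha.2))
  refine ⟨D, X, hDinv, hDn, hDcomm, fun g => hD₀D (hsqD₀ g), hXdef, ?_, ?_, ?_, ?_, ?_⟩
  · -- cmX
    intro x hx g
    obtain ⟨hxD, hx4⟩ := hx
    rw [hZ]
    have hy : g⁻¹ * x * g ∈ D := by
      have := hDn.conj_mem x hxD g⁻¹
      simpa using this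
    have hxx : x * x ∈ Subgroup.center G := by
      rw [hZ, ← pow_four_eq]; exact hx4
    have e1 : cm x g = x⁻¹ * (g⁻¹ * x * g) := by rw [cm]; group
    have hc : (g⁻¹ * x * g) * x⁻¹ = x⁻¹ * (g⁻¹ * x * g) :=
      hDcomm _ hy _ (D.inv_mem hxD)
    have e2 : (g⁻¹ * x * g) * (g⁻¹ * x * g) = x * x := by
      have : (g⁻¹ * x * g) * (g⁻¹ * x * g) = g⁻¹ * (x * x) * g := by group
      rw [this, mul_assoc, ← cswap hxx g, ← mul_assoc, inv_mul_cancel, one_mul]
    calc cm x g * cm x g = x⁻¹ * ((g⁻¹ * x * g) * x⁻¹) * (g⁻¹ * x * g) := by rw [e1]; group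
      _ = x⁻¹ * (x⁻¹ * (g⁻¹ * x * g)) * (g⁻¹ * x * g) := by rw [hc]
      _ = (x * x)⁻¹ * ((g⁻¹ * x * g) * (g⁻¹ * x * g)) := by group
      _ = 1 := by rw [e2, inv_mul_cancel]
  · -- ker
    intro g hg
    rw [Subgroup.mem_centralizer_iff]
    intro a ha
    exact (cm_eq_one_iff _ _).mp (hg a (hAX ha))
  · -- sq_onto
    intro z hz
    by_cases hz1 : z = 1
    · exact ⟨1, X.one_mem, by rw [hz1, one_mul]⟩
    · obtain ⟨k, hk⟩ := h.trans (w * w) z hw2 ((hZ _).mp hww) hz1 ((hZ _).mp hz)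
      refine ⟨φ k w, ⟨hDinv k w (hAD hwA), ?_⟩, ?_⟩
      · rw [← map_pow, hw4, map_one]
      · rw [← map_mul, hk]
  · -- Dne
    by_contra hall
    push Not at hall
    apply hwZ
    rw [Subgroup.mem_center_iff]
    intro g
    exact ((Subgroup.mem_centralizer_iff.mp (hall g)) w hwA).symm
  · -- Z2D
    intro x hx
    rw [Subgroup.mem_centralizer_iff]
    intro a ha
    exact ((Subgroup.mem_centralizer_iff.mp ha.1) x ((hZ₂ x).mpr hx)).symm

end Cfsg.Agent.Lib.Helper86.Suz
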