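import Mathlib
import Cfsg.Agent.Lib.Helper6.SuzA1
import Cfsg.Agent.Lib.Helper86.SuzMain1

set_option autoImplicit false
set_option linter.style.haveILetI false
set_option linter.unusedSectionVars false

namespace Cfsg.Agent.Lib.Helper86.Suz

open Cfsg.Agent.S1137 (cm cm_eq_one_iff cm_map cm_self cm_left_central cm_right_central cswap
  map_mem_center)

universe u v
variable {𝕂 : Type v} [Group 𝕂] {G : Type u} [Group G] {φ : 𝕂 →* MulAut G}

/-- field model of the centre -/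
structure Model (φ : 𝕂 →* MulAut G) (k₀ : 𝕂) (F : Type) [Field F] (j : F → G) (ν : F) :
    Prop where
  add : ∀ x y, j (x + y) = j x * j y
  inj : Function.Injective j
  mem : ∀ x, j x ∈ Subgroup.center G
  surj : ∀ z ∈ Subgroup.center G, ∃ x, j x = z
  nu : ∀ x, j (ν * x) = φ k₀ (j x)
  gen : ∀ x : F, x ≠ 0 → ∃ i : ℕ, x = ν ^ i
  nu0 : ν ≠ 0
  nu1 : ν ≠ 1
  pow : ∀ k : 𝕂, ∃ i : ℕ, k = k₀ ^ i
  k1 : k₀ ≠ 1

theorem exists_model (h : Ctx φ) (hcyc : IsCyclic 𝕂) :
    ∃ (k₀ : 𝕂) (n : ℕ) (j : GaloisField 2 n → G) (ν : GaloisField 2 n),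
      Model φ k₀ (GaloisField 2 n) j ν := by
  have hfin := h.fin
  have hfinK := h.finiteK
  have hZ := h.mem_center_iff hcyc
  obtain ⟨k₀, hk₀⟩ := IsCyclic.exists_generator (α := 𝕂)
  have hpow : ∀ k : 𝕂, ∃ i : ℕ, k = k₀ ^ i := by
    intro k
    have := mem_powers_iff_mem_zpowers.mpr (hk₀ k)
    obtain ⟨i, hi⟩ := this
    exact ⟨i, hi.symm⟩
  obtain ⟨s, t, hst, hs1, hs, ht1, ht⟩ := h.two
  have hk1 : k₀ ≠ 1 := by
    intro e
    obtain ⟨k, hk⟩ := h.trans s t hs1 hs ht1 ht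
    obtain ⟨i, rfl⟩ := hpow k
    rw [e, one_pow, map_one] at hk
    exact hst hk
  -- the centre as a group
  let A := Subgroup.center G
  have hexp : ∀ a : A, a * a = 1 := fun a => Subtype.ext ((hZ a).mp a.2)
  let T : A →* A :=
    { toFun := fun a => ⟨φ k₀ a, map_mem_center _ a.2⟩
      map_one' := Subtype.ext (map_one _)
      map_mul' := fun a b => Subtype.ext (map_mul _ _ _) }
  have hT : ∀ (i : ℕ) (a : A), ((T^[i]) a : G) = φ (k₀ ^ i) a := by
    intro i
    induction i with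
    | zero => intro a; simp
    | succ i ih =>
      intro a
      rw [Function.iterate_succ_apply', pow_succ', map_mul]
      show φ k₀ ((T^[i]) a : G) = _
      rw [ih]; rfl
  let a₀ : A := ⟨s, (hZ s).mpr hs⟩
  have ha₀ : a₀ ≠ 1 := fun e => hs1 (congrArg Subtype.val e)
  have horb : ∀ a : A, a ≠ 1 → ∃ i : ℕ, (T^[i]) a₀ = a := by
    intro a ha
    obtain ⟨k, hk⟩ := h.trans s a hs1 hs (fun e => ha (Subtype.ext e)) ((hZ a).mp a.2)
    obtain ⟨i, rfl⟩ := hpow k
    exact ⟨i, Subtype.ext (by rw [hT]; exact hk)⟩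
  have hm : 0 < Nat.card 𝕂 := Nat.card_pos
  have hTm : (T^[Nat.card 𝕂]) a₀ = a₀ := by
    apply Subtype.ext
    rw [hT, pow_card_eq_one', map_one]; rfl
  obtain ⟨n, hn⟩ := IsPGroup.iff_card.mp (h.pg.to_subgroup A)
  have hn0 : n ≠ 0 := by
    intro e
    rw [e, pow_zero] at hn
    have : Subsingleton A := (Nat.card_eq_one_iff_unique.mp hn).1
    exact ha₀ (Subsingleton.elim _ _)
  letI : Fintype (GaloisField 2 n) := Fintype.ofFinite _
  have hF : Fintype.card (GaloisField 2 n) = Nat.card A := by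
    rw [← Nat.card_eq_fintype_card, GaloisField.card 2 n hn0, hn]
  obtain ⟨j, ν, hjb, hjadd, hj1, hjν⟩ :=
    Cfsg.Agent.Lib.Helper6.SuzA.fieldModel hexp T a₀ ha₀ horb hm hTm (GaloisField 2 n) hF
  have hj0 : j 0 = 1 := by
    have := hjadd 0 0
    rw [add_zero] at this
    exact (mul_eq_left.mp this.symm)
  have hjpow : ∀ i : ℕ, j (ν ^ i) = (T^[i]) a₀ := by
    intro i
    induction i with
    | zero => simpa using hj1
    | succ i ih => rw [pow_succ', hjν, ih, Function.iterate_succ_apply']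
  have hTinj : Function.Injective T := by
    intro a b hab
    have := congrArg Subtype.val hab
    exact Subtype.ext ((φ k₀).injective this)
  refine ⟨k₀, n, fun x => (j x : G), ν, ?_, ?_, ?_, ?_, ?_, ?_, ?_, ?_, hpow, hk1⟩
  · intro x y; rw [hjadd]; rfl
  · intro x y hxy; exact hjb.1 (Subtype.ext hxy)
  · intro x; exact (j x).2
  · intro z hz
    obtain ⟨x, hx⟩ := hjb.2 ⟨z, hz⟩
    exact ⟨x, congrArg Subtype.val hx⟩
  · intro x; rw [hjν]; rfl
  · intro x hx
    have hjx : j x ≠ 1 := fun e => hx (hjb.1 (e.trans hj0.symm))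
    obtain ⟨i, hi⟩ := horb (j x) hjx
    exact ⟨i, hjb.1 (by rw [hjpow, hi])⟩
  · intro e
    have h1 := hjν 1
    rw [e, zero_mul, hj0, hj1] at h1
    have : T a₀ = T 1 := by rw [← h1, map_one]
    exact ha₀ (hTinj this)
  · intro e
    have h1 := hjν 1
    rw [e, one_mul, hj1] at h1
    have h2 : φ k₀ s = s := (congrArg Subtype.val h1).symm
    exact hk1 (h.free k₀ s hs1 hs h2)

section machinery
variable {F : Type} [Field F] {k₀ : 𝕂} {j : F → G} {ν : F} {D X : Subgroup G}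

/-- inverse of the model map -/
noncomputable def jinv (j : F → G) : G → F := Function.invFun j

theorem Model.jinv_j (hM : Model φ k₀ F j ν) (x : F) : jinv j (j x) = x :=
  Function.leftInverse_invFun hM.inj x

theorem Model.j_jinv (hM : Model φ k₀ F j ν) {z : G} (hz : z ∈ Subgroup.center G) :
    j (jinv j z) = z := by
  obtain ⟨x, rfl⟩ := hM.surj z hz
  rw [hM.jinv_j]

theorem Model.j_zero (hM : Model φ k₀ F j ν) : j 0 = 1 := by
  have := hM.add 0 0
  rw [add_zero] at this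
  exact (mul_eq_left.mp this.symm)

theorem Model.jinv_one (hM : Model φ k₀ F j ν) : jinv j 1 = 0 := by
  rw [← hM.j_zero, hM.jinv_j]

theorem Model.jinv_mul (hM : Model φ k₀ F j ν) {z w : G} (hz : z ∈ Subgroup.center G)
    (hw : w ∈ Subgroup.center G) : jinv j (z * w) = jinv j z + jinv j w := by
  conv_lhs => rw [← hM.j_jinv hz, ← hM.j_jinv hw, ← hM.add]
  rw [hM.jinv_j]

theorem Model.jinv_eq_zero (hM : Model φ k₀ F j ν) {z : G} (hz : z ∈ Subgroup.center G) :
    jinv j z = 0 ↔ z = 1 := by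
  constructor
  · intro e
    rw [← hM.j_jinv hz, e, hM.j_zero]
  · intro e
    rw [e, hM.jinv_one]

theorem Model.jinv_xi (hM : Model φ k₀ F j ν) {z : G} (hz : z ∈ Subgroup.center G) :
    jinv j (φ k₀ z) = ν * jinv j z := by
  conv_lhs => rw [← hM.j_jinv hz, ← hM.nu]
  rw [hM.jinv_j]

theorem Pack.X_le_D (hP : Pack φ D X) : X ≤ D := fun x hx => ((hP.X_def x).mp hx).1

theorem Pack.Xcomm (hP : Pack φ D X) {x y : G} (hx : x ∈ X) (hy : y ∈ X) : x * y = y * x :=
  hP.Dcomm x (hP.X_le_D hx) y (hP.X_le_D hy)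

theorem Pack.Xinv (hP : Pack φ D X) : Inv φ X := by
  intro k x hx
  obtain ⟨hxD, hx4⟩ := (hP.X_def x).mp hx
  exact (hP.X_def _).mpr ⟨hP.Dinv k x hxD, by rw [← map_pow, hx4, map_one]⟩

theorem Pack.center_le_D (hP : Pack φ D X) : Subgroup.center G ≤ D :=
  fun z hz => hP.ker z (fun x _ => cm_right_central x hz)

theorem Pack.center_le_X (hP : Pack φ D X) (h : Ctx φ) (hcyc : IsCyclic 𝕂) :
    Subgroup.center G ≤ X := by
  intro z hz
  refine (hP.X_def z).mpr ⟨hP.center_le_D hz, ?_⟩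
  rw [pow_four_eq, (h.mem_center_iff hcyc z).mp hz, one_mul]

theorem Pack.sq_mem (hP : Pack φ D X) (h : Ctx φ) (hcyc : IsCyclic 𝕂) {x : G} (hx : x ∈ X) :
    x * x ∈ Subgroup.center G := by
  rw [h.mem_center_iff hcyc, ← pow_four_eq]
  exact ((hP.X_def x).mp hx).2

/-- commutators with `g` only depend on the square, for elements of `X` -/
theorem Pack.cm_eq_of_sq_eq (hP : Pack φ D X) (h : Ctx φ) (hcyc : IsCyclic 𝕂) {x y : G}
    (hx : x ∈ X) (hy : y ∈ X) (hxy : x * x = y * y) (g : G) : cm x g = cm y g := by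
  have hz : (y⁻¹ * x) * (y⁻¹ * x) = 1 := by
    have hc : x * y⁻¹ = y⁻¹ * x := hP.Xcomm hx (X.inv_mem hy)
    calc (y⁻¹ * x) * (y⁻¹ * x) = y⁻¹ * (x * y⁻¹) * x := by group
      _ = y⁻¹ * (y⁻¹ * x) * x := by rw [hc]
      _ = (y * y)⁻¹ * (x * x) := by group
      _ = 1 := by rw [hxy, inv_mul_cancel]
  have hzc : y⁻¹ * x ∈ Subgroup.center G := (h.mem_center_iff hcyc _).mpr hz
  have e : x = y * (y⁻¹ * x) := by group
  rw [e, cm_mul_left' (hP.cmX y hy g), cm_left_central hzc, mul_one]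

theorem Pack.exists_sec (hP : Pack φ D X) (hM : Model φ k₀ F j ν) (t : F) :
    ∃ x, x ∈ X ∧ x * x = j t := by
  obtain ⟨x, hx, hxx⟩ := hP.sq_onto (j t) (hM.mem t)
  exact ⟨x, hx, hxx⟩

/-- the operator attached to `g` (as a function) -/
noncomputable def Tfun (j : F → G) (X : Subgroup G) (g : G) (t : F) : F :=
  open Classical in
  if hx : ∃ x, x ∈ X ∧ x * x = j t then jinv j (cm (Classical.choose hx) g) else 0

theorem Tfun_key (hP : Pack φ D X) (hM : Model φ k₀ F j ν) (h : Ctx φ) (hcyc : IsCyclic 𝕂)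
    (g : G) {x : G} (hx : x ∈ X) : Tfun j X g (jinv j (x * x)) = jinv j (cm x g) := by
  have hex : ∃ y, y ∈ X ∧ y * y = j (jinv j (x * x)) := hP.exists_sec hM _
  rw [Tfun, dif_pos hex]
  obtain ⟨hy, hyy⟩ := Classical.choose_spec hex
  have hyy' : Classical.choose hex * Classical.choose hex = x * x :=
    hyy.trans (hM.j_jinv (hP.sq_mem h hcyc hx))
  rw [hP.cm_eq_of_sq_eq h hcyc hy hx hyy' g]

theorem Tfun_add (hP : Pack φ D X) (hM : Model φ k₀ F j ν) (h : Ctx φ) (hcyc : IsCyclic 𝕂)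
    (g : G) (t t' : F) : Tfun j X g (t + t') = Tfun j X g t + Tfun j X g t' := by
  obtain ⟨x, hx, hxx⟩ := hP.exists_sec hM t
  obtain ⟨y, hy, hyy⟩ := hP.exists_sec hM t'
  have e1 : t = jinv j (x * x) := by rw [hxx, hM.jinv_j]
  have e2 : t' = jinv j (y * y) := by rw [hyy, hM.jinv_j]
  have e3 : t + t' = jinv j ((x * y) * (x * y)) := by
    have hc : y * x = x * y := hP.Xcomm hy hx
    have : (x * y) * (x * y) = (x * x) * (y * y) := by
      calc (x * y) * (x * y) = x * (y * x) * y := by group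
        _ = x * (x * y) * y := by rw [hc]
        _ = (x * x) * (y * y) := by group
    rw [this, hxx, hyy, ← hM.add, hM.jinv_j]
  rw [e3, Tfun_key hP hM h hcyc g (X.mul_mem hx hy), e1, e2, Tfun_key hP hM h hcyc g hx,
    Tfun_key hP hM h hcyc g hy, cm_mul_left' (hP.cmX x hx g),
    hM.jinv_mul (hP.cmX x hx g) (hP.cmX y hy g)]

/-- the operator attached to `g` -/
noncomputable def T (hP : Pack φ D X) (hM : Model φ k₀ F j ν) (h : Ctx φ) (hcyc : IsCyclic 𝕂)
    (g : G) : F →+ F :=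
  AddMonoidHom.mk' (Tfun j X g) (Tfun_add hP hM h hcyc g)

variable (hP : Pack φ D X) (hM : Model φ k₀ F j ν) (h : Ctx φ) (hcyc : IsCyclic 𝕂)
include hP hM h hcyc

theorem T_key (g : G) {x : G} (hx : x ∈ X) :
    T hP hM h hcyc g (jinv j (x * x)) = jinv j (cm x g) :=
  Tfun_key hP hM h hcyc g hx

omit h hcyc in
theorem exists_rep (t : F) : ∃ x, x ∈ X ∧ jinv j (x * x) = t := by
  obtain ⟨x, hx, hxx⟩ := hP.exists_sec hM t
  exact ⟨x, hx, by rw [hxx, hM.jinv_j]⟩

theorem T_mul (g g' : G) : T hP hM h hcyc (g * g') = T hP hM h hcyc g + T hP hM h hcyc g' := by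
  ext t
  obtain ⟨x, hx, rfl⟩ := exists_rep hP hM t
  rw [AddMonoidHom.add_apply, T_key hP hM h hcyc _ hx, T_key hP hM h hcyc _ hx,
    T_key hP hM h hcyc _ hx, cm_mul_right' (hP.cmX x hx g),
    hM.jinv_mul (hP.cmX x hx g) (hP.cmX x hx g')]

theorem T_eq_zero_iff (g : G) : T hP hM h hcyc g = 0 ↔ g ∈ D := by
  constructor
  · intro e
    apply hP.ker
    intro x hx
    have := T_key hP hM h hcyc g hx
    rw [e, AddMonoidHom.zero_apply] at this
    exact (hM.jinv_eq_zero (hP.cmX x hx g)).mp this.symm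
  · intro hg
    ext t
    obtain ⟨x, hx, rfl⟩ := exists_rep hP hM t
    rw [T_key hP hM h hcyc _ hx, AddMonoidHom.zero_apply]
    have : cm x g = 1 := (cm_eq_one_iff _ _).mpr (hP.Dcomm x (hP.X_le_D hx) g hg)
    rw [this, hM.jinv_one]

theorem T_xi (g : G) (t : F) :
    T hP hM h hcyc (φ k₀ g) (ν * t) = ν * T hP hM h hcyc g t := by
  obtain ⟨x, hx, rfl⟩ := exists_rep hP hM t
  have e : ν * jinv j (x * x) = jinv j (φ k₀ x * φ k₀ x) := by
    rw [← map_mul, hM.jinv_xi (hP.sq_mem h hcyc hx)]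
  rw [e, T_key hP hM h hcyc _ (hP.Xinv k₀ x hx), T_key hP hM h hcyc _ hx, ← cm_map,
    hM.jinv_xi (hP.cmX x hx g)]

end machinery

end Cfsg.Agent.Lib.Helper86.Suz
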