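import Mathlib
import Cfsg.Agent.S1140
import Cfsg.Agent.Lib.Helper86.SuzMain2

set_option autoImplicit false
set_option linter.style.haveILetI false
set_option linter.unusedSectionVars false

namespace Cfsg.Agent.Lib.Helper86.Suz

open Cfsg.Agent.S1137 (cm cm_eq_one_iff cm_map cm_self cm_left_central cm_right_central cswap
  map_mem_center)
open Cfsg.Agent.S1140 (comb comb_apply comb_injective comb_bijective)

universe u v
variable {𝕂 : Type v} [Group 𝕂] {G : Type u} [Group G] {φ : 𝕂 →* MulAut G}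

section coeff
variable {F : Type} [Field F] [Fintype F] [CharP F 2] {k₀ : 𝕂} {j : F → G} {ν : F}
  {D X : Subgroup G}

/-- the expansion isomorphism -/
noncomputable def combE : ((F ≃+* F) → F) ≃+ (F →+ F) :=
  AddEquiv.ofBijective comb comb_bijective

theorem combE_apply (a : (F ≃+* F) → F) (t : F) :
    (combE a) t = ∑ σ : F ≃+* F, a σ * σ t := comb_apply a t

variable (hP : Pack φ D X) (hM : Model φ k₀ F j ν) (h : Ctx φ) (hcyc : IsCyclic 𝕂)

/-- the coefficients of the operator attached to `g` -/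
noncomputable def co (g : G) : (F ≃+* F) → F := combE.symm (T hP hM h hcyc g)

theorem T_eq (g : G) (t : F) :
    T hP hM h hcyc g t = ∑ σ : F ≃+* F, co hP hM h hcyc g σ * σ t := by
  rw [← combE_apply, co, AddEquiv.apply_symm_apply]

theorem co_mul (g g' : G) :
    co hP hM h hcyc (g * g') = co hP hM h hcyc g + co hP hM h hcyc g' := by
  rw [co, T_mul, map_add]; rfl

theorem co_one_elt : co hP hM h hcyc (1 : G) = 0 := by
  have := co_mul hP hM h hcyc 1 1
  rw [mul_one] at this
  exact left_eq_add.mp this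

theorem co_inv (g : G) : co hP hM h hcyc g⁻¹ = co hP hM h hcyc g := by
  have := co_mul hP hM h hcyc g g⁻¹
  rw [mul_inv_cancel, co_one_elt] at this
  funext σ
  have h1 := congrFun this σ
  rw [Pi.zero_apply, Pi.add_apply] at h1
  exact ((CharTwo.add_eq_zero).mp h1.symm).symm

theorem co_eq_zero_iff (g : G) : co hP hM h hcyc g = 0 ↔ g ∈ D := by
  rw [← T_eq_zero_iff hP hM h hcyc g, co]
  exact (AddEquiv.map_eq_zero_iff _)

theorem co_xi (g : G) (σ : F ≃+* F) :
    co hP hM h hcyc (φ k₀ g) σ = ν / σ ν * co hP hM h hcyc g σ := by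
  have hν := hM.nu0
  have key : combE (fun σ : F ≃+* F => ν / σ ν * co hP hM h hcyc g σ) =
      T hP hM h hcyc (φ k₀ g) := by
    ext t
    rw [combE_apply]
    have e : t = ν * (ν⁻¹ * t) := by field_simp
    conv_rhs => rw [e, T_xi, T_eq]
    rw [Finset.mul_sum]
    apply Finset.sum_congr rfl
    intro σ _
    rw [map_mul, map_inv₀]
    have : σ ν ≠ 0 := fun e0 => hν ((map_eq_zero σ).mp e0)
    field_simp
  have h2 : (fun σ : F ≃+* F => ν / σ ν * co hP hM h hcyc g σ) = co hP hM h hcyc (φ k₀ g) := by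
    show _ = combE.symm (T hP hM h hcyc (φ k₀ g))
    rw [← key, AddEquiv.symm_apply_apply]
  exact (congrFun h2 σ).symm

theorem co_one (g : G) : co hP hM h hcyc g 1 = 0 := by
  have hfin := h.fin
  have hinj : Function.Injective (fun g : G => φ k₀ g * g⁻¹) := by
    intro a b hab
    have hab' : φ k₀ a * a⁻¹ = φ k₀ b * b⁻¹ := hab
    have h1 : φ k₀ (b⁻¹ * a) = b⁻¹ * a := by
      rw [map_mul, map_inv]
      calc (φ k₀ b)⁻¹ * φ k₀ a = (φ k₀ b)⁻¹ * (φ k₀ a * a⁻¹) * a := by group
        _ = (φ k₀ b)⁻¹ * (φ k₀ b * b⁻¹) * a := by rw [hab']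
        _ = b⁻¹ * a := by group
    by_contra hne
    have h2 : b⁻¹ * a ≠ 1 := fun e => hne (by rw [inv_mul_eq_one] at e; exact e.symm)
    exact hM.k1 (h.fpf h2 h1)
  obtain ⟨g', hg'⟩ := (Finite.injective_iff_surjective.mp hinj) g
  have hg'' : φ k₀ g' * g'⁻¹ = g := hg'
  rw [← hg'', co_mul, Pi.add_apply, co_xi, co_inv]
  have e1 : (1 : F ≃+* F) ν = ν := rfl
  rw [e1, div_self hM.nu0, one_mul]
  exact CharTwo.add_self_eq_zero _

end coeff

end Cfsg.Agent.Lib.Helper86.Suz
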