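import Mathlib
import Cfsg.Agent.Lib.Helper86.SuzMain3

set_option autoImplicit false
set_option linter.style.haveILetI false
set_option linter.unusedSectionVars false

namespace Cfsg.Agent.Lib.Helper86.Suz

open Cfsg.Agent.S1137 (cm cm_eq_one_iff cm_map cm_self cm_left_central cm_right_central cswap
  map_mem_center)

universe u v
variable {𝕂 : Type v} [Group 𝕂] {G : Type u} [Group G] {φ : 𝕂 →* MulAut G}

section stage3
variable {F : Type} [Field F] [Fintype F] [CharP F 2] {k₀ : 𝕂} {j : F → G} {ν : F}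
  {D X : Subgroup G}
variable (hP : Pack φ D X) (hM : Model φ k₀ F j ν) (h : Ctx φ) (hcyc : IsCyclic 𝕂)

/-- kernel of a coefficient -/
noncomputable def kerσ (σ : F ≃+* F) : Subgroup G where
  carrier := {g | co hP hM h hcyc g σ = 0}
  mul_mem' := by
    intro a b ha hb
    show co hP hM h hcyc (a * b) σ = 0
    rw [co_mul, Pi.add_apply, ha, hb, add_zero]
  one_mem' := by
    show co hP hM h hcyc 1 σ = 0
    rw [co_one_elt]; rfl
  inv_mem' := by
    intro a ha
    show co hP hM h hcyc a⁻¹ σ = 0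
    rw [co_inv]; exact ha

theorem mem_kerσ (σ : F ≃+* F) (g : G) :
    g ∈ kerσ hP hM h hcyc σ ↔ co hP hM h hcyc g σ = 0 := Iff.rfl

theorem co_xi_pow (g : G) (σ : F ≃+* F) (i : ℕ) :
    co hP hM h hcyc (φ (k₀ ^ i) g) σ = (ν / σ ν) ^ i * co hP hM h hcyc g σ := by
  induction i with
  | zero => simp
  | succ i ih =>
    rw [pow_succ', map_mul]
    show co hP hM h hcyc (φ k₀ (φ (k₀ ^ i) g)) σ = _
    rw [co_xi, ih, pow_succ']; ring

theorem kerσ_inv (σ : F ≃+* F) : Inv φ (kerσ hP hM h hcyc σ) := by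
  intro k g hg
  obtain ⟨i, rfl⟩ := hM.pow k
  rw [mem_kerσ] at hg ⊢
  rw [co_xi_pow, hg, mul_zero]

theorem D_le_kerσ (σ : F ≃+* F) : D ≤ kerσ hP hM h hcyc σ := by
  intro g hg
  rw [mem_kerσ, (co_eq_zero_iff hP hM h hcyc g).mpr hg]; rfl

include hP hM h hcyc in
theorem exists_minimal : ∃ H : Subgroup G, Inv φ H ∧ D < H ∧
    ∀ H' : Subgroup G, Inv φ H' → D < H' → H' ≤ H → H' = H := by
  have hfin := h.fin
  have hne : {H : Subgroup G | Inv φ H ∧ D < H}.Nonempty := by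
    refine ⟨⊤, fun k x _ => Subgroup.mem_top _, lt_top_iff_ne_top.mpr ?_⟩
    intro e
    obtain ⟨g, hg⟩ := hP.Dne
    exact hg (e ▸ Subgroup.mem_top g)
  obtain ⟨H, ⟨hH1, hH2⟩, hmin⟩ := WellFounded.has_min
    (wellFounded_lt : WellFounded ((· < ·) : Subgroup G → Subgroup G → Prop)) _ hne
  refine ⟨H, hH1, hH2, fun H' h1 h2 hle => ?_⟩
  rcases eq_or_lt_of_le hle with e | hlt
  · exact e
  · exact absurd hlt (hmin H' ⟨h1, h2⟩)

omit [Fintype F] [CharP F 2] in
theorem Model.card_center (hM : Model φ k₀ F j ν) :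
    Nat.card (Subgroup.center G) = Nat.card F := by
  symm
  apply Nat.card_congr
  refine Equiv.ofBijective (fun x : F => (⟨j x, hM.mem x⟩ : Subgroup.center G)) ⟨?_, ?_⟩
  · intro x y hxy
    exact hM.inj (congrArg Subtype.val hxy)
  · rintro ⟨z, hz⟩
    obtain ⟨x, hx⟩ := hM.surj z hz
    exact ⟨x, Subtype.ext hx⟩

include hP hM h hcyc in
theorem surj_of_inj {H : Subgroup G} (hHinv : Inv φ H) (hDH : D < H) (σ : F ≃+* F)
    (hinjσ : ∀ g ∈ H, co hP hM h hcyc g σ = 0 → g ∈ D) :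
    ∀ a : F, ∃ g ∈ H, co hP hM h hcyc g σ = a := by
  have hfin := h.fin
  let f : H →* Multiplicative F :=
    { toFun := fun g => Multiplicative.ofAdd (co hP hM h hcyc (g : G) σ)
      map_one' := by
        show Multiplicative.ofAdd (co hP hM h hcyc (1 : G) σ) = 1
        rw [co_one_elt]; rfl
      map_mul' := fun a b => by
        show Multiplicative.ofAdd (co hP hM h hcyc ((a : G) * (b : G)) σ) = _
        rw [co_mul]; rfl }
  have hker : f.ker = D.subgroupOf H := by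
    ext g
    rw [MonoidHom.mem_ker, Subgroup.mem_subgroupOf]
    constructor
    · intro hg
      exact hinjσ g g.2 (Multiplicative.ofAdd.injective hg)
    · intro hg
      show Multiplicative.ofAdd (co hP hM h hcyc (g : G) σ) = 1
      rw [(co_eq_zero_iff hP hM h hcyc _).mpr hg]; rfl
  have h1 : Nat.card f.ker * f.ker.index = Nat.card H := Subgroup.card_mul_index _
  rw [Subgroup.index_ker, hker,
    Nat.card_congr (Subgroup.subgroupOfEquivOfLe hDH.le).toEquiv] at h1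
  have h3 : Nat.card D * Nat.card (Subgroup.center G) ≤ Nat.card H :=
    h.card_mul_le hcyc hP.Dinv hHinv hDH.le hDH.ne
  rw [hM.card_center, ← h1] at h3
  have h5 : Nat.card F ≤ Nat.card f.range := Nat.le_of_mul_le_mul_left h3 Nat.card_pos
  have h6 : f.range = ⊤ := by
    apply Subgroup.eq_top_of_le_card
    rw [Nat.card_congr (Multiplicative.toAdd (α := F))]
    exact h5
  intro a
  have : Multiplicative.ofAdd a ∈ f.range := h6 ▸ Subgroup.mem_top _
  obtain ⟨g, hg⟩ := this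
  exact ⟨g, g.2, Multiplicative.ofAdd.injective hg⟩

include hP hM h hcyc in
theorem single_sigma {H : Subgroup G} (hHinv : Inv φ H) (hDH : D < H)
    (hmin : ∀ H' : Subgroup G, Inv φ H' → D < H' → H' ≤ H → H' = H) :
    ∃ σ : F ≃+* F, σ ≠ 1 ∧
      (∀ g ∈ H, ∀ t, T hP hM h hcyc g t = co hP hM h hcyc g σ * σ t) ∧
      (∀ g ∈ H, co hP hM h hcyc g σ = 0 → g ∈ D) ∧
      (∀ a : F, ∃ g ∈ H, co hP hM h hcyc g σ = a) := by
  have hfin := h.fin
  have hdich : ∀ σ : F ≃+* F, (∀ g ∈ H, co hP hM h hcyc g σ = 0) ∨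
      (∀ g ∈ H, co hP hM h hcyc g σ = 0 → g ∈ D) := by
    intro σ
    by_cases hcase : D < H ⊓ kerσ hP hM h hcyc σ
    · left
      have e := hmin _ (hHinv.inf (kerσ_inv hP hM h hcyc σ)) hcase inf_le_left
      intro g hg
      have hg' : g ∈ H ⊓ kerσ hP hM h hcyc σ := by rw [e]; exact hg
      exact hg'.2
    · right
      intro g hg hg0
      have hle : D ≤ H ⊓ kerσ hP hM h hcyc σ := le_inf hDH.le (D_le_kerσ hP hM h hcyc σ)
      have heq : D = H ⊓ kerσ hP hM h hcyc σ := by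
        by_contra hne
        exact hcase (lt_of_le_of_ne hle hne)
      rw [heq]
      exact ⟨hg, hg0⟩
  obtain ⟨g₁, hg₁H, hg₁D⟩ := SetLike.exists_of_lt hDH
  have hco1 : co hP hM h hcyc g₁ ≠ 0 := fun e => hg₁D ((co_eq_zero_iff hP hM h hcyc g₁).mp e)
  obtain ⟨σ, hσ⟩ : ∃ σ, co hP hM h hcyc g₁ σ ≠ 0 := by
    by_contra hall
    push Not at hall
    exact hco1 (funext hall)
  have hσ1 : σ ≠ 1 := fun e => hσ (e ▸ co_one hP hM h hcyc g₁)
  have hinjσ : ∀ g ∈ H, co hP hM h hcyc g σ = 0 → g ∈ D :=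
    (hdich σ).resolve_left (fun hall => hσ (hall g₁ hg₁H))
  have hsurj := surj_of_inj hP hM h hcyc hHinv hDH σ hinjσ
  have huniq : ∀ ρ : F ≃+* F, ρ ≠ σ → ∀ g ∈ H, co hP hM h hcyc g ρ = 0 := by
    intro ρ hρ
    by_contra hne
    push Not at hne
    obtain ⟨g₂, hg₂H, hg₂⟩ := hne
    have hρ1 : ρ ≠ 1 := fun e => hg₂ (e ▸ co_one hP hM h hcyc g₂)
    have := lemA (fun g => φ k₀ g) H (fun g hg => hHinv k₀ g hg)
      (fun g => co hP hM h hcyc g σ) (fun g => co hP hM h hcyc g ρ)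
      (fun a b => by show co hP hM h hcyc (a * b) σ = _; rw [co_mul]; rfl)
      (fun a b => by show co hP hM h hcyc (a * b) ρ = _; rw [co_mul]; rfl)
      ν hM.nu0 hM.gen σ ρ hσ1 hρ1
      (fun g => co_xi hP hM h hcyc g σ) (fun g => co_xi hP hM h hcyc g ρ)
      (fun g hg h0 => by
        have hgD := hinjσ g hg h0
        show co hP hM h hcyc g ρ = 0
        rw [(co_eq_zero_iff hP hM h hcyc g).mpr hgD]; rfl)
      hsurj ⟨g₂, hg₂H, hg₂⟩
    exact hρ this.symm
  refine ⟨σ, hσ1, ?_, hinjσ, hsurj⟩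
  intro g hg t
  rw [T_eq]
  apply Finset.sum_eq_single σ
  · intro ρ _ hρ
    rw [huniq ρ hρ g hg, zero_mul]
  · intro hn
    exact absurd (Finset.mem_univ σ) hn

end stage3

end Cfsg.Agent.Lib.Helper86.Suz
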