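import Mathlib
import Cfsg.Agent.Lib.Helper86.SuzMain4

set_option autoImplicit false
set_option linter.style.haveILetI false
set_option linter.unusedSectionVars false

namespace Cfsg.Agent.Lib.Helper86.Suz

open Cfsg.Agent.S1137 (cm cm_eq_one_iff cm_map cm_self cm_left_central cm_right_central cswap
  map_mem_center)

universe u v
variable {𝕂 : Type v} [Group 𝕂] {G : Type u} [Group G] {φ : 𝕂 →* MulAut G}

section stage3
variable {F : Type} [Field F] [Fintype F] [CharP F 2] {k₀ : 𝕂} {j : F → G} {ν : F}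
  {D X : Subgroup G}
variable (hP : Pack φ D X) (hM : Model φ k₀ F j ν) (h : Ctx φ) (hcyc : IsCyclic 𝕂)
variable {H : Subgroup G} {σ : F ≃+* F}
  (hDH : D < H)
  (hT : ∀ g ∈ H, ∀ t, T hP hM h hcyc g t = co hP hM h hcyc g σ * σ t)
  (hinj : ∀ g ∈ H, co hP hM h hcyc g σ = 0 → g ∈ D)
  (hsurj : ∀ a : F, ∃ g ∈ H, co hP hM h hcyc g σ = a)

include hT hinj in
/-- step (iv) -/
theorem sq_central_of_mem {g : G} (hgH : g ∈ H) (hgD : g ∉ D) :
    g * g ∈ Subgroup.center G := by
  have hZ := h.mem_center_iff hcyc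
  by_contra hgg
  have hyy : (g * g) * (g * g) ≠ 1 := fun e => hgg ((hZ _).mpr e)
  obtain ⟨m, hm⟩ := (IsPGroup.iff_orderOf.mp h.pg) (g * g)
  have hm2 : 2 ≤ m := by
    by_contra hlt
    have hdvd : orderOf (g * g) ∣ 2 := by
      rw [hm]
      calc 2 ^ m ∣ 2 ^ 1 := pow_dvd_pow 2 (by omega)
        _ = 2 := by norm_num
    exact hyy (by rw [← pow_two]; exact orderOf_dvd_iff_pow_eq_one.mp hdvd)
  obtain ⟨i, rfl⟩ : ∃ i, m = i + 2 := ⟨m - 2, by omega⟩
  set w := (g * g) ^ (2 ^ i) with hw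
  have hw4 : w ^ 4 = 1 := by
    rw [hw, ← pow_mul]
    have : 2 ^ i * 4 = 2 ^ (i + 2) := by rw [pow_add]; norm_num
    rw [this, ← hm]; exact pow_orderOf_eq_one _
  have hw2 : w * w ≠ 1 := by
    intro h1
    rw [hw, ← pow_two, ← pow_mul] at h1
    have h5 := orderOf_dvd_of_pow_eq_one h1
    rw [hm] at h5
    have h6 := Nat.le_of_dvd (by positivity) h5
    have h7 : 2 ^ i * 2 < 2 ^ (i + 2) := by rw [pow_add]; norm_num
    omega
  have hwD : w ∈ D := D.pow_mem (hP.sqD g) _
  have hwX : w ∈ X := (hP.X_def w).mpr ⟨hwD, hw4⟩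
  have hcomm : Commute w g := by
    have : Commute (g * g) g := (Commute.refl g).mul_left (Commute.refl g)
    exact this.pow_left _
  have hcm : cm w g = 1 := (cm_eq_one_iff _ _).mpr hcomm
  have h1 := T_key hP hM h hcyc g hwX
  rw [hcm, hM.jinv_one, hT g hgH] at h1
  have hwwZ : w * w ∈ Subgroup.center G := hP.sq_mem h hcyc hwX
  have ht : jinv j (w * w) ≠ 0 := fun e => hw2 ((hM.jinv_eq_zero hwwZ).mp e)
  rcases mul_eq_zero.mp h1 with h0 | h0
  · exact hgD (hinj g hgH h0)
  · exact ht ((map_eq_zero σ).mp h0)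

include hDH hT hinj in
theorem inv_mod {g : G} (hgH : g ∈ H) (hgD : g ∉ D) {y : G} (hy : y ∈ D) :
    y * (g * y * g⁻¹) ∈ Subgroup.center G := by
  have hyg : y * g ∈ H := H.mul_mem (hDH.le hy) hgH
  have hygD : y * g ∉ D := fun hc => hgD (by
    have := D.mul_mem (D.inv_mem hy) hc
    simpa using this)
  have h1 := sq_central_of_mem hP hM h hcyc hT hinj hyg hygD
  have h2 := sq_central_of_mem hP hM h hcyc hT hinj hgH hgD
  have e : y * (g * y * g⁻¹) = (y * g) * (y * g) * (g * g)⁻¹ := by group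
  rw [e]
  exact Subgroup.mul_mem _ h1 (Subgroup.inv_mem _ h2)

theorem co_of_mem_D {d : G} (hd : d ∈ D) (ρ : F ≃+* F) : co hP hM h hcyc d ρ = 0 := by
  rw [(co_eq_zero_iff hP hM h hcyc d).mpr hd]; rfl

include hDH hT hinj hsurj in
/-- step (v) -/
theorem D_exp4 {y : G} (hy : y ∈ D) : y ^ 4 = 1 := by
  have hZ := h.mem_center_iff hcyc
  obtain ⟨g, hgH, hg⟩ := hsurj 1
  obtain ⟨g', hg'H, hg'⟩ := hsurj ν
  have hgD : g ∉ D := fun hc => by
    have := co_of_mem_D hP hM h hcyc hc σ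
    rw [hg] at this
    exact one_ne_zero this
  have hg'D : g' ∉ D := fun hc => by
    have := co_of_mem_D hP hM h hcyc hc σ
    rw [hg'] at this
    exact hM.nu0 this
  have hgg'D : g * g' ∉ D := fun hc => by
    have := co_of_mem_D hP hM h hcyc hc σ
    rw [co_mul, Pi.add_apply, hg, hg'] at this
    exact hM.nu1 ((CharTwo.add_eq_zero.mp this).symm)
  set u := g' * y * g'⁻¹ with hu
  have huD : u ∈ D := hP.Dnormal.conj_mem y hy g'
  set k := g * u * g⁻¹ with hk
  have h2 := inv_mod hP hM h hcyc hDH hT hinj hg'H hg'D hy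
  have h1 := inv_mod hP hM h hcyc hDH hT hinj hgH hgD huD
  have h3 := inv_mod hP hM h hcyc hDH hT hinj (H.mul_mem hgH hg'H) hgg'D hy
  have e3 : (g * g') * y * (g * g')⁻¹ = k := by rw [hk, hu]; group
  rw [e3] at h3
  have hcomm : u * y = y * u := hP.Dcomm u huD y hy
  have e : y * y = (y * u) * (y * k) * (u * k)⁻¹ := by
    calc y * y = y * (y * u) * u⁻¹ := by group
      _ = y * (u * y) * u⁻¹ := by rw [hcomm]
      _ = (y * u) * (y * k) * (u * k)⁻¹ := by group
  have hyy : y * y ∈ Subgroup.center G := by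
    rw [e]
    exact Subgroup.mul_mem _ (Subgroup.mul_mem _ h2 h3) (Subgroup.inv_mem _ h1)
  rw [pow_four_eq]
  exact (hZ _).mp hyy

include hDH hT hinj hsurj in
/-- step (vi) -/
theorem psi_surj (c₀ : F) (hc₀ : c₀ ≠ 0) : ∃ t : F, t ≠ 0 ∧ t = c₀ * σ t := by
  have hZ := h.mem_center_iff hcyc
  obtain ⟨g, hgH, hg⟩ := hsurj c₀
  have hgD : g ∉ D := fun hc => by
    have := co_of_mem_D hP hM h hcyc hc σ
    rw [hg] at this
    exact hc₀ this
  by_contra hno
  push Not at hno
  have hLinj : Function.Injective (fun t : F => t + c₀ * σ t) := by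
    intro a b hab
    have hab' : a + c₀ * σ a = b + c₀ * σ b := hab
    by_contra hne
    have h1 : a - b ≠ 0 := sub_ne_zero.mpr hne
    apply hno (a - b) h1
    rw [map_sub, mul_sub]
    have h2 : (2 : F) = 0 := CharTwo.two_eq_zero
    linear_combination hab' + (c₀ * σ b - c₀ * σ a) * h2
  obtain ⟨t, ht⟩ := (Finite.injective_iff_surjective.mp hLinj) (jinv j (g * g))
  have ht' : t + c₀ * σ t = jinv j (g * g) := ht
  obtain ⟨x, hx, rfl⟩ := exists_rep hP hM t
  have hggZ := sq_central_of_mem hP hM h hcyc hT hinj hgH hgD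
  have hxxZ := hP.sq_mem h hcyc hx
  have hcZ := hP.cmX x hx g
  have e1 : (g * x) * (g * x) = (g * g) * (x * x) * cm x g := by
    have e0 : x * cm x g * x = x * x * cm x g := by
      rw [mul_assoc, ← cswap hcZ x, ← mul_assoc]
    calc (g * x) * (g * x) = g * g * (x * cm x g * x) := by rw [cm]; group
      _ = g * g * (x * x * cm x g) := by rw [e0]
      _ = (g * g) * (x * x) * cm x g := by group
  have e2 : jinv j ((g * x) * (g * x)) = 0 := by
    rw [e1, hM.jinv_mul (Subgroup.mul_mem _ hggZ hxxZ) hcZ, hM.jinv_mul hggZ hxxZ,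
      ← T_key hP hM h hcyc g hx, hT g hgH, hg, ← ht']
    have := CharTwo.add_self_eq_zero (jinv j (x * x) + c₀ * σ (jinv j (x * x)))
    linear_combination this
  have e3 : (g * x) * (g * x) = 1 := by
    apply (hM.jinv_eq_zero _).mp e2
    rw [e1]
    exact Subgroup.mul_mem _ (Subgroup.mul_mem _ hggZ hxxZ) hcZ
  have hgxD : g * x ∈ D := hP.center_le_D ((hZ _).mpr e3)
  apply hgD
  have := D.mul_mem hgxD (D.inv_mem (hP.X_le_D hx))
  simpa using this

include hP hM h hcyc in
/-- commutators lie in `D` -/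
theorem cm_mem_D (a b : G) : cm a b ∈ D := by
  rw [← co_eq_zero_iff hP hM h hcyc]
  have e : cm a b = a⁻¹ * b⁻¹ * a * b := rfl
  rw [e, co_mul, co_mul, co_mul, co_inv, co_inv]
  funext ρ
  simp only [Pi.add_apply, Pi.zero_apply]
  have h1 := CharTwo.add_self_eq_zero (co hP hM h hcyc a ρ + co hP hM h hcyc b ρ)
  linear_combination h1

/-- the function of step (vii) -/
noncomputable def fh (j : F → G) (h' g : G) : F := jinv j ((cm g h') * (cm g h'))

theorem conj_eq_mul_cm (y g : G) : g⁻¹ * y * g = y * cm y g := by rw [cm]; group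

theorem cm_mul_left_gen (a a' b : G) : cm (a * a') b = a'⁻¹ * cm a b * a' * cm a' b := by
  rw [cm, cm, cm]; group

include hP hM h hcyc in
theorem fh_add (hDX : ∀ y ∈ D, y ∈ X) (h' g₁ g₂ : G) :
    fh j h' (g₁ * g₂) = fh j h' g₁ + fh j h' g₂ := by
  have hZ := h.mem_center_iff hcyc
  have hy₁ : cm g₁ h' ∈ X := hDX _ (cm_mem_D hP hM h hcyc g₁ h')
  have hy₂ : cm g₂ h' ∈ X := hDX _ (cm_mem_D hP hM h hcyc g₂ h')
  set y₁ := cm g₁ h' with hy₁def
  set y₂ := cm g₂ h' with hy₂def
  have hz : cm y₁ g₂ ∈ Subgroup.center G := hP.cmX y₁ hy₁ g₂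
  set z := cm y₁ g₂ with hzdef
  have e1 : cm (g₁ * g₂) h' = z * (y₁ * y₂) := by
    rw [cm_mul_left_gen, conj_eq_mul_cm, ← hy₁def, ← hy₂def, ← hzdef, cswap hz y₁, mul_assoc]
  have hzz : z * z = 1 := (hZ z).mp hz
  have hc : y₂ * y₁ = y₁ * y₂ := hP.Xcomm hy₂ hy₁
  have e2 : (z * (y₁ * y₂)) * (z * (y₁ * y₂)) = (y₁ * y₁) * (y₂ * y₂) := by
    calc (z * (y₁ * y₂)) * (z * (y₁ * y₂)) = z * ((y₁ * y₂) * z) * (y₁ * y₂) := by group
      _ = z * (z * (y₁ * y₂)) * (y₁ * y₂) := by rw [cswap hz (y₁ * y₂)]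
      _ = (z * z) * (y₁ * (y₂ * y₁) * y₂) := by group
      _ = (y₁ * y₁) * (y₂ * y₂) := by rw [hzz, hc]; group
  show jinv j (cm (g₁ * g₂) h' * cm (g₁ * g₂) h') = jinv j (y₁ * y₁) + jinv j (y₂ * y₂)
  rw [e1, e2, hM.jinv_mul (hP.sq_mem h hcyc hy₁) (hP.sq_mem h hcyc hy₂)]

include hDH hT hinj in
theorem fh_rel (hDX : ∀ y ∈ D, y ∈ X) (h' : G) {g : G} (hgH : g ∈ H) :
    fh j h' g + co hP hM h hcyc g σ * σ (fh j h' g) = 0 := by
  have hZ := h.mem_center_iff hcyc
  by_cases hgD : g ∈ D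
  · have hc : cm g h' ∈ Subgroup.center G := hP.cmX g (hDX g hgD) h'
    have : fh j h' g = 0 := by
      show jinv j (cm g h' * cm g h') = 0
      rw [(hZ _).mp hc, hM.jinv_one]
    rw [this, map_zero, mul_zero, add_zero]
  · have hgg := sq_central_of_mem hP hM h hcyc hT hinj hgH hgD
    have hy : cm g h' ∈ X := hDX _ (cm_mem_D hP hM h hcyc g h')
    set y := cm g h' with hydef
    have hz : cm y g ∈ Subgroup.center G := hP.cmX y hy g
    have e1 : cm (g * g) h' = (y * y) * cm y g := by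
      rw [cm_mul_left_gen, conj_eq_mul_cm, ← hydef, mul_assoc, ← cswap hz y, ← mul_assoc]
    rw [cm_left_central hgg] at e1
    have e2 : jinv j ((y * y) * cm y g) = 0 := by rw [← e1, hM.jinv_one]
    rw [hM.jinv_mul (hP.sq_mem h hcyc hy) hz, ← T_key hP hM h hcyc g hy, hT g hgH] at e2
    exact e2

include hP hM h hcyc in
/-- the final contradiction -/
theorem final_contra : False := by
  have hZ := h.mem_center_iff hcyc
  obtain ⟨H, hHinv, hDH, hmin⟩ := exists_minimal hP hM h hcyc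
  obtain ⟨σ, hσ1, hT, hinj, hsurj⟩ := single_sigma hP hM h hcyc hHinv hDH hmin
  have hDX : ∀ y ∈ D, y ∈ X := fun y hy =>
    (hP.X_def y).mpr ⟨hy, D_exp4 hP hM h hcyc hDH hT hinj hsurj hy⟩
  by_cases hall : ∀ h' : G, ∀ g ∈ H, fh j h' g = 0
  · -- then H ≤ D
    obtain ⟨g, hgH, hgD⟩ := SetLike.exists_of_lt hDH
    apply hgD
    apply hP.Z2D
    intro h'
    have hy : cm g h' ∈ X := hDX _ (cm_mem_D hP hM h hcyc g h')
    rw [hZ]
    exact (hM.jinv_eq_zero (hP.sq_mem h hcyc hy)).mp (hall h' g hgH)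
  · push Not at hall
    obtain ⟨h', g₀, hg₀H, hg₀⟩ := hall
    rcases lemV7 H (fun g => co hP hM h hcyc g σ) (fh j h')
      (fun a b => by show co hP hM h hcyc (a * b) σ = _; rw [co_mul]; rfl)
      (fun a _ b _ => fh_add hP hM h hcyc hDX h' a b) σ
      (psi_surj hP hM h hcyc hDH hT hinj hsurj) hsurj
      (fun g hg => fh_rel hP hM h hcyc hDH hT hinj hDX h' hg) with hA | ⟨hx2, hf⟩
    · exact hg₀ (hA g₀ hg₀H)
    · -- case (B)
      have hhX : h' * h' ∈ X := hDX _ (hP.sqD h')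
      set s := jinv j ((h' * h') * (h' * h')) with hs
      have hrel2 : ∀ g ∈ H, co hP hM h hcyc g σ * σ s =
          (co hP hM h hcyc g σ) ^ 2 + T hP hM h hcyc h' ((co hP hM h hcyc g σ) ^ 2) := by
        intro g hg
        have hy' : cm h' g ∈ X := hDX _ (cm_mem_D hP hM h hcyc h' g)
        set y' := cm h' g with hy'def
        have hz : cm y' h' ∈ Subgroup.center G := hP.cmX y' hy' h'
        have e1 : cm (h' * h') g = (y' * y') * cm y' h' := by
          rw [cm_mul_left_gen, conj_eq_mul_cm, ← hy'def, mul_assoc, ← cswap hz y', ← mul_assoc]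
        have e2 : jinv j (y' * y') = (co hP hM h hcyc g σ) ^ 2 := by
          rw [← hf g hg]
          show _ = jinv j (cm g h' * cm g h')
          have hyX : cm g h' ∈ X := hDX _ (cm_mem_D hP hM h hcyc g h')
          have hyy := (hZ _).mp (hP.sq_mem h hcyc hyX)
          have e3 : y' = (cm g h')⁻¹ := by rw [hy'def, cm, cm]; group
          have e4 : y' * y' = cm g h' * cm g h' := by
            rw [e3]
            have : (cm g h')⁻¹ * (cm g h')⁻¹ = (cm g h' * cm g h')⁻¹ := by group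
            rw [this]
            exact inv_eq_of_mul_eq_one_right hyy
          rw [e4]
        have e5 := T_key hP hM h hcyc g hhX
        rw [← hs, hT g hg, e1, hM.jinv_mul (hP.sq_mem h hcyc hy') hz,
          ← T_key hP hM h hcyc h' hy', e2] at e5
        exact e5
      have hTh' : ∀ u : F, T hP hM h hcyc h' u = u + σ s * σ u := by
        intro u
        obtain ⟨g, hg, hgu⟩ := hsurj (σ u)
        have := hrel2 g hg
        rw [hgu, hx2 u] at this
        have h2 : (2 : F) = 0 := CharTwo.two_eq_zero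
        linear_combination (-1 : F) * this - u * h2
      classical
      let a' : (F ≃+* F) → F := fun ρ => (if ρ = 1 then 1 else 0) + (if ρ = σ then σ s else 0)
      have hcomb : combE a' = T hP hM h hcyc h' := by
        ext u
        rw [combE_apply, hTh' u]
        simp only [a', add_mul, ite_mul, one_mul, zero_mul, Finset.sum_add_distrib,
          Finset.sum_ite_eq', Finset.mem_univ, if_true]
        rfl
      have hco : co hP hM h hcyc h' = a' := by
        show combE.symm (T hP hM h hcyc h') = a'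
        rw [← hcomb, AddEquiv.symm_apply_apply]
      have h1 := co_one hP hM h hcyc h'
      rw [hco] at h1
      have h2 : a' 1 = 1 := by
        show (if (1 : F ≃+* F) = 1 then (1 : F) else 0) + (if (1 : F ≃+* F) = σ then σ s else 0) = 1
        rw [if_pos rfl, if_neg (fun e => hσ1 e.symm), add_zero]
      rw [h2] at h1
      exact one_ne_zero h1

end stage3

end Cfsg.Agent.Lib.Helper86.Suz
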