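import Mathlib
import Cfsg.Agent.Lib.Helper90.PsuDefs

set_option autoImplicit false

/-!
# Psu hive (S2412), leaf PSU-SELT: the core, with leaf PSU-PRE (`exists_suGL_of_basis`, specialised
to `ι = Fin n`) as a hypothesis.
-/

namespace Cfsg.Agent.Lib.Helper90.Psu

open Matrix Cfsg.Agent.Lib.Helper99 Cfsg.Agent.Lib.Helper13

variable {F : Type*} [Field F] [Fintype F] {q n : ℕ}

local notation "hh" => Cfsg.hermForm n F q

theorem selt_hh_sum_left (hF : Fintype.card F = q ^ 2) {I : Type*} (s : Finset I) (c : I → F)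
    (b : I → (Fin n → F)) (y : Fin n → F) :
    hh (∑ i ∈ s, c i • b i) y = ∑ i ∈ s, c i * hh (b i) y := by
  have h1 : ∀ x : Fin n → F, hh x y = hermB hF n y x := fun x => (hermB_apply hF y x).symm
  rw [h1, map_sum]
  apply Finset.sum_congr rfl
  intro i _
  rw [map_smul, smul_eq_mul, h1]

/-- linear independence from a monomial Gram matrix -/
theorem selt_linIndep (hF : Fintype.card F = q ^ 2) (b : Fin n → (Fin n → F))
    (τ : Equiv.Perm (Fin n))
    (hgram : ∀ i j, hh (b i) (b j) = if i = τ j then 1 else 0) : LinearIndependent F b := by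
  rw [Fintype.linearIndependent_iff]
  intro c hc k
  have h : hh (∑ j, c j • b j) (b (τ.symm k)) = hh 0 (b (τ.symm k)) := by rw [hc]
  rw [selt_hh_sum_left hF, hermForm_zero_left] at h
  simp only [hgram, Equiv.apply_symm_apply] at h
  simpa using h

omit [Fintype F] in
theorem selt_span_top (b : Fin n → (Fin n → F)) (hb : LinearIndependent F b) :
    Submodule.span F (Set.range b) = ⊤ :=
  hb.span_eq_top_of_card_eq_finrank' (by simp)

omit [Fintype F] in
theorem selt_mat_ext (b : Fin n → (Fin n → F)) (hspan : Submodule.span F (Set.range b) = ⊤)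
    (M N : Matrix (Fin n) (Fin n) F) (h : ∀ j, M *ᵥ b j = N *ᵥ b j) : M = N := by
  apply Matrix.toLin'.injective
  apply LinearMap.ext_on hspan
  rintro _ ⟨j, rfl⟩
  simpa [Matrix.toLin'_apply] using h j

/-- the statement of leaf PSU-PRE, for `ι = Fin n`. -/
def SeltPre (F : Type*) [Field F] [Fintype F] (q n : ℕ) : Prop :=
  ∀ (b : Fin n → (Fin n → F)) (_ : LinearIndependent F b)
    (X : Matrix (Fin n) (Fin n) F) (_ : X.det = 1)
    (_ : ∀ i j, Cfsg.hermForm n F q (∑ k, X k i • b k) (∑ k, X k j • b k)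
      = Cfsg.hermForm n F q (b i) (b j)),
    ∃ g : GL (Fin n) F, g ∈ suGL (F := F) n q ∧
      ∀ j, (g : Matrix (Fin n) (Fin n) F) *ᵥ b j = ∑ k, X k j • b k

theorem selt_diag (hF : Fintype.card F = q ^ 2) (hpre : SeltPre F q n) (b : Fin n → (Fin n → F))
    (τ : Equiv.Perm (Fin n))
    (hgram : ∀ i j, hh (b i) (b j) = if i = τ j then 1 else 0)
    (d : Fin n → F) (hd : ∀ j, d (τ j) * d j ^ q = 1) (hdet : ∏ j, d j = 1) :
    ∃ a : GL (Fin n) F, a ∈ suGL (F := F) n q ∧
      ∀ j, (a : Matrix (Fin n) (Fin n) F) *ᵥ b j = d j • b j := by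
  have hsum : ∀ j, ∑ k, (Matrix.diagonal d) k j • b k = d j • b j := by
    intro j
    rw [Finset.sum_eq_single j]
    · rw [Matrix.diagonal_apply_eq]
    · intro k _ hk
      rw [Matrix.diagonal_apply_ne _ hk, zero_smul]
    · intro h; exact absurd (Finset.mem_univ j) h
  obtain ⟨a, ha, hab⟩ := hpre b (selt_linIndep hF b τ hgram) (Matrix.diagonal d)
    (by rw [Matrix.det_diagonal, hdet]) (by
    intro i j
    rw [hsum, hsum, hermForm_smul_left, hermForm_smul_right, hgram]
    split_ifs with hij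
    · rw [hij, mul_one, hd]
    · simp)
  exact ⟨a, ha, fun j => by rw [hab, hsum]⟩

theorem selt_mono (hF : Fintype.card F = q ^ 2) (hpre : SeltPre F q n) (b : Fin n → (Fin n → F))
    (τ : Equiv.Perm (Fin n)) (hτ : ∀ j, τ (τ j) = j)
    (hgram : ∀ i j, hh (b i) (b j) = if i = τ j then 1 else 0)
    (s : Fin n → F) (hs : ∀ j, s (τ j) * s j ^ q = 1)
    (hdet : (((Equiv.Perm.sign τ : ℤˣ) : ℤ) : F) * ∏ j, s j = 1) :
    ∃ g : GL (Fin n) F, g ∈ suGL (F := F) n q ∧
      ∀ j, (g : Matrix (Fin n) (Fin n) F) *ᵥ b j = s j • b (τ j) := by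
  have hXa : ∀ k j, (τ.permMatrix F * Matrix.diagonal s) k j = if k = τ j then s j else 0 := by
    intro k j
    rw [Matrix.mul_diagonal]
    by_cases hkj : k = τ j
    · subst hkj
      simp [Equiv.Perm.permMatrix, PEquiv.toMatrix_apply, hτ]
    · have : τ k ≠ j := fun h => hkj (by rw [← h, hτ])
      simp [Equiv.Perm.permMatrix, PEquiv.toMatrix_apply, hkj, this]
  have hsum : ∀ j, ∑ k, (τ.permMatrix F * Matrix.diagonal s) k j • b k = s j • b (τ j) := by
    intro j
    rw [Finset.sum_eq_single (τ j)]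
    · rw [hXa, if_pos rfl]
    · intro k _ hk
      rw [hXa, if_neg hk, zero_smul]
    · intro h; exact absurd (Finset.mem_univ _) h
  obtain ⟨g, hg, hgb⟩ := hpre b (selt_linIndep hF b τ hgram) (τ.permMatrix F * Matrix.diagonal s)
    (by rw [Matrix.det_mul, Matrix.det_permutation, Matrix.det_diagonal]; exact_mod_cast hdet) (by
    intro i j
    rw [hsum, hsum, hermForm_smul_left, hermForm_smul_right, hgram (τ i), hgram i, hτ]
    by_cases hij : i = τ j
    · subst hij
      rw [hτ, if_pos rfl, if_pos rfl, mul_one, hs]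
    · have : τ i ≠ j := fun h => hij (by rw [← h, hτ])
      rw [if_neg this, if_neg hij]
      simp)
  exact ⟨g, hg, fun j => by rw [hgb, hsum]⟩

omit [Fintype F] in
theorem selt_rel (b : Fin n → (Fin n → F)) (hspan : Submodule.span F (Set.range b) = ⊤)
    (τ : Equiv.Perm (Fin n)) (d s : Fin n → F) (hd : ∀ j, d (τ j) * d j ^ q = 1)
    (a n0 : GL (Fin n) F)
    (ha : ∀ j, (a : Matrix (Fin n) (Fin n) F) *ᵥ b j = d j • b j)
    (hn0 : ∀ j, (n0 : Matrix (Fin n) (Fin n) F) *ᵥ b j = s j • b (τ j)) :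
    n0⁻¹ * a * n0 = a⁻¹ ^ q := by
  have hpow : ∀ (m : ℕ) (j : Fin n),
      ((a : Matrix (Fin n) (Fin n) F) ^ m) *ᵥ b j = d j ^ m • b j := by
    intro m
    induction m with
    | zero => intro j; simp
    | succ m ih =>
      intro j
      rw [pow_succ, ← mulVec_mulVec, ha, mulVec_smul, ih, smul_smul, pow_succ, mul_comm]
  have key : a * n0 * a ^ q = n0 := by
    apply Units.ext
    apply selt_mat_ext b hspan
    intro j
    rw [Units.val_mul, Units.val_mul, Units.val_pow_eq_pow_val, ← mulVec_mulVec, ← mulVec_mulVec,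
      hpow, mulVec_smul, hn0, mulVec_smul, mulVec_smul, ha, smul_smul, smul_smul]
    congr 1
    have := hd j
    calc d j ^ q * s j * d (τ j) = s j * (d (τ j) * d j ^ q) := by ring
      _ = s j := by rw [this, mul_one]
  have h2 : a * n0 = n0 * (a ^ q)⁻¹ := eq_mul_inv_of_mul_eq key
  rw [mul_assoc, h2, inv_mul_cancel_left, inv_pow]

/-- leaf PSU-SELT, with leaf PSU-PRE (for `ι = Fin n`) as a hypothesis. -/
theorem selt_core (hF : Fintype.card F = q ^ 2) (hpre : SeltPre F q n) (hn3 : 3 ≤ n)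
    (e f : Fin n → F)
    (hee : hh e e = 0) (hff : hh f f = 0) (hef : hh e f = 1)
    (hsupp : ∀ k : Fin n, 2 ≤ k.val → e k = 0 ∧ f k = 0) (ζ : F) (hζ : ζ ≠ 0) :
    ∃ a n0 : GL (Fin n) F, a ∈ suGL (F := F) n q ∧ n0 ∈ suGL (F := F) n q ∧
      (a : Matrix (Fin n) (Fin n) F) *ᵥ e = ζ • e ∧
      (∀ r : Fin n → F, SuppGe 2 r → (a : Matrix (Fin n) (Fin n) F) *ᵥ r =
        fun j => (if j.val + 1 = n then ζ ^ q * ζ⁻¹ else 1) * r j) ∧
      (n0 : Matrix (Fin n) (Fin n) F) *ᵥ e = f ∧ (n0 : Matrix (Fin n) (Fin n) F) *ᵥ f = e ∧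
      n0⁻¹ * a * n0 = a⁻¹ ^ q := by
  classical
  have hq : q ≠ 0 := by have := q_ge_two hF; omega
  obtain ⟨i0, hi0⟩ : ∃ i : Fin n, i.val = 0 := ⟨⟨0, by omega⟩, rfl⟩
  obtain ⟨i1, hi1⟩ : ∃ i : Fin n, i.val = 1 := ⟨⟨1, by omega⟩, rfl⟩
  obtain ⟨i2, hi2⟩ : ∃ i : Fin n, i.val = 2 := ⟨⟨2, by omega⟩, rfl⟩
  obtain ⟨il, hil⟩ : ∃ i : Fin n, i.val = n - 1 := ⟨⟨n - 1, by omega⟩, rfl⟩
  have h01 : i0 ≠ i1 := fun h => by rw [Fin.ext_iff] at h; omega
  have h02 : i0 ≠ i2 := fun h => by rw [Fin.ext_iff] at h; omega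
  have h12 : i1 ≠ i2 := fun h => by rw [Fin.ext_iff] at h; omega
  have h0l : i0 ≠ il := fun h => by rw [Fin.ext_iff] at h; omega
  have h1l : i1 ≠ il := fun h => by rw [Fin.ext_iff] at h; omega
  have hval : ∀ j : Fin n, j ≠ i0 → j ≠ i1 → 2 ≤ j.val := by
    intro j h0 h1
    by_contra hlt
    have : j.val = 0 ∨ j.val = 1 := by omega
    rcases this with h | h
    · exact h0 (Fin.ext (by omega))
    · exact h1 (Fin.ext (by omega))
  have hval' : ∀ j : Fin n, 2 ≤ j.val → j ≠ i0 ∧ j ≠ i1 := by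
    intro j hj
    constructor
    · intro h; rw [h] at hj; omega
    · intro h; rw [h] at hj; omega
  obtain ⟨τ, hτdef⟩ : ∃ τ : Equiv.Perm (Fin n), τ = Equiv.swap i0 i1 := ⟨_, rfl⟩
  have hτ : ∀ j, τ (τ j) = j := fun j => by rw [hτdef]; exact Equiv.swap_apply_self i0 i1 j
  have hτ0 : τ i0 = i1 := by rw [hτdef]; exact Equiv.swap_apply_left i0 i1
  have hτ1 : τ i1 = i0 := by rw [hτdef]; exact Equiv.swap_apply_right i0 i1
  have hτj : ∀ j, j ≠ i0 → j ≠ i1 → τ j = j := fun j h0 h1 => by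
    rw [hτdef]; exact Equiv.swap_apply_of_ne_of_ne h0 h1
  obtain ⟨b, hbdef⟩ : ∃ b : Fin n → (Fin n → F),
      b = fun j => if j = i0 then e else if j = i1 then f else Pi.single j 1 := ⟨_, rfl⟩
  have hb0 : b i0 = e := by rw [hbdef]; exact if_pos rfl
  have hb1 : b i1 = f := by rw [hbdef]; simp [h01.symm]
  have hbj : ∀ j, j ≠ i0 → j ≠ i1 → b j = Pi.single j 1 := fun j h0 h1 => by
    rw [hbdef]; simp [h0, h1]
  have hfe : hh f e = 1 := by rw [← hermForm_conj hF n e f, hef, one_pow]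
  have hgram : ∀ i j, hh (b i) (b j) = if i = τ j then 1 else 0 := by
    intro i j
    by_cases hi : i = i0
    · rw [hi]
      by_cases hj : j = i0
      · rw [hj, hb0, hee, hτ0, if_neg h01]
      · by_cases hj' : j = i1
        · rw [hj', hb0, hb1, hef, hτ1, if_pos rfl]
        · rw [hb0, hbj j hj hj', hermForm_single_right hF, (hsupp j (hval j hj hj')).1,
            hτj j hj hj', if_neg (Ne.symm hj)]
    · by_cases hi' : i = i1
      · rw [hi']
        by_cases hj : j = i0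
        · rw [hj, hb1, hb0, hfe, hτ0, if_pos rfl]
        · by_cases hj' : j = i1
          · rw [hj', hb1, hff, hτ1, if_neg h01.symm]
          · rw [hb1, hbj j hj hj', hermForm_single_right hF, (hsupp j (hval j hj hj')).2,
              hτj j hj hj', if_neg (Ne.symm hj')]
      · rw [hbj i hi hi']
        by_cases hj : j = i0
        · rw [hj, hb0, hτ0, if_neg hi']
          exact hermForm_eq_zero_comm hF
            (by rw [hermForm_single_right hF, (hsupp i (hval i hi hi')).1])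
        · by_cases hj' : j = i1
          · rw [hj', hb1, hτ1, if_neg hi]
            exact hermForm_eq_zero_comm hF
              (by rw [hermForm_single_right hF, (hsupp i (hval i hi hi')).2])
          · rw [hbj j hj hj', hτj j hj hj', hermForm_single_single n q hq]
  -- the diagonal weights
  have hqq : (ζ ^ q) ^ q = ζ := Cfsg.Agent.Lib.Helper13.pow_q_pow_q hF ζ
  have hζq : ζ ^ q ≠ 0 := pow_ne_zero q hζ
  obtain ⟨d, hddef⟩ : ∃ d : Fin n → F, d = fun j => (if j = i0 then ζ else 1) *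
      (if j = i1 then (ζ ^ q)⁻¹ else 1) * (if j = il then ζ ^ q * ζ⁻¹ else 1) := ⟨_, rfl⟩
  have hd0 : d i0 = ζ := by
    rw [hddef]; simp [h01, h0l]
  have hd1 : d i1 = (ζ ^ q)⁻¹ := by
    rw [hddef]; simp [h01.symm, h1l]
  have hdj : ∀ j, j ≠ i0 → j ≠ i1 → d j = if j.val + 1 = n then ζ ^ q * ζ⁻¹ else 1 := by
    intro j h0 h1
    have hiff : (j = il) ↔ (j.val + 1 = n) := by rw [Fin.ext_iff, hil]; omega
    rw [hddef]; simp [h0, h1, hiff]
  have hdprod : ∏ j, d j = 1 := by
    rw [hddef]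
    simp only [Finset.prod_mul_distrib, Finset.prod_ite_eq', Finset.mem_univ, if_true]
    field_simp
  have hdd : ∀ j, d (τ j) * d j ^ q = 1 := by
    intro j
    by_cases hj : j = i0
    · rw [hj, hτ0, hd1, hd0]; exact inv_mul_cancel₀ hζq
    · by_cases hj' : j = i1
      · rw [hj', hτ1, hd0, hd1, inv_pow, hqq]; exact mul_inv_cancel₀ hζ
      · rw [hτj j hj hj', hdj j hj hj']
        split_ifs
        · rw [mul_pow, inv_pow, hqq]
          field_simp
        · simp
  -- the monomial weights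
  obtain ⟨s, hsdef⟩ : ∃ s : Fin n → F, s = fun j => if j = i2 then -1 else 1 := ⟨_, rfl⟩
  have hsprod : ∏ j, s j = -1 := by
    rw [hsdef]; simp only [Finset.prod_ite_eq', Finset.mem_univ, if_true]
  have hτ2 : τ i2 = i2 := hτj i2 h02.symm h12.symm
  have hss : ∀ j, s (τ j) * s j ^ q = 1 := by
    intro j
    by_cases hj : j = i2
    · rw [hj, hτ2, hsdef]; simp only [if_true]; rw [frob_neg hF, one_pow]; ring
    · have hne : τ j ≠ i2 := fun h => hj (by rw [← hτ j, h, hτ2])
      rw [hsdef]; simp [hj, hne]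
  have hsign : (((Equiv.Perm.sign τ : ℤˣ) : ℤ) : F) * ∏ j, s j = 1 := by
    rw [hsprod, hτdef, Equiv.Perm.sign_swap h01]; simp
  obtain ⟨a, ha, hab⟩ := selt_diag hF hpre b τ hgram d hdd hdprod
  obtain ⟨n0, hn0, hn0b⟩ := selt_mono hF hpre b τ hτ hgram s hss hsign
  have hspan := selt_span_top b (selt_linIndep hF b τ hgram)
  have hs0 : s i0 = 1 := by rw [hsdef]; simp [h02]
  have hs1 : s i1 = 1 := by rw [hsdef]; simp [h12]
  refine ⟨a, n0, ha, hn0, ?_, ?_, ?_, ?_, selt_rel b hspan τ d s hdd a n0 hab hn0b⟩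
  · rw [← hb0, hab, hd0]
  · intro r hr
    have hr0 : ∀ (c : F) (j : Fin n), (c * r j) • b j = (c * r j) • (Pi.single j 1 : Fin n → F) := by
      intro c j
      by_cases h2 : 2 ≤ j.val
      · rw [hbj j (hval' j h2).1 (hval' j h2).2]
      · rw [hr j (by omega), mul_zero, zero_smul, zero_smul]
    have hrsum : r = ∑ j, r j • b j := by
      have h1 : ∀ j : Fin n, r j • b j = r j • (Pi.single j 1 : Fin n → F) := fun j => by
        have := hr0 1 j
        rwa [one_mul] at this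
      simp_rw [h1]
      exact pi_eq_sum_univ' r
    have hLHS : (a : Matrix (Fin n) (Fin n) F) *ᵥ r = ∑ j, (d j * r j) • (Pi.single j 1 : Fin n → F) := by
      conv_lhs => rw [hrsum]
      rw [mulVec_sum]
      apply Finset.sum_congr rfl
      intro j _
      rw [mulVec_smul, hab, smul_smul, mul_comm, hr0]
    rw [hLHS]
    funext k
    rw [Finset.sum_apply, Finset.sum_eq_single k]
    · rw [Pi.smul_apply, Pi.single_eq_same, smul_eq_mul, mul_one]
      by_cases h2 : 2 ≤ k.val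
      · rw [hdj k (hval' k h2).1 (hval' k h2).2]
      · rw [hr k (by omega), mul_zero, mul_zero]
    · intro j _ hjk
      rw [Pi.smul_apply, Pi.single_eq_of_ne hjk.symm, smul_zero]
    · intro h; exact absurd (Finset.mem_univ k) h
  · rw [← hb0, hn0b, hs0, one_smul, hτ0, hb1]
  · rw [← hb1, hn0b, hs1, one_smul, hτ1, hb0]

end Cfsg.Agent.Lib.Helper90.Psu
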