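import Mathlib
import Cfsg.Agent.Lib.Helper90.PsuDefs
import Cfsg.Agent.Lib.Helper97.PsuPRE
import Cfsg.Agent.Lib.Helper86.PsuSELTcore

set_option autoImplicit false

/-!
# Psu hive (S2412), leaf PSU-SELT: `exists_caseS_elts` (exact skeleton name and statement).
-/

namespace Cfsg.Agent.Lib.Helper90.Psu

open Matrix Cfsg.Agent.Lib.Helper99 Cfsg.Agent.Lib.Helper13

variable {F : Type*} [Field F] [Fintype F] {q n : ℕ}

local notation "hh" => Cfsg.hermForm n F q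

/-- PSU-SELT. -/
theorem exists_caseS_elts (hF : Fintype.card F = q ^ 2) (hn3 : 3 ≤ n) (e f : Fin n → F)
    (hee : hh e e = 0) (hff : hh f f = 0) (hef : hh e f = 1)
    (hsupp : ∀ k : Fin n, 2 ≤ k.val → e k = 0 ∧ f k = 0) (ζ : F) (hζ : ζ ≠ 0) :
    ∃ a n0 : GL (Fin n) F, a ∈ suGL (F := F) n q ∧ n0 ∈ suGL (F := F) n q ∧
      (a : Matrix (Fin n) (Fin n) F) *ᵥ e = ζ • e ∧
      (∀ r : Fin n → F, SuppGe 2 r → (a : Matrix (Fin n) (Fin n) F) *ᵥ r =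
        fun j => (if j.val + 1 = n then ζ ^ q * ζ⁻¹ else 1) * r j) ∧
      (n0 : Matrix (Fin n) (Fin n) F) *ᵥ e = f ∧ (n0 : Matrix (Fin n) (Fin n) F) *ᵥ f = e ∧
      n0⁻¹ * a * n0 = a⁻¹ ^ q :=
  selt_core hF (fun b hb X hdet hX => exists_suGL_of_basis hF b hb (Fintype.card_fin n) X hdet hX)
    hn3 e f hee hff hef hsupp ζ hζ

end Cfsg.Agent.Lib.Helper90.Psu
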