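import Mathlib
import Cfsg.Agent.Lib.Helper40.OpBNDefs

/-! # OpBN hive (helper40, S2548): core of leaf FLIPB (`flip_conj_Bo`), with the leaves
BOREL / LOWER / LAST as hypotheses -/

set_option autoImplicit false

namespace Cfsg.Agent.Lib.Helper40.OpBN

open Matrix Cfsg Cfsg.Agent.Lib.Helper13 Cfsg.Agent.Lib.Helper41.SpBN

variable {F : Type*} [Field F] {m : ℕ}

theorem flipb_permMat_mul (σ : Equiv.Perm (Idx m)) (M : Matrix (Idx m) (Idx m) F) (a c : Idx m) :
    (permMat F σ * M) a c = M (σ.symm a) c := by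
  rw [Matrix.mul_apply, Finset.sum_eq_single (σ.symm a)]
  · simp [permMat]
  · intro s _ hs
    have : a ≠ σ s := fun h => hs (by rw [h, Equiv.symm_apply_apply])
    simp [permMat, this]
  · intro h; exact absurd (Finset.mem_univ _) h

theorem flipb_mul_permMat (σ : Equiv.Perm (Idx m)) (M : Matrix (Idx m) (Idx m) F) (a c : Idx m) :
    (M * permMat F σ) a c = M a (σ c) := by
  rw [Matrix.mul_apply, Finset.sum_eq_single (σ c)]
  · simp [permMat]
  · intro s _ hs
    simp [permMat, hs]
  · intro h; exact absurd (Finset.mem_univ _) h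

theorem flipb_permMat_swap_sq (x y : Idx m) :
    permMat F (Equiv.swap x y) * permMat F (Equiv.swap x y) = 1 := by
  ext a c
  rw [flipb_permMat_mul, Equiv.symm_swap]
  by_cases h : a = c
  · subst h
    simp [permMat]
  · have : Equiv.swap x y a ≠ Equiv.swap x y c := fun e => h ((Equiv.swap x y).injective e)
    simp [permMat, Matrix.one_apply, h, this]

/-- if `mt r` is the permutation matrix of a transposition then `r⁻¹ = r` -/
theorem flipb_inv_eq {x y : Idx m} {r : OG F m} (hr : mt r = permMat F (Equiv.swap x y)) :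
    r⁻¹ = r := by
  have h1 : r * r = 1 := by
    apply mt_ext
    rw [mt_mul, hr, mt_one, flipb_permMat_swap_sq]
  exact inv_eq_of_mul_eq_one_left h1

theorem flipb_conj_apply {x y : Idx m} {r : OG F m} (hr : mt r = permMat F (Equiv.swap x y))
    (b : OG F m) (a c : Idx m) :
    mt (r * b * r⁻¹) a c = mt b (Equiv.swap x y a) (Equiv.swap x y c) := by
  rw [flipb_inv_eq hr, mt_mul, mt_mul, hr, flipb_mul_permMat, flipb_permMat_mul, Equiv.symm_swap]

/-- core of FLIPB, the three leaves BOREL / LOWER / LAST being hypotheses -/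
theorem flipb_core
    (hiff : ∀ g : OG F m, g ∈ Bo F m ↔
      (∀ i j : Fin m, (j : ℕ) < (i : ℕ) → mt g (Sum.inl i) (Sum.inl j) = 0) ∧
      (∀ i j : Fin m, mt g (Sum.inr i) (Sum.inl j) = 0))
    (hlower : ∀ g : OG F m, g ∈ Bo F m →
      ∀ i j : Fin m, (i : ℕ) < (j : ℕ) → mt g (Sum.inr i) (Sum.inr j) = 0)
    (hlast : ∀ g : OG F m, g ∈ Bo F m → ∀ k : Fin m, (k : ℕ) + 1 = m →
      mt g (Sum.inl k) (Sum.inr k) = 0)
    {k : Fin m} (hk : (k : ℕ) + 1 = m) {r : OG F m}
    (hr : mt r = permMat F (Equiv.swap (Sum.inl k) (Sum.inr k))) :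
    ∀ b ∈ Bo F m, r * b * r⁻¹ ∈ Bo F m := by
  intro b hb
  obtain ⟨hU, hZ⟩ := (hiff b).1 hb
  have hL := hlower b hb
  have hT := hlast b hb k hk
  have hlt : ∀ i : Fin m, i ≠ k → (i : ℕ) < (k : ℕ) := by
    intro i hik
    have h1 : (i : ℕ) < m := i.2
    have h2 : (i : ℕ) ≠ (k : ℕ) := fun e => hik (Fin.ext e)
    omega
  have hsl : ∀ i : Fin m, i ≠ k →
      Equiv.swap (Sum.inl k : Idx m) (Sum.inr k) (Sum.inl i) = Sum.inl i := by
    intro i hik
    apply Equiv.swap_apply_of_ne_of_ne
    · intro e; exact hik (Sum.inl_injective e)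
    · simp
  have hsr : ∀ i : Fin m, i ≠ k →
      Equiv.swap (Sum.inl k : Idx m) (Sum.inr k) (Sum.inr i) = Sum.inr i := by
    intro i hik
    apply Equiv.swap_apply_of_ne_of_ne
    · simp
    · intro e; exact hik (Sum.inr_injective e)
  have hkl : Equiv.swap (Sum.inl k : Idx m) (Sum.inr k) (Sum.inl k) = Sum.inr k :=
    Equiv.swap_apply_left _ _
  have hkr : Equiv.swap (Sum.inl k : Idx m) (Sum.inr k) (Sum.inr k) = Sum.inl k :=
    Equiv.swap_apply_right _ _
  rw [hiff]
  constructor
  · intro i j hji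
    rw [flipb_conj_apply hr]
    have hjk : j ≠ k := by
      intro e
      subst e
      have : (i : ℕ) < m := i.2
      omega
    rw [hsl j hjk]
    by_cases hik : i = k
    · subst hik
      rw [hkl]
      exact hZ _ _
    · rw [hsl i hik]
      exact hU i j hji
  · intro i j
    rw [flipb_conj_apply hr]
    by_cases hik : i = k
    · subst hik
      rw [hkr]
      by_cases hjk : j = i
      · subst hjk
        rw [hkl]
        exact hT
      · rw [hsl j hjk]
        exact hU _ _ (hlt j hjk)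
    · rw [hsr i hik]
      by_cases hjk : j = k
      · subst hjk
        rw [hkl]
        exact hL _ _ (hlt i hik)
      · rw [hsl j hjk]
        exact hZ _ _

end Cfsg.Agent.Lib.Helper40.OpBN
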