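import Mathlib
import Cfsg.Agent.Lib.Helper40.OpBNDefs

/-! # OpBN hive (helper40, S2548): leaf FLIPN (`NoAll_cases`, `No_conj`) -/

set_option autoImplicit false

namespace Cfsg.Agent.Lib.Helper40.OpBN

open Matrix Cfsg Cfsg.Agent.Lib.Helper13 Cfsg.Agent.Lib.Helper41.SpBN

variable {F : Type*} [Field F] {m : ℕ}

/-- LEAF FLIPN: `No` has index `≤ 2` in `NoAll`: for `n ∈ NoAll`, `n ∈ No` or `n * r ∈ No`. -/
theorem NoAll_cases (k : Fin m) {r : OG F m}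
    (hr : mt r = permMat F (Equiv.swap (Sum.inl k) (Sum.inr k))) :
    ∀ n ∈ NoAll F m, n ∈ No F m ∨ n * r ∈ No F m := by
  rintro n ⟨π, d, hn⟩
  rcases Int.units_eq_one_or (Equiv.Perm.sign π) with h1 | h1
  · exact Or.inl ⟨π, d, hn, h1⟩
  · have hmono : IsMono (mt (n * r)) (π * Equiv.swap (Sum.inl k) (Sum.inr k))
        (fun s => (1 : F) * d (Equiv.swap (Sum.inl k) (Sum.inr k) s)) := by
      rw [mt_mul, hr]
      exact isMono_mul hn (permMat_isMono _)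
    refine Or.inr ⟨π * Equiv.swap (Sum.inl k) (Sum.inr k), _, hmono, ?_⟩
    have hne : (Sum.inl k : Idx m) ≠ Sum.inr k := by simp
    rw [Equiv.Perm.sign_mul, h1, Equiv.Perm.sign_swap hne]
    rfl

/-- LEAF FLIPN (2): `No` is normal in `NoAll`. -/
theorem No_conj : ∀ n ∈ NoAll F m, ∀ x ∈ No F m, n * x * n⁻¹ ∈ No F m := by
  rintro n ⟨π, d, hn⟩ x ⟨ρ, e, hx, hρ⟩
  have hinv := isMono_inv' (mt_inv_mul n) hn
  have hmono := isMono_mul (isMono_mul hn hx) hinv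
  rw [← mt_mul, ← mt_mul] at hmono
  refine ⟨π * ρ * π.symm, _, hmono, ?_⟩
  rw [Equiv.Perm.sign_mul, Equiv.Perm.sign_mul, Equiv.Perm.sign_symm, hρ, mul_one]
  exact Int.units_mul_self _

end Cfsg.Agent.Lib.Helper40.OpBN
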