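import Mathlib
import Cfsg.Agent.Lib.Helper22.KbDefs2

/-!
# Kb hive (S1299, owner helper22): LEAF KB-D2 `kb_delta_inf_centralizer` (`k`-balance between subgroups of `A`).
-/

set_option autoImplicit false

namespace Cfsg.Agent.Lib.Helper22.Kb

open Subgroup Cfsg
open scoped commutatorElement

variable {G : Type*} [Group G]

variable {p k : ℕ} {A : Subgroup G}

/-- `Δ` is antitone (local copy for the D2 / DL leaves). -/
theorem kbd2_delta_anti {E E' : Subgroup G} (h : E ≤ E') :
    signalizerDelta p E' ≤ signalizerDelta p E := by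
  unfold Cfsg.signalizerDelta
  exact le_iInf fun a => iInf_le_of_le ⟨a.1, h a.2.1, a.2.2⟩ le_rfl

/-- A subgroup of the elementary abelian `A` of order at least `p ^ k` contains a subgroup of order `p ^ k`. -/
theorem kbd2_exists_sub [Finite G] [Fact p.Prime] (hA : Cfsg.IsElementaryAbelian p A) {E : Subgroup G}
    (hE : E ≤ A) (hEk : p ^ k ≤ Nat.card E) :
    ∃ E₀ : Subgroup G, E₀ ≤ E ∧ Nat.card E₀ = p ^ k := by
  have hp : p.Prime := Fact.out
  have hPE : IsPGroup p E := by
    intro g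
    refine ⟨1, ?_⟩
    rw [pow_one]
    apply Subtype.ext
    rw [Subgroup.coe_pow, Subgroup.coe_one]
    exact hA.2 g.1 (hE g.2)
  obtain ⟨n, hn⟩ := hPE.exists_card_eq
  have hkn : k ≤ n := by
    rw [hn] at hEk
    exact (Nat.pow_le_pow_iff_right hp.one_lt).mp hEk
  have hdvd : p ^ k ∣ Nat.card E := by
    rw [hn]
    exact pow_dvd_pow p hkn
  obtain ⟨K, hK⟩ := Sylow.exists_subgroup_card_pow_prime p hdvd
  refine ⟨K.map E.subtype, Subgroup.map_subtype_le K, ?_⟩
  rw [Subgroup.card_map_of_injective (Subgroup.subtype_injective E), hK]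

/-- a nontrivial element of the elementary abelian `A` has order `p`. -/
theorem kbd2_orderOf [Fact p.Prime] (hA : Cfsg.IsElementaryAbelian p A) {a : G} (ha : a ∈ A)
    (ha1 : a ≠ 1) : orderOf a = p := by
  have hp : p.Prime := Fact.out
  exact orderOf_eq_prime (hA.2 a ha) ha1

/-- elements of the elementary abelian `A` commute. -/
theorem kbd2_comm (hA : Cfsg.IsElementaryAbelian p A) {a b : G} (ha : a ∈ A) (hb : b ∈ A) :
    a * b = b * a := by
  have := hA.1.is_comm.comm ⟨a, ha⟩ ⟨b, hb⟩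
  exact congrArg Subtype.val this

/-- LEAF KB-D2 (`k`-balance). -/
theorem kb_delta_inf_centralizer [Finite G] [Fact p.Prime] (hbal : Cfsg.IsKBalanced p k G)
    (hA : Cfsg.IsElementaryAbelian p A) {E E' : Subgroup G} (hE : E ≤ A) (hEk : p ^ k ≤ Nat.card E)
    (hE' : E' ≤ A) :
    signalizerDelta p E ⊓ centralizer (E' : Set G) ≤ signalizerDelta p E' := by
  obtain ⟨E₀, hE₀E, hE₀c⟩ := kbd2_exists_sub hA hE hEk
  have hE₀A : E₀ ≤ A := hE₀E.trans hE
  have hE₀el : Cfsg.IsElementaryAbelian p E₀ := by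
    refine ⟨⟨⟨fun x y => ?_⟩⟩, fun a ha => hA.2 a (hE₀A ha)⟩
    apply Subtype.ext
    exact kbd2_comm hA (hE₀A x.2) (hE₀A y.2)
  have key : ∀ e' ∈ E', e' ≠ 1 →
      signalizerDelta p E ⊓ centralizer (E' : Set G) ≤ Cfsg.centralizerPPrimeCore p e' := by
    intro e' he' he1
    have ho : orderOf e' = p := kbd2_orderOf hA (hE' he') he1
    have hcomm : ∀ a ∈ E₀, a * e' = e' * a := fun a ha => kbd2_comm hA (hE₀A ha) (hE' he')
    have h1 := hbal E₀ hE₀el hE₀c e' ho hcomm
    refine le_trans (inf_le_inf (kbd2_delta_anti hE₀E) ?_) h1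
    exact Subgroup.centralizer_le (Set.singleton_subset_iff.mpr he')
  show signalizerDelta p E ⊓ centralizer (E' : Set G) ≤
    ⨅ a : {a : G // a ∈ E' ∧ a ≠ 1}, Cfsg.centralizerPPrimeCore p (a : G)
  exact le_iInf fun a => key a.1 a.2.1 a.2.2

end Cfsg.Agent.Lib.Helper22.Kb
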