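import Mathlib
import Cfsg.Agent.Lib.Helper22.KbDefs2
import Cfsg.Agent.Lib.Helper86.KbD2

/-!
# Kb hive (S1299, owner helper22): LEAF KB-DL `kb_delta_le_theta` (`Δ(F) ≤ θ(b)` for a hyperplane `F ∋ b`).
-/

set_option autoImplicit false

namespace Cfsg.Agent.Lib.Helper22.Kb

open Subgroup Cfsg
open scoped commutatorElement

variable {G : Type*} [Group G]

variable {p k : ℕ} {A : Subgroup G}

/-- `Δ(F)` centralizes every element of `F`. -/
theorem kbdl_delta_le_centralizer {F : Subgroup G} {b : G} (hb : b ∈ F) :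
    signalizerDelta p F ≤ centralizer ({b} : Set G) := by
  by_cases hb1 : b = 1
  · subst hb1
    intro x _
    rw [mem_centralizer_iff]
    intro y hy
    rw [Set.mem_singleton_iff] at hy
    subst hy
    rw [one_mul, mul_one]
  · have h1 : signalizerDelta p F ≤ Cfsg.centralizerPPrimeCore p b := by
      unfold Cfsg.signalizerDelta
      exact iInf_le_of_le ⟨b, hb, hb1⟩ le_rfl
    refine h1.trans ?_
    unfold Cfsg.centralizerPPrimeCore
    exact Subgroup.map_subtype_le _

/-- LEAF KB-DL. -/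
theorem kb_delta_le_theta [Finite G] [Fact p.Prime] (hA : Cfsg.IsElementaryAbelian p A)
    (hAk : p ^ (k + 2) ≤ Nat.card ↥A) {b : G} {F : Subgroup G} (hF : F ∈ kbHyp p A b) :
    signalizerDelta p F ≤ kbTheta p k A b := by
  have hp : p.Prime := Fact.out
  obtain ⟨hFA, hbF, hFc⟩ := hF
  have hFk : p ^ k ≤ Nat.card F := by
    have h1 : p * (p * p ^ k) ≤ p * Nat.card F := by
      rw [hFc]
      calc p * (p * p ^ k) = p ^ (k + 2) := by ring
        _ ≤ Nat.card A := hAk
    have h2 : p * p ^ k ≤ Nat.card F := Nat.le_of_mul_le_mul_left h1 hp.pos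
    exact le_trans (Nat.le_mul_of_pos_left _ hp.pos) h2
  obtain ⟨D₀, hD₀F, hD₀c⟩ := kbd2_exists_sub hA hFA hFk
  have h1 : signalizerDelta p F ≤ signalizerDelta p D₀ ⊓ centralizer ({b} : Set G) :=
    le_inf (kbd2_delta_anti hD₀F) (kbdl_delta_le_centralizer hbF)
  refine h1.trans ?_
  unfold kbTheta
  exact le_iSup_of_le (⟨D₀, hD₀F.trans hFA, hD₀c⟩ :
    {D : Subgroup G // D ≤ A ∧ Nat.card ↥D = p ^ k}) le_rfl

end Cfsg.Agent.Lib.Helper22.Kb
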