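import Mathlib
import Cfsg.Agent.Lib.Helper22.LBalS
import Cfsg.Agent.Lib.Helper55.LbJ1C
import Cfsg.Agent.Lib.Helper88.LbJ1Q

/-!
# Lb hive (S1301), leaf LB-J1: the new 2-component `exists_pComp_sup`

`N = N_G(P)`, `W = O(N)`, `J` a 2-component of `N`, `Q ≤ N` a 2-group with `[Q, J] ≤ W`.
Then `Y = JW`, `Y = C_Y(Q) W` (coprime fixed point argument), `C_Y(Q)` is subnormal in
`H = N_G(PQ)`, and `J₁ = O^{2'}(C_Y(Q))` is a 2-component of `H` with `J ≤ J₁ W`
(intrinsic criterion `isPComponent_of_intrinsic`).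
-/

set_option autoImplicit false

namespace Cfsg.Agent.Lib.Helper22.Lb

open Subgroup Cfsg
open scoped commutatorElement
open Cfsg.Agent.Lib.Helper23 (pUp pUp_le mem_pUp_of_pow coreIn coreIn_le)
open Cfsg.Agent.Lib.Helper22.LBal

section aux

variable {X : Type*} [Group X]

theorem lbj1_pUp_pUp (p : ℕ) (Y : Subgroup X) : pUp p (pUp p Y) = pUp p Y := by
  apply le_antisymm (pUp_le p _)
  conv_lhs => unfold pUp
  rw [Subgroup.closure_le]
  rintro g ⟨hgY, n, hn⟩
  exact mem_pUp_of_pow p (mem_pUp_of_pow p hgY hn) hn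

theorem lbj1_inf_centralizer_le (P Q : Subgroup X) :
    centralizer (P : Set X) ⊓ centralizer (Q : Set X) ≤
      centralizer ((P ⊔ Q : Subgroup X) : Set X) := by
  intro x hx
  rw [Subgroup.mem_inf] at hx
  have h1 : P ⊔ Q ≤ centralizer ({x} : Set X) := by
    apply sup_le
    · intro a ha
      rw [Subgroup.mem_centralizer_iff]
      intro g hg
      rw [Set.mem_singleton_iff] at hg
      subst hg
      exact (Subgroup.mem_centralizer_iff.mp hx.1 a ha).symm
    · intro a ha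
      rw [Subgroup.mem_centralizer_iff]
      intro g hg
      rw [Set.mem_singleton_iff] at hg
      subst hg
      exact (Subgroup.mem_centralizer_iff.mp hx.2 a ha).symm
  rw [Subgroup.mem_centralizer_iff]
  intro h hh
  exact (Subgroup.mem_centralizer_iff.mp (h1 hh) x (Set.mem_singleton x)).symm

end aux

section main

variable {G : Type*} [Group G] [Finite G]

/-- LEAF LB-J1 (the new 2-component). -/
theorem exists_pComp_sup {P : Subgroup G} (hP : IsPGroup 2 P)
    {J₀ : Subgroup ↥(normalizer (P : Set G))} (hJ : IsPComponent 2 J₀)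
    (Q : Subgroup G) (hQ : IsPGroup 2 Q) (hQN : Q ≤ normalizer (P : Set G))
    (hQJ : ⁅Q, J₀.map (normalizer (P : Set G)).subtype⁆ ≤ coreIn 2 (normalizer (P : Set G))) :
    ∃ J₁ : Subgroup ↥(normalizer ((P ⊔ Q : Subgroup G) : Set G)), IsPComponent 2 J₁ ∧
      J₀.map (normalizer (P : Set G)).subtype ≤
        J₁.map (normalizer ((P ⊔ Q : Subgroup G) : Set G)).subtype ⊔
          coreIn 2 (normalizer (P : Set G)) := by
  classical
  set W : Subgroup G := coreIn 2 (normalizer (P : Set G)) with hW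
  set J : Subgroup G := J₀.map (normalizer (P : Set G)).subtype with hJdef
  have hLP := localPrime_coreIn (p := 2) hP
  have hWN : W ≤ (normalizer (P : Set G)) := hLP.le
  have hNW : (normalizer (P : Set G)) ≤ normalizer (W : Set G) := hLP.norm
  have hWc : (Nat.card W).Coprime 2 := hLP.cop
  have hWC : W ≤ centralizer (P : Set G) := hLP.le_centralizer
  have hJC : J ≤ centralizer (P : Set G) := pComp_le_centralizer hP hJ
  have hJN : J ≤ (normalizer (P : Set G)) := pComp_map_le J₀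
  have hCN : centralizer (P : Set G) ≤ (normalizer (P : Set G)) := Subgroup.centralizer_le_normalizer _
  set Y : Subgroup G := J ⊔ W with hY
  have hJY : J ≤ Y := le_sup_left
  have hWY : W ≤ Y := le_sup_right
  have hYC : Y ≤ centralizer (P : Set G) := sup_le hJC hWC
  have hYN : Y ≤ (normalizer (P : Set G)) := sup_le hJN hWN
  set CQ : Subgroup G := centralizer (Q : Set G) with hCQ
  set YQ : Subgroup G := Y ⊓ CQ with hYQ
  set CPQ : Subgroup G := centralizer ((P ⊔ Q : Subgroup G) : Set G) with hCPQ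
  have hCPQ_C : CPQ ≤ centralizer (P : Set G) :=
    Subgroup.centralizer_le (by exact_mod_cast (le_sup_left : P ≤ P ⊔ Q))
  have hCPQ_CQ : CPQ ≤ CQ :=
    Subgroup.centralizer_le (by exact_mod_cast (le_sup_right : Q ≤ P ⊔ Q))
  have hCPQ_N : CPQ ≤ (normalizer (P : Set G)) := hCPQ_C.trans hCN
  have hCPQ_H : CPQ ≤ (normalizer ((P ⊔ Q : Subgroup G) : Set G)) := Subgroup.centralizer_le_normalizer _
  have hYQ_Y : YQ ≤ Y := inf_le_left
  have hYQ_CPQ : YQ ≤ CPQ := fun x hx =>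
    lbj1_inf_centralizer_le P Q
      (Subgroup.mem_inf.mpr ⟨hYC (Subgroup.mem_inf.mp hx).1, (Subgroup.mem_inf.mp hx).2⟩)
  have hYQ_H : YQ ≤ (normalizer ((P ⊔ Q : Subgroup G) : Set G)) := hYQ_CPQ.trans hCPQ_H
  have hYQ_N : YQ ≤ (normalizer (P : Set G)) := hYQ_Y.trans hYN
  -- inside `↥(normalizer (P : Set G))`
  set O : Subgroup ↥(normalizer (P : Set G)) := pPrimeCore 2 ↥(normalizer (P : Set G)) with hO
  have hWO : W = O.map (normalizer (P : Set G)).subtype := rfl
  set Yt : Subgroup ↥(normalizer (P : Set G)) := J₀ ⊔ O with hYt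
  have hYt_eq : Yt = Y.subgroupOf (normalizer (P : Set G)) := by
    rw [hY, hJdef, hWO, ← Subgroup.map_sup]
    exact (Subgroup.comap_map_eq_self_of_injective (Subgroup.subtype_injective _) _).symm
  set Jb : Subgroup (↥(normalizer (P : Set G)) ⧸ O) := J₀.map (QuotientGroup.mk' O) with hJb
  have hJbc : IsComponent Jb := hJ.2.1
  have hYt_map : Yt.map (QuotientGroup.mk' O) = Jb := by
    rw [hYt, Subgroup.map_sup, QuotientGroup.map_mk'_self, sup_bot_eq]
  have hYt_sn : Yt.IsSubnormal := by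
    have h1 := hJbc.1.comap (QuotientGroup.mk' O)
    rw [hJb, Subgroup.comap_map_eq, QuotientGroup.ker_mk'] at h1
    exact h1
  -- subnormality of `YQ` in `(normalizer ((P ⊔ Q : Subgroup G) : Set G))`
  set YQ' : Subgroup ↥(normalizer ((P ⊔ Q : Subgroup G) : Set G)) := YQ.subgroupOf (normalizer ((P ⊔ Q : Subgroup G) : Set G)) with hYQ'
  have hYQ'_sn : YQ'.IsSubnormal := by
    have hCn : (CPQ.subgroupOf (normalizer ((P ⊔ Q : Subgroup G) : Set G))).Normal := by
      rw [Subgroup.normal_subgroupOf_iff_le_normalizer hCPQ_H]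
      intro g hg
      rw [← Cfsg.Agent.Lib.Helper33.cj_eq_self_iff, ← Cfsg.Agent.Lib.Helper33.centralizer_cj,
        Cfsg.Agent.Lib.Helper33.cj_eq_self_iff.mpr hg]
    have h1 : (Yt.subgroupOf (CPQ.subgroupOf (normalizer (P : Set G)))).IsSubnormal := hYt_sn.subgroupOf
    have h2 : (YQ.subgroupOf (normalizer (P : Set G))).subgroupOf (CPQ.subgroupOf (normalizer (P : Set G))) =
        Yt.subgroupOf (CPQ.subgroupOf (normalizer (P : Set G))) := by
      ext x
      rw [hYt_eq]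
      simp only [Subgroup.mem_subgroupOf]
      constructor
      · intro h
        exact hYQ_Y h
      · intro h
        exact Subgroup.mem_inf.mpr ⟨h, hCPQ_CQ (Subgroup.mem_subgroupOf.mp x.2)⟩
    rw [← h2] at h1
    have h3 : (YQ.subgroupOf CPQ).IsSubnormal :=
      (isSubnormal_subgroupOf_subgroupOf_iff hCPQ_N).mp h1
    have h4 := (isSubnormal_subgroupOf_subgroupOf_iff (A := YQ) hCPQ_H).mpr h3
    refine Subgroup.IsSubnormal.trans ?_ h4 hCn.isSubnormal
    intro x hx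
    exact Subgroup.mem_subgroupOf.mpr (hYQ_CPQ (Subgroup.mem_subgroupOf.mp hx))
  -- the homomorphism `YQ' → Jb`
  have hιmem : ∀ x : ↥YQ', ((normalizer ((P ⊔ Q : Subgroup G) : Set G)).subtype.comp YQ'.subtype) x ∈ (normalizer (P : Set G)) := fun x =>
    hYQ_N (Subgroup.mem_subgroupOf.mp x.2)
  set ι : ↥YQ' →* ↥(normalizer (P : Set G)) := ((normalizer ((P ⊔ Q : Subgroup G) : Set G)).subtype.comp YQ'.subtype).codRestrict (normalizer (P : Set G)) hιmem with hι
  have hFmem : ∀ x : ↥YQ', ((QuotientGroup.mk' O).comp ι) x ∈ Jb := by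
    intro x
    rw [← hYt_map]
    show QuotientGroup.mk' O (ι x) ∈ Subgroup.map (QuotientGroup.mk' O) Yt
    refine Subgroup.mem_map_of_mem _ ?_
    rw [hYt_eq, Subgroup.mem_subgroupOf]
    exact hYQ_Y (Subgroup.mem_subgroupOf.mp x.2)
  set F : ↥YQ' →* ↥Jb := ((QuotientGroup.mk' O).comp ι).codRestrict Jb hFmem with hF
  have hFsurj : Function.Surjective F := by
    rintro ⟨b, hb⟩
    obtain ⟨j₀, hj₀, rfl⟩ := Subgroup.mem_map.mp hb
    have hjJ : (j₀ : G) ∈ J := Subgroup.mem_map.mpr ⟨j₀, hj₀, rfl⟩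
    have hcomm : ∀ q ∈ Q, (j₀ : G)⁻¹ * q * (j₀ : G) * q⁻¹ ∈ W := by
      intro q hq
      have h1 : ⁅q, (j₀ : G)⁻¹⁆ ∈ W :=
        hQJ (Subgroup.commutator_mem_commutator hq (J.inv_mem hjJ))
      have h2 := W.inv_mem h1
      have h3 : (⁅q, (j₀ : G)⁻¹⁆)⁻¹ = (j₀ : G)⁻¹ * q * (j₀ : G) * q⁻¹ := by
        rw [commutatorElement_def]
        group
      rwa [h3] at h2
    obtain ⟨w, hwW, hw⟩ :=
      lbj1_exists_mul_mem_centralizer hQ hWc (hQN.trans hNW) (j₀ : G) hcomm
    have hjwY : (j₀ : G) * w ∈ Y := Y.mul_mem (hJY hjJ) (hWY hwW)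
    have hjwYQ : (j₀ : G) * w ∈ YQ := Subgroup.mem_inf.mpr ⟨hjwY, hw⟩
    refine ⟨⟨⟨(j₀ : G) * w, hYQ_H hjwYQ⟩, Subgroup.mem_subgroupOf.mpr hjwYQ⟩, ?_⟩
    apply Subtype.ext
    obtain ⟨w₀, hw₀, hw₀w⟩ := Subgroup.mem_map.mp hwW
    show QuotientGroup.mk' O (ι _) = QuotientGroup.mk' O j₀
    symm
    rw [QuotientGroup.mk'_apply, QuotientGroup.mk'_apply, QuotientGroup.eq]
    have h5 : j₀⁻¹ * ι ⟨⟨(j₀ : G) * w, hYQ_H hjwYQ⟩, Subgroup.mem_subgroupOf.mpr hjwYQ⟩ = w₀ := by
      apply Subtype.ext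
      have hw₀w' : (w₀ : G) = w := hw₀w
      rw [hw₀w']
      simp [hι]
    rw [h5]
    exact hw₀
  -- the new 2-component
  set J₁ : Subgroup ↥(normalizer ((P ⊔ Q : Subgroup G) : Set G)) := pUp 2 YQ' with hJ₁
  have hJ₁le : J₁ ≤ YQ' := pUp_le 2 YQ'
  set f₁ : ↥J₁ →* ↥Jb := F.comp (Subgroup.inclusion hJ₁le) with hf₁
  have hf₁surj : Function.Surjective f₁ := by
    rw [← MonoidHom.range_eq_top, hf₁, ← MonoidHom.map_range, Subgroup.inclusion_range]
    have hMn : ((J₁.subgroupOf YQ').map F).Normal :=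
      (Cfsg.Agent.Lib.Helper23.pUp_subgroupOf_normal 2 YQ').map F hFsurj
    have hMi : ((J₁.subgroupOf YQ').map F).index.Coprime 2 := by
      have h1 : ((J₁.subgroupOf YQ').map F).index ∣ (J₁.subgroupOf YQ').index :=
        Subgroup.index_map_dvd _ hFsurj
      exact Nat.Coprime.coprime_dvd_left h1
        (Cfsg.Agent.Lib.Helper23.pUp_relIndex_coprime 2 YQ')
    exact Cfsg.Agent.Lib.Helper23.quasisimple_normal_coprime_index 2 hJbc.2
      (Cfsg.Agent.Lib.Helper23.component_not_coprime 2 hJbc) _ hMi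
  have hf₁ker : (Nat.card f₁.ker).Coprime 2 := by
    have hinj : Function.Injective ((normalizer ((P ⊔ Q : Subgroup G) : Set G)).subtype.comp J₁.subtype) :=
      (Subgroup.subtype_injective (normalizer ((P ⊔ Q : Subgroup G) : Set G))).comp (Subgroup.subtype_injective J₁)
    have h1 : f₁.ker.map ((normalizer ((P ⊔ Q : Subgroup G) : Set G)).subtype.comp J₁.subtype) ≤ W := by
      rintro _ ⟨x, hx, rfl⟩
      have hx' : f₁ x = 1 := MonoidHom.mem_ker.mp hx
      have h2 : QuotientGroup.mk' O (ι (Subgroup.inclusion hJ₁le x)) = 1 :=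
        congrArg Subtype.val hx'
      rw [QuotientGroup.mk'_apply, QuotientGroup.eq_one_iff] at h2
      exact Subgroup.mem_map.mpr ⟨_, h2, rfl⟩
    rw [← Subgroup.card_map_of_injective hinj]
    exact Nat.Coprime.coprime_dvd_left (Subgroup.card_dvd_of_le h1) hWc
  have hqsJb : IsQuasisimple (↥Jb ⧸ pPrimeCore 2 ↥Jb) := by
    have hnt : Nontrivial (↥Jb ⧸ pPrimeCore 2 ↥Jb) := by
      rw [← not_subsingleton_iff_nontrivial]
      intro hs
      have htop : pPrimeCore 2 ↥Jb = ⊤ := by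
        rw [eq_top_iff]
        intro x _
        have := Subsingleton.elim (QuotientGroup.mk x : ↥Jb ⧸ pPrimeCore 2 ↥Jb) 1
        exact (QuotientGroup.eq_one_iff x).mp this
      have hc1 : (Nat.card ↥Jb).Coprime 2 := by
        have := Cfsg.Agent.Lib.Helper30.pPrimeCore_card_coprime (G := ↥Jb) 2
        rwa [htop, Subgroup.card_top] at this
      exact Cfsg.Agent.Lib.Helper23.component_not_coprime 2 hJbc hc1
    exact Cfsg.Agent.S2020.isQuasisimple_of_surjective hJbc.2 (QuotientGroup.mk' _)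
      (QuotientGroup.mk'_surjective _)
  have hJ₁comp : IsPComponent 2 J₁ :=
    isPComponent_of_intrinsic (Cfsg.Agent.Lib.Helper23.pUp_isSubnormal 2 hYQ'_sn)
      (lbj1_quasi_of_surj f₁ hf₁surj hf₁ker hqsJb) (lbj1_pUp_pUp 2 YQ')
  refine ⟨J₁, hJ₁comp, ?_⟩
  rintro _ ⟨j₀, hj₀, rfl⟩
  obtain ⟨x, hx⟩ := hf₁surj ⟨QuotientGroup.mk' O j₀, Subgroup.mem_map_of_mem _ hj₀⟩
  have h1 : QuotientGroup.mk' O (ι (Subgroup.inclusion hJ₁le x)) = QuotientGroup.mk' O j₀ :=
    congrArg Subtype.val hx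
  rw [QuotientGroup.mk'_apply, QuotientGroup.mk'_apply, QuotientGroup.eq] at h1
  have h2 : (((x : ↥(normalizer ((P ⊔ Q : Subgroup G) : Set G))) : G))⁻¹ * (j₀ : G) ∈ W := Subgroup.mem_map.mpr ⟨_, h1, rfl⟩
  have h3 : ((normalizer (P : Set G)).subtype j₀ : G) = ((x : ↥(normalizer ((P ⊔ Q : Subgroup G) : Set G))) : G) * ((((x : ↥(normalizer ((P ⊔ Q : Subgroup G) : Set G))) : G))⁻¹ * (j₀ : G)) := by
    simp
  rw [h3]
  exact Subgroup.mul_mem_sup (Subgroup.mem_map.mpr ⟨x.1, x.2, rfl⟩) h2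

end main

end Cfsg.Agent.Lib.Helper22.Lb
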