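import Mathlib

set_option autoImplicit false
set_option linter.style.haveILetI false
set_option linter.unusedSectionVars false

/-!
# Simple groups with an involution whose centralizer has at most three involutions

Elementary part: the "dihedral trick" (two non-conjugate involutions commute with a common
involution) and its consequences.
-/

namespace Cfsg.Agent.Lib.Helper86.FewInv

open Subgroup

variable {G : Type*} [Group G]

theorem sq_of_order_two {a : G} (ha : orderOf a = 2) : a * a = 1 := by
  have := pow_orderOf_eq_one a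
  rw [ha, pow_two] at this
  exact this

theorem inv_of_order_two {a : G} (ha : orderOf a = 2) : a⁻¹ = a :=
  inv_eq_of_mul_eq_one_left (sq_of_order_two ha)

theorem ne_one_of_order_two {a : G} (ha : orderOf a = 2) : a ≠ 1 := by
  intro h
  rw [h, orderOf_one] at ha
  omega

theorem order_two_of {a : G} (h1 : a ≠ 1) (h2 : a * a = 1) : orderOf a = 2 := by
  haveI : Fact (Nat.Prime 2) := ⟨Nat.prime_two⟩
  exact orderOf_eq_prime (by rw [pow_two]; exact h2) h1

theorem order_conj (c a : G) : orderOf (c * a * c⁻¹) = orderOf a := by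
  have := MulEquiv.orderOf_eq (MulAut.conj c) a
  rwa [MulAut.conj_apply] at this

/-- **The dihedral trick.** Two involutions are conjugate, or commute with a common involution. -/
theorem conj_or_commuting [Finite G] {a t : G} (ha : orderOf a = 2) (ht : orderOf t = 2) :
    IsConj a t ∨ ∃ w : G, orderOf w = 2 ∧ w * a = a * w ∧ w * t = t * w := by
  have ha2 := sq_of_order_two ha
  have ht2 := sq_of_order_two ht
  have hai := inv_of_order_two ha
  have hti := inv_of_order_two ht
  set r := a * t with hr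
  have hri : r⁻¹ = t * a := by rw [hr, mul_inv_rev, hai, hti]
  have h1 : a * r * a⁻¹ = r⁻¹ := by
    rw [hri, hr, hai]
    calc a * (a * t) * a = (a * a) * t * a := by group
      _ = t * a := by rw [ha2, one_mul]
  have h2 : t * r * t⁻¹ = r⁻¹ := by
    rw [hri, hr, hti]
    calc t * (a * t) * t = t * a * (t * t) := by group
      _ = t * a := by rw [ht2, mul_one]
  have hpowa : ∀ k : ℕ, a * r ^ k * a⁻¹ = (r ^ k)⁻¹ := by
    intro k
    rw [← conj_pow, h1, inv_pow]
  have hpowt : ∀ k : ℕ, t * r ^ k * t⁻¹ = (r ^ k)⁻¹ := by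
    intro k
    rw [← conj_pow, h2, inv_pow]
  have hn : 0 < orderOf r := orderOf_pos r
  rcases Nat.even_or_odd' (orderOf r) with ⟨k, hk | hk⟩
  · -- even order: the central involution
    right
    have hk0 : 0 < k := by omega
    set w := r ^ k with hw
    have hw2 : w * w = 1 := by
      rw [hw, ← pow_add, ← two_mul, ← hk]
      exact pow_orderOf_eq_one r
    have hw1 : w ≠ 1 := by
      rw [hw]
      exact pow_ne_one_of_lt_orderOf (by omega) (by omega)
    have hwi : w⁻¹ = w := inv_eq_of_mul_eq_one_left hw2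
    refine ⟨w, order_two_of hw1 hw2, ?_, ?_⟩
    · have := hpowa k
      rw [← hw, hwi] at this
      -- a * w * a⁻¹ = w
      calc w * a = (a * w * a⁻¹) * a := by rw [this]
        _ = a * w := by group
    · have := hpowt k
      rw [← hw, hwi] at this
      calc w * t = (t * w * t⁻¹) * t := by rw [this]
        _ = t * w := by group
  · -- odd order: conjugate
    left
    rw [isConj_iff]
    refine ⟨r ^ k, ?_⟩
    have e1 : r ^ (2 * k) * r = 1 := by
      rw [← pow_succ, ← hk]
      exact pow_orderOf_eq_one r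
    have e2 : r ^ (2 * k) = r⁻¹ := eq_inv_of_mul_eq_one_left e1
    have e3 : a * (r ^ k)⁻¹ * a⁻¹ = r ^ k := by
      have := hpowa k
      have h3 : a * (r ^ k)⁻¹ * a⁻¹ = (a * r ^ k * a⁻¹)⁻¹ := by group
      rw [h3, this, inv_inv]
    calc r ^ k * a * (r ^ k)⁻¹ = r ^ k * (a * (r ^ k)⁻¹ * a⁻¹) * a := by group
      _ = r ^ k * r ^ k * a := by rw [e3]
      _ = r ^ (2 * k) * a := by rw [← pow_add, two_mul]
      _ = t * a * a := by rw [e2, hri]
      _ = t := by rw [mul_assoc, ha2, mul_one]

/-- at most three involutions commute with `x` -/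
def Few (x : G) : Prop :=
  ∀ a b c d : G, orderOf a = 2 → orderOf b = 2 → orderOf c = 2 → orderOf d = 2 →
    a * x = x * a → b * x = x * b → c * x = x * c → d * x = x * d →
    a ≠ b → a ≠ c → a ≠ d → b ≠ c → b ≠ d → c ≠ d → False

theorem few_of_card [Finite G] {x : G}
    (h3 : Nat.card {u : ↥(Subgroup.centralizer ({x} : Set G)) // orderOf u = 2} ≤ 3) : Few x := by
  intro a b c d ha hb hc hd hax hbx hcx hdx hab hac had hbc hbd hcd
  let mk : ∀ u : G, orderOf u = 2 → u * x = x * u →
      {u : ↥(Subgroup.centralizer ({x} : Set G)) // orderOf u = 2} := fun u hu hux =>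
    ⟨⟨u, mem_centralizer_singleton_iff.mpr hux⟩, by rw [Subgroup.orderOf_mk]; exact hu⟩
  have hmk : ∀ u hu hux, ((mk u hu hux).1 : G) = u := fun u hu hux => rfl
  let f : Fin 4 → {u : ↥(Subgroup.centralizer ({x} : Set G)) // orderOf u = 2} :=
    ![mk a ha hax, mk b hb hbx, mk c hc hcx, mk d hd hdx]
  have hf : Function.Injective f := by
    intro i j hij
    have hval : ((f i).1 : G) = ((f j).1 : G) := by rw [hij]
    fin_cases i <;> fin_cases j <;> first | rfl | (exfalso; simp [f, hmk] at hval; tauto)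
  have := Nat.card_le_card_of_injective f hf
  rw [Nat.card_fin] at this
  omega

theorem few_conj {x : G} (h : Few x) (c : G) : Few (c * x * c⁻¹) := by
  intro a b d e ha hb hd he hax hbx hdx hex hab had hae hbd hbe hde
  have key : ∀ u : G, u * (c * x * c⁻¹) = c * x * c⁻¹ * u → (c⁻¹ * u * c) * x = x * (c⁻¹ * u * c) := by
    intro u hu
    calc c⁻¹ * u * c * x = c⁻¹ * (u * (c * x * c⁻¹)) * c := by group
      _ = c⁻¹ * (c * x * c⁻¹ * u) * c := by rw [hu]
      _ = x * (c⁻¹ * u * c) := by group
  have ord : ∀ u : G, orderOf u = 2 → orderOf (c⁻¹ * u * c) = 2 := by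
    intro u hu
    have := order_conj c⁻¹ u
    rw [inv_inv] at this
    rw [this, hu]
  have inj : ∀ u v : G, u ≠ v → c⁻¹ * u * c ≠ c⁻¹ * v * c := by
    intro u v huv h
    apply huv
    have := congrArg (fun w => c * w * c⁻¹) h
    simpa [mul_assoc] using this
  exact h _ _ _ _ (ord a ha) (ord b hb) (ord d hd) (ord e he) (key a hax) (key b hbx) (key d hdx)
    (key e hex) (inj _ _ hab) (inj _ _ had) (inj _ _ hae) (inj _ _ hbd) (inj _ _ hbe) (inj _ _ hde)

section three

variable {x y : G} (hx : orderOf x = 2) (hy : orderOf y = 2) (hxy : y * x = x * y) (hne : y ≠ x)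
include hx hy hxy hne

theorem order_mul : orderOf (x * y) = 2 := by
  apply order_two_of
  · intro h
    apply hne
    have : y = x⁻¹ := eq_inv_of_mul_eq_one_right h
    rw [this, inv_of_order_two hx]
  · calc x * y * (x * y) = x * (y * x) * y := by group
      _ = x * (x * y) * y := by rw [hxy]
      _ = (x * x) * (y * y) := by group
      _ = 1 := by rw [sq_of_order_two hx, sq_of_order_two hy, one_mul]

theorem mul_comm_x : (x * y) * x = x * (x * y) := by
  rw [mul_assoc, hxy]

theorem mul_ne_x : x * y ≠ x := by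
  intro h
  have : y = 1 := by
    have := mul_left_cancel (a := x) (b := y) (c := 1) (by rw [h, mul_one])
    exact this
  exact ne_one_of_order_two hy this

theorem mul_ne_y : x * y ≠ y := by
  intro h
  have : x = 1 := by
    have := mul_right_cancel (a := x) (b := y) (c := 1) (by rw [h, one_mul])
    exact this
  exact ne_one_of_order_two hx this

/-- the involutions commuting with `x` are exactly `x`, `y`, `x * y` -/
theorem three_invs (h : Few x) {u : G} (hu : orderOf u = 2) (hux : u * x = x * u) :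
    u = x ∨ u = y ∨ u = x * y := by
  by_contra hcon
  push Not at hcon
  obtain ⟨h1, h2, h3⟩ := hcon
  exact h x y (x * y) u hx hy (order_mul hx hy hxy hne) hu rfl hxy (mul_comm_x hx hy hxy hne) hux
    (Ne.symm hne) (Ne.symm (mul_ne_x hx hy hxy hne)) (Ne.symm h1)
    (Ne.symm (mul_ne_y hx hy hxy hne)) (Ne.symm h2) (Ne.symm h3)

end three

/-- a simple group with a central involution has order two -/
theorem card_two_of_central [Finite G] [IsSimpleGroup G] {z : G} (hzo : orderOf z = 2)
    (hcen : ∀ g : G, g * z = z * g) : Nat.card G = 2 := by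
  have hz1 : z ≠ 1 := ne_one_of_order_two hzo
  have hnorm : (Subgroup.zpowers z).Normal := by
    constructor
    intro n hn g
    obtain ⟨k, hk⟩ := Subgroup.mem_zpowers_iff.mp hn
    have : g * n * g⁻¹ = n := by
      rw [← hk]
      have hgk : g * z ^ k = z ^ k * g := by
        have : Commute g z := hcen g
        exact (this.zpow_right k).eq
      rw [hgk]; group
    rw [this]; exact hn
  rcases hnorm.eq_bot_or_eq_top with h | h
  · exfalso
    have : z ∈ Subgroup.zpowers z := Subgroup.mem_zpowers z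
    rw [h, Subgroup.mem_bot] at this
    exact hz1 this
  · have h1 : Nat.card (Subgroup.zpowers z) = 2 := by rw [Nat.card_zpowers, hzo]
    rw [h, Subgroup.card_top] at h1
    exact h1

/-- **Core.** In a simple group of order `≠ 2`, if `x ~ y` are distinct commuting involutions and
at most three involutions commute with `x`, then `x ~ x * y`. -/
theorem core [Finite G] [IsSimpleGroup G] (hG2 : Nat.card G ≠ 2) {x y : G} (hx : orderOf x = 2)
    (h3 : Few x) (hy : orderOf y = 2) (hxy : y * x = x * y) (hne : y ≠ x) (hconj : IsConj x y) :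
    IsConj x (x * y) := by
  by_contra hnz
  set z := x * y with hz
  have hzo : orderOf z = 2 := order_mul hx hy hxy hne
  have hz1 : z ≠ 1 := ne_one_of_order_two hzo
  -- the involutions commuting with y
  have h3y : Few y := by
    obtain ⟨c, hc⟩ := isConj_iff.mp hconj
    rw [← hc]
    exact few_conj h3 c
  have hyx : y * x = x * y := hxy
  have invs_y : ∀ u : G, orderOf u = 2 → u * y = y * u → u = y ∨ u = x ∨ u = x * y := by
    intro u hu huy
    have := three_invs hy hx hxy.symm (Ne.symm hne) h3y hu huy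
    rcases this with h | h | h
    · left; exact h
    · right; left; exact h
    · right; right; rw [h, hxy]
  -- every conjugate of z commutes with z
  have hcomm : ∀ t : G, IsConj z t → t * z = z * t := by
    intro t ht
    have hto : orderOf t = 2 := by
      obtain ⟨c, hc⟩ := isConj_iff.mp ht
      rw [← hc, order_conj, hzo]
    have hxt : ¬ IsConj x t := fun h => hnz (h.trans ht.symm)
    have hyt : ¬ IsConj y t := fun h => hxt (hconj.trans h)
    have tcase : ∀ u : G, u = t → (u = x ∨ u = y ∨ u = x * y) → t * z = z * t := by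
      intro u hu h
      rcases h with h | h | h
      · exfalso; apply hxt; rw [← hu, h]
      · exfalso; apply hyt; rw [← hu, h]
      · rw [← hu, h]
    rcases conj_or_commuting hx hto with h | ⟨w, hwo, hwx, hwt⟩
    · exact absurd h hxt
    · rcases three_invs hx hy hxy hne h3 hwo hwx with h | h | h
      · -- w = x: t commutes with x
        rw [h] at hwt
        exact tcase t rfl (three_invs hx hy hxy hne h3 hto hwt.symm)
      · -- w = y: t commutes with y
        rw [h] at hwt
        rcases invs_y t hto hwt.symm with h' | h' | h'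
        · exact tcase t rfl (Or.inr (Or.inl h'))
        · exact tcase t rfl (Or.inl h')
        · exact tcase t rfl (Or.inr (Or.inr h'))
      · rw [h] at hwt
        exact hwt.symm
  -- the conjugates of z commute pairwise
  have hpair : ∀ a ∈ Group.conjugatesOfSet ({z} : Set G), ∀ b ∈ Group.conjugatesOfSet ({z} : Set G),
      b * a = a * b := by
    intro a ha b hb
    obtain ⟨z₁, hz₁, ha⟩ := Group.mem_conjugatesOfSet_iff.mp ha
    obtain ⟨z₂, hz₂, hb⟩ := Group.mem_conjugatesOfSet_iff.mp hb
    rw [Set.mem_singleton_iff] at hz₁ hz₂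
    rw [hz₁] at ha
    rw [hz₂] at hb
    obtain ⟨c, hc⟩ := isConj_iff.mp ha
    -- c⁻¹ b c is a conjugate of z
    have h1 : IsConj z (c⁻¹ * b * c) := by
      have : IsConj b (c⁻¹ * b * c) := isConj_iff.mpr ⟨c⁻¹, by rw [inv_inv]⟩
      exact hb.trans this
    have h2 := hcomm _ h1
    rw [← hc]
    calc b * (c * z * c⁻¹) = c * ((c⁻¹ * b * c) * z) * c⁻¹ := by group
      _ = c * (z * (c⁻¹ * b * c)) * c⁻¹ := by rw [h2]
      _ = c * z * c⁻¹ * b := by group
  have hle : Subgroup.normalClosure ({z} : Set G) ≤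
      Subgroup.centralizer (Group.conjugatesOfSet ({z} : Set G)) := by
    rw [Subgroup.normalClosure, Subgroup.closure_le]
    intro b hb
    rw [SetLike.mem_coe, Subgroup.mem_centralizer_iff]
    intro a ha
    exact (hpair a ha b hb).symm
  have htop : Subgroup.normalClosure ({z} : Set G) = ⊤ := by
    rcases (Subgroup.normalClosure_normal (s := ({z} : Set G))).eq_bot_or_eq_top with h | h
    · exfalso
      have : z ∈ Subgroup.normalClosure ({z} : Set G) :=
        Subgroup.subset_normalClosure (Set.mem_singleton z)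
      rw [h, Subgroup.mem_bot] at this
      exact hz1 this
    · exact h
  have hcen : ∀ g : G, g * z = z * g := by
    intro g
    have hg : g ∈ Subgroup.centralizer (Group.conjugatesOfSet ({z} : Set G)) := by
      apply hle
      rw [htop]
      trivial
    rw [Subgroup.mem_centralizer_iff] at hg
    have hzmem : z ∈ Group.conjugatesOfSet ({z} : Set G) :=
      Group.mem_conjugatesOfSet_iff.mpr ⟨z, Set.mem_singleton z, IsConj.refl z⟩
    exact (hg z hzmem).symm
  exact hG2 (card_two_of_central hzo hcen)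

section main

variable [Finite G] [IsSimpleGroup G]

/-- **Step 1.** Some Sylow `2`-subgroup lies in the centralizer of `x` (and contains `x`). -/
theorem exists_sylow_le (hG2 : Nat.card G ≠ 2) {x : G} (hx : orderOf x = 2) (h3 : Few x) :
    ∃ S : Sylow 2 G, (S : Subgroup G) ≤ Subgroup.centralizer ({x} : Set G) ∧ x ∈ S := by
  haveI : Fact (Nat.Prime 2) := ⟨Nat.prime_two⟩
  set C := Subgroup.centralizer ({x} : Set G) with hC
  have hxC : x ∈ C := mem_centralizer_singleton_iff.mpr rfl
  -- a Sylow 2-subgroup of C containing x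
  have hpx : IsPGroup 2 (Subgroup.zpowers (⟨x, hxC⟩ : ↥C)) := by
    apply IsPGroup.of_card (n := 1)
    rw [Nat.card_zpowers, Subgroup.orderOf_mk, hx, pow_one]
  obtain ⟨Q₀, hQ₀⟩ := hpx.exists_le_sylow
  have hxQ₀ : (⟨x, hxC⟩ : ↥C) ∈ Q₀ := hQ₀ (Subgroup.mem_zpowers _)
  set Q : Subgroup G := (Q₀ : Subgroup ↥C).map C.subtype with hQ
  have hQp : IsPGroup 2 Q := Q₀.isPGroup'.map C.subtype
  have hxQ : x ∈ Q := ⟨⟨x, hxC⟩, hxQ₀, rfl⟩
  have hQC : Q ≤ C := by
    rintro _ ⟨q, _, rfl⟩
    exact q.2
  obtain ⟨P, hQP⟩ := hQp.exists_le_sylow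
  by_cases hPC : (P : Subgroup G) ≤ C
  · exact ⟨P, hPC, hQP hxQ⟩
  -- P ⊓ C = Q
  have hPCQ : ∀ g ∈ (P : Subgroup G), g ∈ C → g ∈ Q := by
    intro g hgP hgC
    set K : Subgroup ↥C := (P : Subgroup G).comap C.subtype with hK
    have hKp : IsPGroup 2 K := P.isPGroup'.comap_subtype
    have hle : (Q₀ : Subgroup ↥C) ≤ K := by
      intro q hq
      show (q : G) ∈ (P : Subgroup G)
      exact hQP ⟨q, hq, rfl⟩
    have hKQ : K = Q₀ := Q₀.is_maximal' hKp hle
    have hmem : (⟨g, hgC⟩ : ↥C) ∈ K := hgP
    rw [hKQ] at hmem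
    exact ⟨⟨g, hgC⟩, hmem, rfl⟩
  -- the normalizer grows
  have hQne : Q ≠ (P : Subgroup G) := by
    intro h
    apply hPC
    rw [← h]
    exact hQC
  obtain ⟨g, hgP, hgQ, hgn⟩ : ∃ g ∈ (P : Subgroup G), g ∉ Q ∧ ∀ q ∈ Q, g * q * g⁻¹ ∈ Q := by
    haveI : Group.IsNilpotent ↥(P : Subgroup G) := P.isPGroup'.isNilpotent
    have hnc : NormalizerCondition ↥(P : Subgroup G) := Group.normalizerCondition_of_isNilpotent
    set Q' : Subgroup ↥(P : Subgroup G) := Q.subgroupOf (P : Subgroup G) with hQ'
    have hQ'top : Q' < ⊤ := by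
      rw [lt_top_iff_ne_top]
      intro h
      apply hQne
      apply le_antisymm hQP
      intro p hp
      have : (⟨p, hp⟩ : ↥(P : Subgroup G)) ∈ Q' := by rw [h]; trivial
      exact Subgroup.mem_subgroupOf.mp this
    have hlt := hnc Q' hQ'top
    obtain ⟨g', hg'n, hg'Q⟩ := SetLike.exists_of_lt hlt
    refine ⟨(g' : G), g'.2, fun h => hg'Q (Subgroup.mem_subgroupOf.mpr h), ?_⟩
    intro q hq
    have hqP : q ∈ (P : Subgroup G) := hQP hq
    have := (Subgroup.mem_normalizer_iff.mp hg'n ⟨q, hqP⟩).mp (Subgroup.mem_subgroupOf.mpr hq)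
    exact Subgroup.mem_subgroupOf.mp this
  set y := g * x * g⁻¹ with hy
  have hyQ : y ∈ Q := hgn x hxQ
  have hyC : y ∈ C := hQC hyQ
  have hyx : y * x = x * y := mem_centralizer_singleton_iff.mp hyC
  have hyo : orderOf y = 2 := by rw [hy, order_conj, hx]
  have hne : y ≠ x := by
    intro h
    apply hgQ
    apply hPCQ g hgP
    rw [hC, mem_centralizer_singleton_iff]
    calc g * x = (g * x * g⁻¹) * g := by group
      _ = x * g := by rw [← hy, h]
  have hconj : IsConj x y := isConj_iff.mpr ⟨g, rfl⟩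
  have hz := core hG2 hx h3 hyo hyx hne hconj
  -- a central involution of P
  haveI : Nontrivial ↥(P : Subgroup G) :=
    ⟨⟨⟨x, hQP hxQ⟩, 1, fun h => ne_one_of_order_two hx (congrArg Subtype.val h)⟩⟩
  haveI := P.isPGroup'.center_nontrivial
  have hZp : IsPGroup 2 (Subgroup.center ↥(P : Subgroup G)) := P.isPGroup'.to_subgroup _
  obtain ⟨c₀, hc₀⟩ : ∃ c : ↥(Subgroup.center ↥(P : Subgroup G)), orderOf c = 2 := by
    rcases hZp.card_eq_or_dvd with h | h
    · exfalso
      have := Finite.one_lt_card (α := ↥(Subgroup.center ↥(P : Subgroup G)))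
      omega
    · exact exists_prime_orderOf_dvd_card' 2 h
  set c : G := ((c₀ : ↥(P : Subgroup G)) : G) with hc
  have hco : orderOf c = 2 := by
    rw [hc, Subgroup.orderOf_coe, Subgroup.orderOf_coe, hc₀]
  have hcP : c ∈ (P : Subgroup G) := (c₀ : ↥(P : Subgroup G)).2
  have hccomm : ∀ p ∈ (P : Subgroup G), p * c = c * p := by
    intro p hp
    have := Subgroup.mem_center_iff.mp c₀.2 ⟨p, hp⟩
    exact congrArg Subtype.val this
  have hcx : c * x = x * c := (hccomm x (hQP hxQ)).symm
  have hxc : IsConj x c := by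
    rcases three_invs hx hyo hyx hne h3 hco hcx with h | h | h
    · rw [h]
    · rw [h]; exact hconj
    · rw [h]; exact hz
  obtain ⟨d, hd⟩ := isConj_iff.mp hxc
  obtain ⟨e, he⟩ : ∃ e : G, e⁻¹ * x * e = c := ⟨d⁻¹, by rw [inv_inv]; exact hd⟩
  refine ⟨e • P, ?_, ?_⟩
  · intro s hs
    rw [Sylow.smul_def, Sylow.pointwise_smul_def, Subgroup.mem_pointwise_smul_iff_inv_smul_mem,
      MulAut.smul_def, ← map_inv, MulAut.conj_apply, inv_inv] at hs
    rw [hC, mem_centralizer_singleton_iff]
    have := hccomm _ hs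
    rw [← he] at this
    calc s * x = e * ((e⁻¹ * s * e) * (e⁻¹ * x * e)) * e⁻¹ := by group
      _ = e * ((e⁻¹ * x * e) * (e⁻¹ * s * e)) * e⁻¹ := by rw [this]
      _ = x * s := by group
  · show x ∈ ((e • P : Sylow 2 G) : Subgroup G)
    rw [Sylow.smul_def, Sylow.pointwise_smul_def, Subgroup.mem_pointwise_smul_iff_inv_smul_mem,
      MulAut.smul_def, ← map_inv, MulAut.conj_apply, inv_inv, he]
    exact hcP

/-- **Step 2.** If no involution is isolated, all involutions are conjugate. -/
theorem all_conj (hG2 : Nat.card G ≠ 2) {x : G} (hx : orderOf x = 2) (h3 : Few x)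
    (hni : ∀ (P : Sylow 2 G) (u : G), orderOf u = 2 → u ∈ P →
      ∃ g : G, g * u * g⁻¹ ∈ P ∧ g * u * g⁻¹ ≠ u) :
    ∀ u v : G, orderOf u = 2 → orderOf v = 2 → IsConj u v := by
  haveI : Fact (Nat.Prime 2) := ⟨Nat.prime_two⟩
  obtain ⟨S, hSC, hxS⟩ := exists_sylow_le hG2 hx h3
  obtain ⟨g, hgS, hgne⟩ := hni S x hx hxS
  set y := g * x * g⁻¹ with hy
  have hyC := hSC hgS
  have hyx : y * x = x * y := mem_centralizer_singleton_iff.mp hyC
  have hyo : orderOf y = 2 := by rw [hy, order_conj, hx]
  have hconj : IsConj x y := isConj_iff.mpr ⟨g, rfl⟩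
  have hz := core hG2 hx h3 hyo hyx hgne hconj
  have key : ∀ u : G, orderOf u = 2 → IsConj x u := by
    intro u hu
    have hpu : IsPGroup 2 (Subgroup.zpowers u) := by
      apply IsPGroup.of_card (n := 1)
      rw [Nat.card_zpowers, hu, pow_one]
    obtain ⟨P₁, hP₁⟩ := hpu.exists_le_sylow
    obtain ⟨k, hk⟩ := MulAction.exists_smul_eq G P₁ S
    have huP : u ∈ (P₁ : Subgroup G) := hP₁ (Subgroup.mem_zpowers u)
    have hkS : k * u * k⁻¹ ∈ (S : Subgroup G) := by
      rw [← hk, Sylow.smul_def, Sylow.pointwise_smul_def,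
        Subgroup.mem_pointwise_smul_iff_inv_smul_mem, MulAut.smul_def, ← map_inv,
        MulAut.conj_apply, inv_inv]
      have : k⁻¹ * (k * u * k⁻¹) * k = u := by group
      rw [this]
      exact huP
    have hkC := hSC hkS
    have hkx : (k * u * k⁻¹) * x = x * (k * u * k⁻¹) := mem_centralizer_singleton_iff.mp hkC
    have hko : orderOf (k * u * k⁻¹) = 2 := by rw [order_conj, hu]
    have huk : IsConj u (k * u * k⁻¹) := isConj_iff.mpr ⟨k, rfl⟩
    have hxw : IsConj x (k * u * k⁻¹) := by
      rcases three_invs hx hyo hyx hgne h3 hko hkx with h | h | h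
      · rw [h]
      · rw [h]; exact hconj
      · rw [h]; exact hz
    exact hxw.trans huk.symm
  intro u v hu hv
  exact (key u hu).symm.trans (key v hv)

end main

end Cfsg.Agent.Lib.Helper86.FewInv
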