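import Cfsg.Agent.Lib.Helper47.FLDefs

/-! # FL hive (helper47, S2863): leaves CORE-COMM `core_comm_mem` and CORE-CONJ `coreSetup_cj` -/

set_option autoImplicit false

namespace Cfsg.Agent.Lib.Helper47.FL

open Cfsg

section core

variable {H : Type*} [Group H] {Y A : Subgroup H}

/-- LEAF CORE-COMM. `y a y⁻¹ a⁻¹ ∈ A` (`A` normal) and `= y (a y⁻¹ a⁻¹) ∈ Y` (`a` normalizes `Y`). -/
theorem core_comm_mem (h : CoreSetup Y A) {y a : H} (hy : y ∈ Y) (ha : a ∈ A) :
    y * a * y⁻¹ * a⁻¹ ∈ Y ⊓ A := by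
  haveI := h.normal
  refine ⟨?_, ?_⟩
  · have h1 : a * y⁻¹ * a⁻¹ ∈ Y := (Subgroup.mem_normalizer_iff.mp (h.norm ha) y⁻¹).mp (Y.inv_mem hy)
    have h2 : y * a * y⁻¹ * a⁻¹ = y * (a * y⁻¹ * a⁻¹) := by group
    rw [h2]
    exact Y.mul_mem hy h1
  · have h1 : y * a * y⁻¹ ∈ A := h.normal.conj_mem a ha y
    exact A.mul_mem h1 (A.inv_mem ha)

theorem coreconj_cj_normal (g : H) (N : Subgroup H) [N.Normal] : cj g N = N := by
  ext x
  rw [mem_cj_iff]
  constructor
  · intro hx
    have := ‹N.Normal›.conj_mem _ hx g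
    have h2 : g * (g⁻¹ * x * g) * g⁻¹ = x := by group
    rwa [h2] at this
  · intro hx
    have := ‹N.Normal›.conj_mem _ hx g⁻¹
    rwa [inv_inv] at this

theorem coreconj_cj_inf (g : H) (P Q : Subgroup H) : cj g (P ⊓ Q) = cj g P ⊓ cj g Q := by
  ext x
  simp only [mem_cj_iff, Subgroup.mem_inf]

theorem coreconj_cj_sup (g : H) (P Q : Subgroup H) : cj g (P ⊔ Q) = cj g P ⊔ cj g Q :=
  Subgroup.map_sup P Q _

theorem coreconj_cj_top (g : H) : cj g (⊤ : Subgroup H) = ⊤ := by
  ext x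
  rw [mem_cj_iff]
  simp

theorem coreconj_normalClosure_cj (g : H) (P : Subgroup H) :
    Subgroup.normalClosure ((cj g P : Subgroup H) : Set H) = Subgroup.normalClosure (P : Set H) := by
  apply le_antisymm
  · apply Subgroup.normalClosure_le_normal
    intro x hx
    obtain ⟨y, hy, rfl⟩ := mem_cj.mp hx
    exact (Subgroup.normalClosure_normal).conj_mem y (Subgroup.subset_normalClosure hy) g
  · apply Subgroup.normalClosure_le_normal
    intro y hy
    have h1 : g * y * g⁻¹ ∈ Subgroup.normalClosure ((cj g P : Subgroup H) : Set H) :=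
      Subgroup.subset_normalClosure (conj_mem_cj hy)
    have h2 := (Subgroup.normalClosure_normal).conj_mem _ h1 g⁻¹
    have h3 : g⁻¹ * (g * y * g⁻¹) * g⁻¹⁻¹ = y := by group
    rwa [h3] at h2

theorem coreconj_mem_normalizer_cj {g k : H} {P : Subgroup H} :
    k ∈ Subgroup.normalizer ((cj g P : Subgroup H) : Set H) ↔
      g⁻¹ * k * g ∈ Subgroup.normalizer (P : Set H) := by
  rw [← cj_eq_self_iff, ← cj_eq_self_iff, ← cj_mul]
  constructor
  · intro h
    have h1 : cj g⁻¹ (cj (k * g) P) = cj g⁻¹ (cj g P) := by rw [h]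
    rw [← cj_mul, cj_inv_cj] at h1
    have h2 : g⁻¹ * (k * g) = g⁻¹ * k * g := by group
    rwa [h2] at h1
  · intro h
    have h1 : cj g (cj (g⁻¹ * k * g) P) = cj g P := by rw [h]
    rw [← cj_mul] at h1
    have h2 : g * (g⁻¹ * k * g) = k * g := by group
    rwa [h2] at h1

/-- LEAF CORE-CONJ. The setup is invariant under conjugation (`center` is fixed elementwise). -/
theorem coreSetup_cj (h : CoreSetup Y A) (g : H) : CoreSetup (cj g Y) A := by
  haveI := h.normal
  have hA : cj g A = A := coreconj_cj_normal g A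
  refine ⟨h.normal, ?_, ?_, ?_, ?_, ?_, ?_, ?_⟩
  · intro a ha b hb
    obtain ⟨a', ha', rfl⟩ := mem_cj.mp ha
    obtain ⟨b', hb', rfl⟩ := mem_cj.mp hb
    have hc := h.comm a' ha' b' hb'
    calc g * a' * g⁻¹ * (g * b' * g⁻¹) = g * (a' * b') * g⁻¹ := by group
      _ = g * (b' * a') * g⁻¹ := by rw [hc]
      _ = g * b' * g⁻¹ * (g * a' * g⁻¹) := by group
  · intro a ha
    rw [coreconj_mem_normalizer_cj]
    apply h.norm
    have := h.normal.conj_mem a ha g⁻¹
    rwa [inv_inv] at this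
  · have h1 : (cj g Y ⊓ A : Subgroup H) = cj g (Y ⊓ A) := by
      rw [coreconj_cj_inf, hA]
    rw [h1, coreconj_normalClosure_cj]
    exact h.acl
  · rw [coreconj_normalClosure_cj]
    exact h.ycl
  · rintro x ⟨hx, hxc⟩
    apply h.cle
    refine ⟨?_, hxc⟩
    have h1 := mem_cj_iff.mp hx
    have h2 : g⁻¹ * x * g = x := by
      have := (Subgroup.mem_center_iff.mp hxc) g
      calc g⁻¹ * x * g = g⁻¹ * (x * g) := by group
        _ = g⁻¹ * (g * x) := by rw [this]
        _ = x := by group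
    rwa [h2] at h1
  · intro k hk
    rw [coreconj_mem_normalizer_cj] at hk
    have h1 := h.opp _ hk
    have h2 : cj g (Y ⊔ cj (g⁻¹ * k * g) Y) = ⊤ := by rw [h1, coreconj_cj_top]
    rw [coreconj_cj_sup, ← cj_mul] at h2
    have h3 : g * (g⁻¹ * k * g) = k * g := by group
    rw [h3, cj_mul] at h2
    exact h2
  · intro htop
    apply h.nne
    rw [eq_top_iff]
    intro x _
    have h1 : g * x * g⁻¹ ∈ Subgroup.normalizer ((cj g Y : Subgroup H) : Set H) := by
      rw [htop]; trivial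
    rw [coreconj_mem_normalizer_cj] at h1
    have h2 : g⁻¹ * (g * x * g⁻¹) * g = x := by group
    rwa [h2] at h1

end core

end Cfsg.Agent.Lib.Helper47.FL
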