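import Mathlib

/-! # G42 hive (S2553, helper47), sub-leaf DEG7-NSYL: helper lemmas (a solvable transitive group of prime degree
has a normal Sylow `p`). -/

set_option autoImplicit false

namespace Cfsg.Agent.Lib.Helper47.G42

open Equiv MulAction

/-- a non-trivial normal subgroup of a transitive group of prime degree is transitive, and `p` divides its order. -/
theorem deg7nsyla_normal_trans {α : Type*} [Fintype α] [DecidableEq α] {p : ℕ} [Fact p.Prime]
    (hα : Fintype.card α = p) (G : Subgroup (Perm α)) [MulAction.IsPretransitive G α]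
    (N : Subgroup G) [N.Normal] (hN : N ≠ ⊥) :
    MulAction.IsPretransitive N α ∧ p ∣ Nat.card N := by
  have hp : (Nat.card α).Prime := by rw [Nat.card_eq_fintype_card, hα]; exact Fact.out
  have : IsPreprimitive G α := IsPreprimitive.of_prime_card hp
  have : IsQuasiPreprimitive G α := IsPreprimitive.isQuasiPreprimitive
  have hfix : fixedPoints N α ≠ Set.univ := by
    intro h
    apply hN
    rw [Subgroup.eq_bot_iff_forall]
    intro n hn
    apply Subtype.ext
    apply Equiv.ext
    intro a
    have ha : a ∈ fixedPoints N α := by rw [h]; trivial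
    exact ha ⟨n, hn⟩
  have hT : IsPretransitive N α := IsQuasiPreprimitive.isPretransitive_of_normal hfix
  refine ⟨hT, ?_⟩
  have hpos : 0 < Fintype.card α := by rw [hα]; exact (Fact.out : p.Prime).pos
  obtain ⟨a⟩ : Nonempty α := Fintype.card_pos_iff.1 hpos
  have h1 := index_stabilizer_of_transitive N a
  rw [Nat.card_eq_fintype_card, hα] at h1
  rw [← h1]
  exact Subgroup.index_dvd_card _

/-- a Sylow `p`-subgroup of a transitive group of prime degree `p` has order `p`. -/
theorem deg7nsyla_sylow_card {α : Type*} [Fintype α] [DecidableEq α] {p : ℕ} [Fact p.Prime]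
    (hα : Fintype.card α = p) (G : Subgroup (Perm α)) [MulAction.IsPretransitive G α]
    (P : Sylow p G) : Nat.card (P : Subgroup G) = p := by
  have hpp : p.Prime := Fact.out
  have hdvd : p ∣ Nat.card G := by
    have hpos : 0 < Fintype.card α := by rw [hα]; exact hpp.pos
    obtain ⟨a⟩ : Nonempty α := Fintype.card_pos_iff.1 hpos
    have h1 := index_stabilizer_of_transitive G a
    rw [Nat.card_eq_fintype_card, hα] at h1
    rw [← h1]
    exact Subgroup.index_dvd_card _
  have hfac : Nat.card G ∣ p.factorial := by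
    have h := Subgroup.card_subgroup_dvd_card G
    rwa [Nat.card_eq_fintype_card (α := Perm α), Fintype.card_perm, hα] at h
  have hnot : ¬ p ^ 2 ∣ Nat.card G := by
    intro h
    have h2 : p ^ 2 ∣ p.factorial := h.trans hfac
    obtain ⟨k, hk⟩ : ∃ k, p = k + 1 := ⟨p - 1, by have := hpp.pos; omega⟩
    rw [hk, Nat.factorial_succ, pow_two] at h2
    have h3 : (k + 1) ∣ k.factorial := Nat.dvd_of_mul_dvd_mul_left (by omega) h2
    rw [← hk] at h3
    have := (hpp.dvd_factorial).1 h3
    omega
  have hcard := P.card_eq_multiplicity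
  have hne : Nat.card G ≠ 0 := Nat.card_pos.ne'
  have hk1 : (Nat.card G).factorization p = 1 := by
    have hle : (Nat.card G).factorization p ≤ 1 := by
      by_contra hcon
      push Not at hcon
      apply hnot
      exact (pow_dvd_pow p hcon).trans (Nat.ordProj_dvd _ _)
    have hge : 1 ≤ (Nat.card G).factorization p :=
      (hpp.factorization_pos_of_dvd hne hdvd)
    omega
  rw [hcard, hk1, pow_one]

/-- DEG7-NSYL, full statement under an auxiliary name. -/
theorem deg7nsyla_full {α : Type*} [Fintype α] [DecidableEq α] {p : ℕ} [Fact p.Prime]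
    (hα : Fintype.card α = p) (G : Subgroup (Perm α)) [MulAction.IsPretransitive G α]
    (hs : Group.IsSolvable G) (P : Sylow p G) :
    Subgroup.normalizer ((P : Subgroup G) : Set G) = ⊤ := by
  have hpp : p.Prime := Fact.out
  have hPcard := deg7nsyla_sylow_card hα G P
  -- `G` is non-trivial
  have hGnt : (⊤ : Subgroup G) ≠ ⊥ := by
    intro h
    have h1 : Nat.card (P : Subgroup G) = 1 := by
      have : (P : Subgroup G) = ⊥ := by
        rw [eq_bot_iff, ← h]; exact le_top
      rw [this]; exact Subgroup.card_bot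
    rw [hPcard] at h1
    exact hpp.one_lt.ne' h1
  -- the last non-trivial term of the derived series
  obtain ⟨n, hn⟩ := hs.solvable
  classical
  let n0 := Nat.find (⟨n, hn⟩ : ∃ n, derivedSeries G n = ⊥)
  have hn0 : derivedSeries G n0 = ⊥ := Nat.find_spec (⟨n, hn⟩ : ∃ n, derivedSeries G n = ⊥)
  have hn0pos : n0 ≠ 0 := by
    intro h0
    rw [h0, derivedSeries_zero] at hn0
    exact hGnt hn0
  obtain ⟨m, hm⟩ : ∃ m, n0 = m + 1 := ⟨n0 - 1, by omega⟩
  have hAne : derivedSeries G m ≠ ⊥ := by
    intro h
    have := Nat.find_min (⟨n, hn⟩ : ∃ n, derivedSeries G n = ⊥) (m := m) (by omega)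
    exact this h
  set A : Subgroup G := derivedSeries G m with hA
  have hAn : A.Normal := derivedSeries_normal G m
  have hAA : ⁅A, A⁆ = ⊥ := by
    rw [hm, derivedSeries_succ] at hn0
    exact hn0
  have hcomm : ∀ a ∈ A, ∀ b ∈ A, a * b = b * a := by
    intro a ha b hb
    have h1 : A ≤ Subgroup.centralizer (A : Set G) := Subgroup.commutator_eq_bot_iff_le_centralizer.1 hAA
    exact ((Subgroup.mem_centralizer_iff.1 (h1 ha)) b hb).symm ▸ rfl
  obtain ⟨-, hpA⟩ := deg7nsyla_normal_trans hα G A hAne
  -- the `p`-torsion of `A`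
  let T : Subgroup G :=
    { carrier := {x | x ∈ A ∧ x ^ p = 1}
      one_mem' := ⟨A.one_mem, one_pow p⟩
      mul_mem' := by
        rintro x y ⟨hx, hxp⟩ ⟨hy, hyp⟩
        refine ⟨A.mul_mem hx hy, ?_⟩
        have hc : Commute x y := hcomm x hx y hy
        rw [hc.mul_pow, hxp, hyp, one_mul]
      inv_mem' := by
        rintro x ⟨hx, hxp⟩
        exact ⟨A.inv_mem hx, by rw [inv_pow, hxp, inv_one]⟩ }
  have hTmem : ∀ x, x ∈ T ↔ x ∈ A ∧ x ^ p = 1 := fun x => Iff.rfl
  have hTn : T.Normal := by
    refine ⟨fun x hx g => ?_⟩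
    obtain ⟨hxA, hxp⟩ := (hTmem x).1 hx
    refine (hTmem _).2 ⟨hAn.conj_mem x hxA g, ?_⟩
    rw [conj_pow, hxp, mul_one, mul_inv_cancel]
  have hTne : T ≠ ⊥ := by
    obtain ⟨a, ha⟩ := exists_prime_orderOf_dvd_card' (G := A) p hpA
    intro h
    have hmem : (a : G) ∈ T := by
      refine (hTmem _).2 ⟨a.2, ?_⟩
      have : a ^ p = 1 := by rw [← ha]; exact pow_orderOf_eq_one a
      have h2 := congrArg (fun z : A => (z : G)) this
      simpa using h2
    rw [h, Subgroup.mem_bot] at hmem
    have ha1 : a = 1 := Subtype.ext hmem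
    rw [ha1, orderOf_one] at ha
    exact hpp.one_lt.ne ha
  have hTp : IsPGroup p T := by
    intro x
    refine ⟨1, ?_⟩
    obtain ⟨-, hxp⟩ := (hTmem x.1).1 x.2
    apply Subtype.ext
    rw [pow_one]
    simpa using hxp
  -- `T ≤ P`
  have hTP : T ≤ (P : Subgroup G) := by
    have hsup : IsPGroup p (T ⊔ (P : Subgroup G) : Subgroup G) := hTp.to_sup_of_normal_left P.2
    have := P.is_maximal' hsup le_sup_right
    rw [← this]
    exact le_sup_left
  -- `T = P`
  have hTcard : Nat.card T = p := by
    have h1 : Nat.card T ∣ p := by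
      rw [← hPcard]
      exact Subgroup.card_dvd_of_le hTP
    rcases (Nat.dvd_prime hpp).1 h1 with h | h
    · exact absurd (Subgroup.card_eq_one.1 h) hTne
    · exact h
  have hTeq : T = (P : Subgroup G) :=
    Subgroup.eq_of_le_of_card_ge hTP (by rw [hPcard, hTcard])
  rw [← hTeq]
  exact Subgroup.normalizer_eq_top_iff.2 hTn

end Cfsg.Agent.Lib.Helper47.G42
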