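import Mathlib
import Cfsg.Agent.Lib.Helper86.G42DEG7NSYLa

/-! # G42 hive (S2553, helper47), sub-leaf DEG7-NSYL `deg7_sylow_normal` (exact name + statement). -/

set_option autoImplicit false

namespace Cfsg.Agent.Lib.Helper47.G42

open Equiv

/-- SUB-LEAF DEG7-NSYL (Galois): a solvable transitive group of prime degree has a normal Sylow `p`. -/
theorem deg7_sylow_normal {α : Type*} [Fintype α] [DecidableEq α] {p : ℕ} [Fact p.Prime]
    (hα : Fintype.card α = p) (G : Subgroup (Perm α)) [MulAction.IsPretransitive G α]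
    (hs : Group.IsSolvable G) (P : Sylow p G) :
    Subgroup.normalizer ((P : Subgroup G) : Set G) = ⊤ :=
  deg7nsyla_full hα G hs P

end Cfsg.Agent.Lib.Helper47.G42
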