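import Mathlib
import Cfsg.Agent.Lib.Helper67.OgDefs
import Cfsg.Agent.Lib.Helper67.OgFam
import Cfsg.Agent.Lib.Helper37.OrthMinus
import Cfsg.Agent.Lib.Helper43.OrthCardMinus
import Cfsg.Agent.Lib.Helper39.SLPerfect

/-!
# Og hive (S2413 / S2414 / S2415), leaf OG-M-RHO3 : `exists_rho_minus_three`

`ρ = E(e₂, w₁) * E(f₂, w₀)` (Eichler elements).  On the coordinates `(e₂, f₂, w₀, w₁)` it acts by
the matrix `mrho3_R a b`, all other coordinates are fixed.  Over the field with three elements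
`(a, b) ∈ {(0,1), (1,2), (2,2)}` and `mrho3_R a b` has order `5, 4, 5`, so `ρ ^ 20 = 1`.
Span conditions: `ρ f₂` has `W`-part `w₁`, `ρ⁻¹ f₂ = ρ^19 f₂` has `W`-part `b w₀ - w₁`;
`ρ e₂` has `W`-part `w₀ - w₁`, `ρ⁻¹ e₂` has `W`-part `-w₀`.
-/

set_option autoImplicit false
set_option linter.unusedSectionVars false
set_option linter.unusedVariables false

namespace Cfsg.Agent.Lib.Helper67.Og

open Matrix Module QuadraticMap
open Cfsg.Agent.Lib.Helper37 Cfsg.Agent.Lib.Helper8 Cfsg.Agent.Lib.Helper43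
open Cfsg.Agent.Lib.Helper37.OrthField
open scoped commutatorElement

/-- the matrix of `ρ` on the coordinates `(e₂, f₂, w₀, w₁)` -/
def mrho3_R {K : Type*} [CommRing K] (a b : K) : Matrix (Fin 4) (Fin 4) K :=
  !![1 - a + b, -b, 2 * b - a, a * b - 2 * b;
     -1, 1, -2, -a;
     1, 0, 1, 0;
     -1, 1, -2, 1 - a]

theorem mrho3_R_map {K L : Type*} [CommRing K] [CommRing L] (φ : K →+* L) (a b : K) :
    (mrho3_R a b).map φ = mrho3_R (φ a) (φ b) := by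
  ext i j; fin_cases i <;> fin_cases j <;> simp [mrho3_R, map_ofNat]

set_option maxRecDepth 100000 in
theorem mrho3_pow_01 : mrho3_R (0 : ZMod 3) 1 ^ 5 = 1 := by
  have h2 : mrho3_R (0 : ZMod 3) 1 * mrho3_R (0 : ZMod 3) 1
      = !![0,1,0,0; 1,2,0,2; 0,2,0,1; 0,0,1,0] := by decide
  have h4 : (!![0,1,0,0; 1,2,0,2; 0,2,0,1; 0,0,1,0] : Matrix (Fin 4) (Fin 4) (ZMod 3))
      * !![0,1,0,0; 1,2,0,2; 0,2,0,1; 0,0,1,0] = !![1,2,0,2; 2,2,2,1; 2,1,1,1; 0,2,0,1] := by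
    decide
  have h5 : (!![1,2,0,2; 2,2,2,1; 2,1,1,1; 0,2,0,1] : Matrix (Fin 4) (Fin 4) (ZMod 3))
      * mrho3_R (0 : ZMod 3) 1 = 1 := by decide
  have e : mrho3_R (0 : ZMod 3) 1 ^ 5 = (mrho3_R (0 : ZMod 3) 1 * mrho3_R (0 : ZMod 3) 1) *
      (mrho3_R (0 : ZMod 3) 1 * mrho3_R (0 : ZMod 3) 1) * mrho3_R (0 : ZMod 3) 1 := by
    simp only [pow_succ, pow_zero, one_mul, mul_assoc]
  rw [e, h2, h4, h5]

set_option maxRecDepth 100000 in
theorem mrho3_pow_12 : mrho3_R (1 : ZMod 3) 2 ^ 4 = 1 := by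
  have h2 : mrho3_R (1 : ZMod 3) 2 * mrho3_R (1 : ZMod 3) 2
      = !![2,1,2,1; 2,2,1,1; 0,1,1,1; 1,0,2,1] := by decide
  have h4 : (!![2,1,2,1; 2,2,1,1; 0,1,1,1; 1,0,2,1] : Matrix (Fin 4) (Fin 4) (ZMod 3))
      * !![2,1,2,1; 2,2,1,1; 0,1,1,1; 1,0,2,1] = 1 := by decide
  have e : mrho3_R (1 : ZMod 3) 2 ^ 4 = (mrho3_R (1 : ZMod 3) 2 * mrho3_R (1 : ZMod 3) 2) *
      (mrho3_R (1 : ZMod 3) 2 * mrho3_R (1 : ZMod 3) 2) := by
    simp only [pow_succ, pow_zero, one_mul, mul_assoc]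
  rw [e, h2, h4]

set_option maxRecDepth 100000 in
theorem mrho3_pow_22 : mrho3_R (2 : ZMod 3) 2 ^ 5 = 1 := by
  have h2 : mrho3_R (2 : ZMod 3) 2 * mrho3_R (2 : ZMod 3) 2
      = !![2,2,2,1; 1,1,1,0; 2,1,0,0; 0,2,2,2] := by decide
  have h4 : (!![2,2,2,1; 1,1,1,0; 2,1,0,0; 0,2,2,2] : Matrix (Fin 4) (Fin 4) (ZMod 3))
      * !![2,2,2,1; 1,1,1,0; 2,1,0,0; 0,2,2,2] = !![1,1,2,1; 2,1,0,1; 2,2,2,2; 0,2,0,1] := by
    decide
  have h5 : (!![1,1,2,1; 2,1,0,1; 2,2,2,2; 0,2,0,1] : Matrix (Fin 4) (Fin 4) (ZMod 3))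
      * mrho3_R (2 : ZMod 3) 2 = 1 := by decide
  have e : mrho3_R (2 : ZMod 3) 2 ^ 5 = (mrho3_R (2 : ZMod 3) 2 * mrho3_R (2 : ZMod 3) 2) *
      (mrho3_R (2 : ZMod 3) 2 * mrho3_R (2 : ZMod 3) 2) * mrho3_R (2 : ZMod 3) 2 := by
    simp only [pow_succ, pow_zero, one_mul, mul_assoc]
  rw [e, h2, h4, h5]

theorem mrho3_cases : ∀ a₀ b₀ : ZMod 3,
    (∀ z₁ z₂ : ZMod 3, z₁ ^ 2 + a₀ * z₁ * z₂ + b₀ * z₂ ^ 2 = 0 → z₁ = 0 ∧ z₂ = 0) →
    (a₀ = 0 ∧ b₀ = 1) ∨ (a₀ = 1 ∧ b₀ = 2) ∨ (a₀ = 2 ∧ b₀ = 2) := by decide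

theorem mrho3_pow20_zmod (a₀ b₀ : ZMod 3)
    (h : ∀ z₁ z₂ : ZMod 3, z₁ ^ 2 + a₀ * z₁ * z₂ + b₀ * z₂ ^ 2 = 0 → z₁ = 0 ∧ z₂ = 0) :
    mrho3_R a₀ b₀ ^ 20 = 1 := by
  rcases mrho3_cases a₀ b₀ h with ⟨rfl, rfl⟩ | ⟨rfl, rfl⟩ | ⟨rfl, rfl⟩
  · rw [show (20 : ℕ) = 5 * 4 from rfl, pow_mul, mrho3_pow_01, one_pow]
  · rw [show (20 : ℕ) = 4 * 5 from rfl, pow_mul, mrho3_pow_12, one_pow]
  · rw [show (20 : ℕ) = 5 * 4 from rfl, pow_mul, mrho3_pow_22, one_pow]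

/-- over a field with three elements, `mrho3_R a b ^ 20 = 1` for anisotropic `(a, b)` -/
theorem mrho3_pow20 {F : Type*} [Field F] [Fintype F] (hF : Fintype.card F = 3) (a b : F)
    (hab : ∀ z₁ z₂ : F, z₁ ^ 2 + a * z₁ * z₂ + b * z₂ ^ 2 = 0 → z₁ = 0 ∧ z₂ = 0) :
    mrho3_R a b ^ 20 = 1 := by
  let ψ : ZMod 3 ≃+* F := ZMod.ringEquivOfPrime F Nat.prime_three hF
  obtain ⟨a₀, rfl⟩ := ψ.surjective a
  obtain ⟨b₀, rfl⟩ := ψ.surjective b
  have h0 : ∀ z₁ z₂ : ZMod 3, z₁ ^ 2 + a₀ * z₁ * z₂ + b₀ * z₂ ^ 2 = 0 → z₁ = 0 ∧ z₂ = 0 := by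
    intro z₁ z₂ hz
    have := hab (ψ z₁) (ψ z₂) (by
      rw [← map_pow, ← map_pow, ← map_mul, ← map_mul, ← map_mul, ← map_add, ← map_add, hz,
        map_zero])
    exact ⟨(map_eq_zero_iff ψ ψ.injective).1 this.1, (map_eq_zero_iff ψ ψ.injective).1 this.2⟩
  have h1 := mrho3_pow20_zmod a₀ b₀ h0
  have h2 : mrho3_R (ψ a₀) (ψ b₀) = (ψ : ZMod 3 →+* F).mapMatrix (mrho3_R a₀ b₀) := by
    rw [RingHom.mapMatrix_apply]
    exact (mrho3_R_map (ψ : ZMod 3 →+* F) a₀ b₀).symm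
  rw [h2, ← map_pow, h1, map_one]

section geom

variable {F : Type*} [Field F] {m : ℕ} (a b : F)

theorem mrho3_polar_w0 (x : (Fin m ⊕ Fin m) ⊕ Fin 2 → F) :
    polar ⇑(minusForm m F a b) (Pi.single (Sum.inr 0) 1) x
      = 2 * x (Sum.inr 0) + a * x (Sum.inr 1) := by
  rw [polar_minusForm]
  simp [Pi.single_apply]

theorem mrho3_polar_w1 (x : (Fin m ⊕ Fin m) ⊕ Fin 2 → F) :
    polar ⇑(minusForm m F a b) (Pi.single (Sum.inr 1) 1) x
      = a * x (Sum.inr 0) + 2 * b * x (Sum.inr 1) := by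
  rw [polar_minusForm]
  simp [Pi.single_apply]

theorem mrho3_Q_w0 : minusForm m F a b (Pi.single (Sum.inr 0) 1) = 1 := by
  rw [← minusForm_coe]; simp [Cfsg.quadFormMinus, Pi.single_apply]

theorem mrho3_Q_w1 : minusForm m F a b (Pi.single (Sum.inr 1) 1) = b := by
  rw [← minusForm_coe]; simp [Cfsg.quadFormMinus, Pi.single_apply]

theorem mrho3_E2_apply (hQ : (polarBilin (minusForm m F a b)).Nondegenerate) (i2 : Fin m)
    (h1 : minusForm m F a b (Pi.single (Sum.inl (Sum.inr i2)) 1) = 0)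
    (h2 : polar ⇑(minusForm m F a b) (Pi.single (Sum.inl (Sum.inr i2)) 1)
      (Pi.single (Sum.inr 0) 1) = 0)
    (x : (Fin m ⊕ Fin m) ⊕ Fin 2 → F) (j : (Fin m ⊕ Fin m) ⊕ Fin 2) :
    act (minusForm m F a b) (eichlerElt (minusForm m F a b) hQ
        (Pi.single (Sum.inl (Sum.inr i2)) 1) (Pi.single (Sum.inr 0) 1) h1 h2) x j
      = x j + (if j = Sum.inr 0 then x (Sum.inl (Sum.inl i2)) else 0)
        - (if j = Sum.inl (Sum.inr i2) then
            2 * x (Sum.inr 0) + a * x (Sum.inr 1) + x (Sum.inl (Sum.inl i2)) else 0) := by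
  rw [act_eichlerElt, polar_minusForm_inr, mrho3_polar_w0, mrho3_Q_w0]
  simp only [Pi.add_apply, Pi.sub_apply, Pi.smul_apply, smul_eq_mul, Pi.single_apply]
  split_ifs <;> ring

theorem mrho3_E1_apply (hQ : (polarBilin (minusForm m F a b)).Nondegenerate) (i2 : Fin m)
    (h1 : minusForm m F a b (Pi.single (Sum.inl (Sum.inl i2)) 1) = 0)
    (h2 : polar ⇑(minusForm m F a b) (Pi.single (Sum.inl (Sum.inl i2)) 1)
      (Pi.single (Sum.inr 1) 1) = 0)
    (x : (Fin m ⊕ Fin m) ⊕ Fin 2 → F) (j : (Fin m ⊕ Fin m) ⊕ Fin 2) :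
    act (minusForm m F a b) (eichlerElt (minusForm m F a b) hQ
        (Pi.single (Sum.inl (Sum.inl i2)) 1) (Pi.single (Sum.inr 1) 1) h1 h2) x j
      = x j + (if j = Sum.inr 1 then x (Sum.inl (Sum.inr i2)) else 0)
        - (if j = Sum.inl (Sum.inl i2) then
            a * x (Sum.inr 0) + 2 * b * x (Sum.inr 1) + b * x (Sum.inl (Sum.inr i2)) else 0) := by
  rw [act_eichlerElt, polar_minusForm_inl, mrho3_polar_w1, mrho3_Q_w1]
  simp only [Pi.add_apply, Pi.sub_apply, Pi.smul_apply, smul_eq_mul, Pi.single_apply]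
  split_ifs <;> ring

/-- the element `ρ = E(e₂, w₁) * E(f₂, w₀)` -/
noncomputable def mrho3_rho (hQ : (polarBilin (minusForm m F a b)).Nondegenerate) (i2 : Fin m) :
    ↥(Cfsg.isometryGroup F ⇑(minusForm m F a b)) :=
  eichlerElt (minusForm m F a b) hQ (Pi.single (Sum.inl (Sum.inl i2)) 1) (Pi.single (Sum.inr 1) 1)
      (minusForm_single_inl m F a b i2) (by rw [polar_minusForm_inl]; simp [Pi.single_apply])
    * eichlerElt (minusForm m F a b) hQ (Pi.single (Sum.inl (Sum.inr i2)) 1)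
      (Pi.single (Sum.inr 0) 1)
      (minusForm_single_inr m F a b i2) (by rw [polar_minusForm_inr]; simp [Pi.single_apply])

/-- the four special coordinates -/
def mrho3_c (i2 : Fin m) (x : (Fin m ⊕ Fin m) ⊕ Fin 2 → F) : Fin 4 → F :=
  ![x (Sum.inl (Sum.inl i2)), x (Sum.inl (Sum.inr i2)), x (Sum.inr 0), x (Sum.inr 1)]

theorem mrho3_step_c (hQ : (polarBilin (minusForm m F a b)).Nondegenerate) (i2 : Fin m)
    (x : (Fin m ⊕ Fin m) ⊕ Fin 2 → F) :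
    mrho3_c i2 (act (minusForm m F a b) (mrho3_rho a b hQ i2) x)
      = mrho3_R a b *ᵥ mrho3_c i2 x := by
  funext t
  fin_cases t <;>
    simp [mrho3_c, mrho3_R, mrho3_rho, act_mul, mrho3_E1_apply, mrho3_E2_apply, Matrix.mulVec,
      dotProduct, Fin.sum_univ_four] <;> ring

theorem mrho3_step_other (hQ : (polarBilin (minusForm m F a b)).Nondegenerate) (i2 : Fin m)
    (x : (Fin m ⊕ Fin m) ⊕ Fin 2 → F) (j : (Fin m ⊕ Fin m) ⊕ Fin 2)
    (h1 : j ≠ Sum.inl (Sum.inl i2)) (h2 : j ≠ Sum.inl (Sum.inr i2)) (h3 : j ≠ Sum.inr 0)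
    (h4 : j ≠ Sum.inr 1) :
    act (minusForm m F a b) (mrho3_rho a b hQ i2) x j = x j := by
  simp [mrho3_rho, act_mul, mrho3_E1_apply, mrho3_E2_apply, h1, h2, h3, h4]

theorem mrho3_pow_c (hQ : (polarBilin (minusForm m F a b)).Nondegenerate) (i2 : Fin m) (n : ℕ) :
    ∀ x : (Fin m ⊕ Fin m) ⊕ Fin 2 → F,
    mrho3_c i2 (act (minusForm m F a b) (mrho3_rho a b hQ i2 ^ n) x)
        = (mrho3_R a b ^ n) *ᵥ mrho3_c i2 x ∧
      ∀ j : (Fin m ⊕ Fin m) ⊕ Fin 2, j ≠ Sum.inl (Sum.inl i2) → j ≠ Sum.inl (Sum.inr i2) →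
        j ≠ Sum.inr 0 → j ≠ Sum.inr 1 →
        act (minusForm m F a b) (mrho3_rho a b hQ i2 ^ n) x j = x j := by
  induction n with
  | zero =>
    intro x
    simp [act_one]
  | succ n ih =>
    intro x
    rw [pow_succ, act_mul]
    constructor
    · rw [(ih _).1, mrho3_step_c, Matrix.mulVec_mulVec, ← pow_succ]
    · intro j h1 h2 h3 h4
      rw [(ih _).2 j h1 h2 h3 h4, mrho3_step_other a b hQ i2 x j h1 h2 h3 h4]

theorem mrho3_ext (i2 : Fin m) (x y : (Fin m ⊕ Fin m) ⊕ Fin 2 → F)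
    (hc : mrho3_c i2 x = mrho3_c i2 y)
    (ho : ∀ j : (Fin m ⊕ Fin m) ⊕ Fin 2, j ≠ Sum.inl (Sum.inl i2) → j ≠ Sum.inl (Sum.inr i2) →
        j ≠ Sum.inr 0 → j ≠ Sum.inr 1 → x j = y j) : x = y := by
  funext j
  by_cases h1 : j = Sum.inl (Sum.inl i2)
  · rw [h1]; simpa [mrho3_c] using congrFun hc 0
  by_cases h2 : j = Sum.inl (Sum.inr i2)
  · rw [h2]; simpa [mrho3_c] using congrFun hc 1
  by_cases h3 : j = Sum.inr 0
  · rw [h3]; simpa [mrho3_c] using congrFun hc 2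
  by_cases h4 : j = Sum.inr 1
  · rw [h4]; simpa [mrho3_c] using congrFun hc 3
  exact ho j h1 h2 h3 h4

theorem mrho3_rho_pow20 [Fintype F] (hF : Fintype.card F = 3)
    (hab : ∀ z₁ z₂ : F, z₁ ^ 2 + a * z₁ * z₂ + b * z₂ ^ 2 = 0 → z₁ = 0 ∧ z₂ = 0)
    (hQ : (polarBilin (minusForm m F a b)).Nondegenerate) (i2 : Fin m) :
    mrho3_rho a b hQ i2 ^ 20 = 1 := by
  apply reflElt_ext
  intro x
  rw [act_one]
  obtain ⟨h1, h2⟩ := mrho3_pow_c a b hQ i2 20 x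
  rw [mrho3_pow20 hF a b hab, one_mulVec] at h1
  exact mrho3_ext i2 _ _ h1 h2

/-- the vector with coordinates `c` on `(e₂, f₂, w₀, w₁)` -/
def mrho3_vec (i2 : Fin m) (c : Fin 4 → F) : (Fin m ⊕ Fin m) ⊕ Fin 2 → F :=
  c 0 • Pi.single (Sum.inl (Sum.inl i2)) 1 + c 1 • Pi.single (Sum.inl (Sum.inr i2)) 1
    + c 2 • Pi.single (Sum.inr 0) 1 + c 3 • Pi.single (Sum.inr 1) 1

theorem mrho3_c_vec (i2 : Fin m) (c : Fin 4 → F) : mrho3_c i2 (mrho3_vec i2 c) = c := by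
  funext t
  fin_cases t <;> simp [mrho3_c, mrho3_vec, Pi.single_apply]

theorem mrho3_vec_other (i2 : Fin m) (c : Fin 4 → F) (j : (Fin m ⊕ Fin m) ⊕ Fin 2)
    (h1 : j ≠ Sum.inl (Sum.inl i2)) (h2 : j ≠ Sum.inl (Sum.inr i2)) (h3 : j ≠ Sum.inr 0)
    (h4 : j ≠ Sum.inr 1) : mrho3_vec i2 c j = 0 := by
  simp [mrho3_vec, Pi.single_apply, h1, h2, h3, h4]

theorem mrho3_act_vec (hQ : (polarBilin (minusForm m F a b)).Nondegenerate) (i2 : Fin m)
    (c : Fin 4 → F) :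
    act (minusForm m F a b) (mrho3_rho a b hQ i2) (mrho3_vec i2 c)
      = mrho3_vec i2 (mrho3_R a b *ᵥ c) := by
  apply mrho3_ext i2
  · rw [mrho3_step_c, mrho3_c_vec, mrho3_c_vec]
  · intro j h1 h2 h3 h4
    rw [mrho3_step_other a b hQ i2 _ j h1 h2 h3 h4, mrho3_vec_other i2 _ j h1 h2 h3 h4,
      mrho3_vec_other i2 _ j h1 h2 h3 h4]

theorem mrho3_inv_act_vec (hQ : (polarBilin (minusForm m F a b)).Nondegenerate) (i2 : Fin m)
    (c d : Fin 4 → F) (h : mrho3_R a b *ᵥ c = d) :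
    act (minusForm m F a b) (mrho3_rho a b hQ i2)⁻¹ (mrho3_vec i2 d) = mrho3_vec i2 c := by
  rw [← h, ← mrho3_act_vec a b hQ i2 c, ← act_mul, inv_mul_cancel, act_one]

theorem mrho3_wpart (x : (Fin m ⊕ Fin m) ⊕ Fin 2 → F) :
    Wpart (minusForm m F a b) (eM F m) (fM F m) x
      = x (Sum.inr 0) • Pi.single (Sum.inr 0) 1 + x (Sum.inr 1) • Pi.single (Sum.inr 1) 1 := by
  unfold Wpart
  simp only [eM, fM, polar_minusForm_inl, polar_minusForm_inr]
  funext j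
  rcases j with (i | i) | t
  · simp [Finset.sum_apply, Pi.single_apply]
  · simp [Finset.sum_apply, Pi.single_apply]
  · fin_cases t <;> simp [Finset.sum_apply, Pi.single_apply]

theorem mrho3_wpart_vec (i2 : Fin m) (c : Fin 4 → F) :
    Wpart (minusForm m F a b) (eM F m) (fM F m) (mrho3_vec i2 c)
      = c 2 • Pi.single (Sum.inr 0) 1 + c 3 • Pi.single (Sum.inr 1) 1 := by
  rw [mrho3_wpart]
  have h := mrho3_c_vec i2 c
  have h2 : mrho3_vec i2 c (Sum.inr 0) = c 2 := by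
    have := congrFun h 2; simpa [mrho3_c] using this
  have h3 : mrho3_vec i2 c (Sum.inr 1) = c 3 := by
    have := congrFun h 3; simpa [mrho3_c] using this
  rw [h2, h3]

theorem mrho3_inW_eq (w : (Fin m ⊕ Fin m) ⊕ Fin 2 → F)
    (hw : InW (minusForm m F a b) (eM F m) (fM F m) w) :
    w = w (Sum.inr 0) • Pi.single (Sum.inr 0) 1 + w (Sum.inr 1) • Pi.single (Sum.inr 1) 1 := by
  have h1 : ∀ i, w (Sum.inl (Sum.inr i)) = 0 := fun i => by
    have := (hw i).1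
    rwa [polar_minusForm_inl] at this
  have h2 : ∀ i, w (Sum.inl (Sum.inl i)) = 0 := fun i => by
    have := (hw i).2
    rwa [polar_minusForm_inr] at this
  funext j
  rcases j with (i | i) | t
  · simp [h2 i]
  · simp [h1 i]
  · fin_cases t <;> simp

end geom

section final

variable (F : Type*) [Field F]

/-- OG-M-RHO3 -/
theorem exists_rho_minus_three [Fintype F] (hF : Fintype.card F = 3) (m : ℕ) (hm : 3 ≤ m)
    (a b : F) (hab : ∀ z₁ z₂ : F, z₁ ^ 2 + a * z₁ * z₂ + b * z₂ ^ 2 = 0 → z₁ = 0 ∧ z₂ = 0)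
    (i2 : Fin m) :
    ∃ (ρ : ↥(Cfsg.isometryGroup F ⇑(minusForm m F a b))) (N : ℕ),
      ρ ∈ commutator ↥(Cfsg.isometryGroup F ⇑(minusForm m F a b)) ∧ ρ ^ N = 1 ∧
      Nat.Coprime (ringChar F) N ∧
      (∀ i, i ≠ i2 → act (minusForm m F a b) ρ (eM F m i) = eM F m i ∧
        act (minusForm m F a b) ρ (fM F m i) = fM F m i) ∧
      (∀ w, InW (minusForm m F a b) (eM F m) (fM F m) w →
        w ∈ Submodule.span F {y | ∃ i : ℕ, y = Wpart (minusForm m F a b) (eM F m) (fM F m)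
          (act (minusForm m F a b) (ρ ^ i) (fM F m i2))}) ∧
      (∀ w, InW (minusForm m F a b) (eM F m) (fM F m) w →
        w ∈ Submodule.span F {y | ∃ i : ℕ, y = Wpart (minusForm m F a b) (eM F m) (fM F m)
          (act (minusForm m F a b) (ρ ^ i) (eM F m i2))}) := by
  have hQ : (polarBilin (minusForm m F a b)).Nondegenerate :=
    (minus_family m F a b).nondegenerate (minusForm_zero_nondegenerate F a b hab)
  have hn : finrank F ((Fin m ⊕ Fin m) ⊕ Fin 2 → F) = 2 * (m + 1) := minus_hV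
  have hb : b ≠ 0 := by
    intro hb
    have := hab 0 1 (by rw [hb]; ring)
    exact one_ne_zero this.2
  have h20 : mrho3_rho a b hQ i2 ^ 20 = 1 := mrho3_rho_pow20 a b hF hab hQ i2
  have h19 : mrho3_rho a b hQ i2 ^ 19 = (mrho3_rho a b hQ i2)⁻¹ := by
    apply eq_inv_of_mul_eq_one_left
    rw [← pow_succ]; exact h20
  have he2 : eM F m i2 = mrho3_vec i2 ![1, 0, 0, 0] := by
    simp [mrho3_vec]
  have hf2 : fM F m i2 = mrho3_vec i2 ![0, 1, 0, 0] := by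
    simp [mrho3_vec]
  refine ⟨mrho3_rho a b hQ i2, 20, ?_, h20, ?_, ?_, ?_, ?_⟩
  · exact Subgroup.mul_mem _
      (eichlerElt_mem_omega _ hQ (by rw [hn]; omega) (fun _ => by rw [hn]; omega) _ _ _ _)
      (eichlerElt_mem_omega _ hQ (by rw [hn]; omega) (fun _ => by rw [hn]; omega) _ _ _ _)
  · have h3 : ringChar F ∣ 3 := ringChar.dvd (by rw [← hF]; exact Nat.cast_card_eq_zero F)
    exact Nat.Coprime.coprime_dvd_left h3 (by norm_num)
  · intro i hi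
    have hi' : i2 ≠ i := fun h => hi h.symm
    constructor
    · apply mrho3_ext i2
      · rw [mrho3_step_c]
        have : mrho3_c i2 (eM F m i) = 0 := by
          funext t; fin_cases t <;> simp [mrho3_c, Pi.single_apply, hi']
        rw [this, mulVec_zero]
      · exact fun j h1 h2 h3 h4 => mrho3_step_other a b hQ i2 _ j h1 h2 h3 h4
    · apply mrho3_ext i2
      · rw [mrho3_step_c]
        have : mrho3_c i2 (fM F m i) = 0 := by
          funext t; fin_cases t <;> simp [mrho3_c, Pi.single_apply, hi']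
        rw [this, mulVec_zero]
      · exact fun j h1 h2 h3 h4 => mrho3_step_other a b hQ i2 _ j h1 h2 h3 h4
  · intro w hw
    rw [mrho3_inW_eq a b w hw]
    have hy1 : Wpart (minusForm m F a b) (eM F m) (fM F m)
        (act (minusForm m F a b) (mrho3_rho a b hQ i2 ^ 1) (fM F m i2))
        = Pi.single (Sum.inr 1) 1 := by
      rw [pow_one, hf2, mrho3_act_vec, mrho3_wpart_vec]
      simp [mrho3_R, Matrix.mulVec, dotProduct, Fin.sum_univ_four]
    have hy19 : Wpart (minusForm m F a b) (eM F m) (fM F m)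
        (act (minusForm m F a b) (mrho3_rho a b hQ i2 ^ 19) (fM F m i2))
        = b • Pi.single (Sum.inr 0) 1 - Pi.single (Sum.inr 1) 1 := by
      rw [h19, hf2, mrho3_inv_act_vec a b hQ i2 ![-b, 1 - a + b, b, -1] ![0, 1, 0, 0] (by
        funext t
        fin_cases t <;>
          simp [mrho3_R, Matrix.mulVec, dotProduct, Fin.sum_univ_four] <;> ring),
        mrho3_wpart_vec]
      simp [sub_eq_add_neg]
    have hw1 : (Pi.single (Sum.inr 1) 1 : (Fin m ⊕ Fin m) ⊕ Fin 2 → F) ∈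
        Submodule.span F {y | ∃ i : ℕ, y = Wpart (minusForm m F a b) (eM F m) (fM F m)
          (act (minusForm m F a b) (mrho3_rho a b hQ i2 ^ i) (fM F m i2))} := by
      rw [← hy1]; exact Submodule.subset_span ⟨1, rfl⟩
    have hw0 : (Pi.single (Sum.inr 0) 1 : (Fin m ⊕ Fin m) ⊕ Fin 2 → F) ∈
        Submodule.span F {y | ∃ i : ℕ, y = Wpart (minusForm m F a b) (eM F m) (fM F m)
          (act (minusForm m F a b) (mrho3_rho a b hQ i2 ^ i) (fM F m i2))} := by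
      have e : (Pi.single (Sum.inr 0) 1 : (Fin m ⊕ Fin m) ⊕ Fin 2 → F)
          = b⁻¹ • ((b • Pi.single (Sum.inr 0) 1 - Pi.single (Sum.inr 1) 1)
            + Pi.single (Sum.inr 1) 1) := by
        rw [sub_add_cancel, smul_smul, inv_mul_cancel₀ hb, one_smul]
      rw [e]
      refine Submodule.smul_mem _ _ (Submodule.add_mem _ ?_ hw1)
      rw [← hy19]; exact Submodule.subset_span ⟨19, rfl⟩
    exact Submodule.add_mem _ (Submodule.smul_mem _ _ hw0) (Submodule.smul_mem _ _ hw1)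
  · intro w hw
    rw [mrho3_inW_eq a b w hw]
    have hy1 : Wpart (minusForm m F a b) (eM F m) (fM F m)
        (act (minusForm m F a b) (mrho3_rho a b hQ i2 ^ 1) (eM F m i2))
        = Pi.single (Sum.inr 0) 1 - Pi.single (Sum.inr 1) 1 := by
      rw [pow_one, he2, mrho3_act_vec, mrho3_wpart_vec]
      simp [mrho3_R, Matrix.mulVec, dotProduct, Fin.sum_univ_four, sub_eq_add_neg]
    have hy19 : Wpart (minusForm m F a b) (eM F m) (fM F m)
        (act (minusForm m F a b) (mrho3_rho a b hQ i2 ^ 19) (eM F m i2))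
        = - Pi.single (Sum.inr 0) 1 := by
      rw [h19, he2, mrho3_inv_act_vec a b hQ i2 ![1, -1, -1, 0] ![1, 0, 0, 0] (by
        funext t
        fin_cases t <;>
          simp [mrho3_R, Matrix.mulVec, dotProduct, Fin.sum_univ_four] <;> ring),
        mrho3_wpart_vec]
      simp
    have hw0 : (Pi.single (Sum.inr 0) 1 : (Fin m ⊕ Fin m) ⊕ Fin 2 → F) ∈
        Submodule.span F {y | ∃ i : ℕ, y = Wpart (minusForm m F a b) (eM F m) (fM F m)
          (act (minusForm m F a b) (mrho3_rho a b hQ i2 ^ i) (eM F m i2))} := by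
      have e : (Pi.single (Sum.inr 0) 1 : (Fin m ⊕ Fin m) ⊕ Fin 2 → F)
          = - (- Pi.single (Sum.inr 0) 1) := (neg_neg _).symm
      rw [e]
      refine Submodule.neg_mem _ ?_
      rw [← hy19]; exact Submodule.subset_span ⟨19, rfl⟩
    have hw1 : (Pi.single (Sum.inr 1) 1 : (Fin m ⊕ Fin m) ⊕ Fin 2 → F) ∈
        Submodule.span F {y | ∃ i : ℕ, y = Wpart (minusForm m F a b) (eM F m) (fM F m)
          (act (minusForm m F a b) (mrho3_rho a b hQ i2 ^ i) (eM F m i2))} := by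
      have e : (Pi.single (Sum.inr 1) 1 : (Fin m ⊕ Fin m) ⊕ Fin 2 → F)
          = Pi.single (Sum.inr 0) 1 - (Pi.single (Sum.inr 0) 1 - Pi.single (Sum.inr 1) 1) := by
        abel
      rw [e]
      refine Submodule.sub_mem _ hw0 ?_
      rw [← hy1]; exact Submodule.subset_span ⟨1, rfl⟩
    exact Submodule.add_mem _ (Submodule.smul_mem _ _ hw0) (Submodule.smul_mem _ _ hw1)

end final

end Cfsg.Agent.Lib.Helper67.Og
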