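import Mathlib
import Cfsg.Agent.Lib.Helper41.StnDefs

/-! # Stn hive (S2401), sub-hive Stn-SYM: the Steinberg symbol (shared definition) -/

set_option autoImplicit false

namespace Cfsg.Agent.Lib.Helper41.Stn

variable {K : Type*} [Field K] {n : ℕ}

/-- the Steinberg symbol `{t,u}_ij = h_ij(tu) h_ij(t)⁻¹ h_ij(u)⁻¹` -/
noncomputable def sym (i j : Fin n) (t u : K) : St K n :=
  hh i j (t * u) * (hh i j t)⁻¹ * (hh i j u)⁻¹

theorem sym_def (i j : Fin n) (t u : K) :
    sym i j t u = hh i j (t * u) * (hh i j t)⁻¹ * (hh i j u)⁻¹ := rfl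

/-- `h(tu) = {t,u} h(u) h(t)` -/
theorem hh_mul_eq_sym (i j : Fin n) (t u : K) :
    hh i j (t * u) = sym i j t u * hh i j u * hh i j t := by
  unfold sym
  group

end Cfsg.Agent.Lib.Helper41.Stn
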