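import Mathlib

/-! # Sm hive (S2086, owner helper39), leaf G-SPLIT: `ker_eq_bot_of_section`.

A central extension `φ : Y → S` whose kernel lies in the commutator subgroup and which has a section
`τ : S →* Y` (`φ ∘ τ = id`) has trivial kernel:  `Y = ker φ · range τ` with `ker φ` central, so every
commutator lies in `range τ`, and `ker φ ∩ range τ = 1`. -/

set_option autoImplicit false

namespace Cfsg.Agent.Lib.Helper39.Sm

open scoped commutatorElement

section G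
variable {Y S : Type*} [Group Y] [Group S] (φ : Y →* S) (hφ : Function.Surjective φ)

/-- every element is (central kernel element) * (element of the range of the section) -/
theorem gsplit_decomp (τ : S →* Y) (hτ : φ.comp τ = MonoidHom.id S) (y : Y) :
    y * (τ (φ y))⁻¹ ∈ φ.ker := by
  have h : φ (τ (φ y)) = φ y := by
    have := DFunLike.congr_fun hτ (φ y)
    simpa using this
  rw [MonoidHom.mem_ker, map_mul, map_inv, h, mul_inv_cancel]

/-- commutators lie in the range of the section -/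
theorem gsplit_comm_mem (hc : φ.ker ≤ Subgroup.center Y) (τ : S →* Y)
    (hτ : φ.comp τ = MonoidHom.id S) (a b : Y) : ⁅a, b⁆ ∈ τ.range := by
  have ha := hc (gsplit_decomp φ τ hτ a)
  have hb := hc (gsplit_decomp φ τ hτ b)
  rw [Subgroup.mem_center_iff] at ha hb
  set ta := τ (φ a) with hta
  set tb := τ (φ b) with htb
  set ka := a * ta⁻¹ with hka
  set kb := b * tb⁻¹ with hkb
  have ea : a = ka * ta := by rw [hka]; group
  have eb : b = kb * tb := by rw [hkb]; group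
  have hcomm : ⁅a, b⁆ = ⁅ta, tb⁆ := by
    rw [commutatorElement_def, commutatorElement_def]
    have h1 : ∀ g : Y, g * ka = ka * g := ha
    have h2 : ∀ g : Y, g * kb = kb * g := hb
    have h1' : ∀ g : Y, g * ka⁻¹ = ka⁻¹ * g := by
      intro g
      have := h1 (ka⁻¹ * g * ka⁻¹)
      calc g * ka⁻¹ = ka * (ka⁻¹ * g * ka⁻¹) := by group
        _ = (ka⁻¹ * g * ka⁻¹) * ka := (h1 _).symm
        _ = ka⁻¹ * g := by group
    have h2' : ∀ g : Y, g * kb⁻¹ = kb⁻¹ * g := by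
      intro g
      calc g * kb⁻¹ = kb * (kb⁻¹ * g * kb⁻¹) := by group
        _ = (kb⁻¹ * g * kb⁻¹) * kb := (h2 _).symm
        _ = kb⁻¹ * g := by group
    calc a * b * a⁻¹ * b⁻¹ = (ka * ta) * (kb * tb) * (ka * ta)⁻¹ * (kb * tb)⁻¹ := by rw [← ea, ← eb]
      _ = ka * ta * kb * tb * ta⁻¹ * ka⁻¹ * tb⁻¹ * kb⁻¹ := by group
      _ = ka * (ta * kb) * tb * ta⁻¹ * ka⁻¹ * tb⁻¹ * kb⁻¹ := by group
      _ = ka * (kb * ta) * tb * ta⁻¹ * ka⁻¹ * tb⁻¹ * kb⁻¹ := by rw [h2 ta]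
      _ = ka * kb * (ta * tb * ta⁻¹ * ka⁻¹) * tb⁻¹ * kb⁻¹ := by group
      _ = ka * kb * (ka⁻¹ * (ta * tb * ta⁻¹)) * tb⁻¹ * kb⁻¹ := by rw [h1' (ta * tb * ta⁻¹)]
      _ = (ka * kb * ka⁻¹) * (ta * tb * ta⁻¹ * tb⁻¹ * kb⁻¹) := by group
      _ = (ka * kb * ka⁻¹) * (kb⁻¹ * (ta * tb * ta⁻¹ * tb⁻¹)) := by rw [h2' (ta * tb * ta⁻¹ * tb⁻¹)]
      _ = (ka * kb) * (ka⁻¹ * kb⁻¹) * (ta * tb * ta⁻¹ * tb⁻¹) := by group
      _ = (ka * kb) * (kb⁻¹ * ka⁻¹) * (ta * tb * ta⁻¹ * tb⁻¹) := by rw [h2' ka⁻¹]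
      _ = ta * tb * ta⁻¹ * tb⁻¹ := by group
  rw [hcomm]
  exact ⟨⁅φ a, φ b⁆, by rw [map_commutatorElement]⟩

/-- G-SPLIT. `Y = ker φ · range τ`, so every commutator lies in `range τ`; `ker φ ∩ range τ = 1`. -/
theorem ker_eq_bot_of_section (hc : φ.ker ≤ Subgroup.center Y) (hk : φ.ker ≤ commutator Y)
    (τ : S →* Y) (hτ : φ.comp τ = MonoidHom.id S) : φ.ker = ⊥ := by
  have hcomm : commutator Y ≤ τ.range := by
    rw [commutator_def, Subgroup.commutator_le]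
    intro a _ b _
    exact gsplit_comm_mem φ hc τ hτ a b
  rw [eq_bot_iff]
  intro y hy
  obtain ⟨s, rfl⟩ := hcomm (hk hy)
  rw [MonoidHom.mem_ker] at hy
  have h : φ (τ s) = s := by
    have := DFunLike.congr_fun hτ s
    simpa using this
  rw [Subgroup.mem_bot]
  rw [h] at hy
  rw [hy, map_one]

end G

end Cfsg.Agent.Lib.Helper39.Sm
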