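import Mathlib
import Cfsg.Agent.Lib.Helper86.AutChain

set_option autoImplicit false

/-!
Automorphism groups of 2-groups with a characteristic cyclic subgroup of index 2
(dihedral, generalized quaternion, ...) are 2-groups.
-/

namespace Cfsg.Agent.Lib.Helper86

/-- an automorphism acts trivially on an invariant section of order 2 -/
theorem step_trivial_two {H : Type*} [Group H] (C D : Subgroup H)
    (hidx : (D.subgroupOf C).index = 2)
    (σ : MulAut H) (hσC : ∀ x ∈ C, σ x ∈ C) (hσD : ∀ x ∈ D, σ x ∈ D)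
    (hσD' : ∀ x, σ x ∈ D → x ∈ D) : ∀ x ∈ C, x⁻¹ * σ x ∈ D := by
  intro x hx
  have h := Subgroup.mul_mem_iff_of_index_two hidx (a := (⟨x, hx⟩ : C)⁻¹)
    (b := (⟨σ x, hσC x hx⟩ : C))
  have h2 : ((⟨x, hx⟩ : C)⁻¹ * (⟨σ x, hσC x hx⟩ : C) ∈ D.subgroupOf C) ↔ x⁻¹ * σ x ∈ D := by
    rw [Subgroup.mem_subgroupOf]; rfl
  rw [← h2, h, inv_mem_iff, Subgroup.mem_subgroupOf, Subgroup.mem_subgroupOf]
  exact ⟨fun hxD => hσD x hxD, fun hsD => hσD' x hsD⟩

/-- A finite 2-group with an automorphism-invariant cyclic subgroup of index 2 has a 2-group of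
automorphisms. -/
theorem isPGroup_two_mulAut_of_cyclic_index_two {H : Type*} [Group H] [Finite H]
    (hH : IsPGroup 2 H) (a : H) (hidx : (Subgroup.zpowers a).index = 2)
    (hchar : ∀ σ : MulAut H, σ a ∈ Subgroup.zpowers a) : IsPGroup 2 (MulAut H) := by
  classical
  have h2 : Fact (Nat.Prime 2) := ⟨Nat.prime_two⟩
  have hfinA : Finite (MulAut H) := Finite.of_injective (fun α : MulAut H => (α : H → H))
    (fun α β h => by ext x; exact congrFun h x)
  obtain ⟨k, hk⟩ := (IsPGroup.iff_orderOf.mp hH) a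
  -- the chain
  let C : ℕ → Subgroup H := fun i => if i = 0 then ⊤ else Subgroup.zpowers (a ^ 2 ^ (i - 1))
  have hC0 : C 0 = ⊤ := rfl
  have hCs : ∀ i, C (i + 1) = Subgroup.zpowers (a ^ 2 ^ i) := fun i => by
    simp only [C, Nat.add_eq_zero_iff, one_ne_zero, and_false, if_false, Nat.add_sub_cancel]
  have hCk : C (k + 1) = ⊥ := by
    rw [hCs, ← hk, pow_orderOf_eq_one, Subgroup.zpowers_one_eq_bot]
  have hcardC : ∀ j ≤ k, Nat.card (C (j + 1)) = 2 ^ (k - j) := by
    intro j hj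
    rw [hCs, Nat.card_zpowers, orderOf_pow' a (by positivity), hk,
      Nat.gcd_eq_right (pow_dvd_pow 2 hj), Nat.pow_div hj (by norm_num)]
  have hcardH : Nat.card H = 2 * 2 ^ k := by
    have := Subgroup.card_mul_index (Subgroup.zpowers a)
    rw [hidx, Nat.card_zpowers, hk] at this
    rw [← this]; ring
  have hchar' : ∀ i, ∀ σ : MulAut H, ∀ x ∈ C i, σ x ∈ C i := by
    intro i σ x hx
    rcases i with _ | i
    · rw [hC0]; exact Subgroup.mem_top _
    · rw [hCs] at hx ⊢
      obtain ⟨t, rfl⟩ := Subgroup.mem_zpowers_iff.mp hx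
      obtain ⟨u, hu⟩ := Subgroup.mem_zpowers_iff.mp (hchar σ)
      rw [map_zpow, map_pow, ← hu]
      rw [Subgroup.mem_zpowers_iff]
      refine ⟨u * t, ?_⟩
      rw [← zpow_natCast, ← zpow_natCast, ← zpow_mul, ← zpow_mul, ← zpow_mul]
      congr 1; ring
  have hanti : ∀ i < k + 1, C (i + 1) ≤ C i := by
    intro i _
    rcases i with _ | i
    · rw [hC0]; exact le_top
    · rw [hCs, hCs, Subgroup.zpowers_le, pow_succ, pow_mul]
      exact Subgroup.pow_mem _ (Subgroup.mem_zpowers _) 2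
  have hidx' : ∀ i < k + 1, ((C (i + 1)).subgroupOf (C i)).index = 2 := by
    intro i hi
    have h1 := Subgroup.card_mul_index ((C (i + 1)).subgroupOf (C i))
    have h3 : Nat.card ((C (i + 1)).subgroupOf (C i)) = Nat.card (C (i + 1)) :=
      Nat.card_congr (Subgroup.subgroupOfEquivOfLe (hanti i hi)).toEquiv
    rw [h3] at h1
    have hpos : 0 < Nat.card (C (i + 1)) := Nat.card_pos
    rcases i with _ | i
    · have hc0 : Nat.card (C 0) = 2 * 2 ^ k := by rw [hC0, Subgroup.card_top, hcardH]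
      rw [hcardC 0 (by omega), hc0, Nat.sub_zero] at h1
      have : 2 ^ k * ((C (0 + 1)).subgroupOf (C 0)).index = 2 ^ k * 2 := by rw [h1]; ring
      exact Nat.eq_of_mul_eq_mul_left (by positivity) this
    · rw [hcardC (i + 1) (by omega), hcardC i (by omega)] at h1
      have e : 2 ^ (k - i) = 2 ^ (k - (i + 1)) * 2 := by
        rw [← pow_succ]; congr 1; omega
      rw [e] at h1
      exact Nat.eq_of_mul_eq_mul_left (by positivity) h1
  -- every automorphism has 2-power order
  intro σ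
  have hord : 0 < orderOf σ := orderOf_pos σ
  obtain ⟨s, m', hm', hn⟩ := Nat.exists_eq_pow_mul_and_not_dvd hord.ne' 2 (by norm_num)
  refine ⟨s, ?_⟩
  have hτm : (σ ^ (2 ^ s)) ^ m' = 1 := by
    rw [← pow_mul, ← hn]; exact pow_orderOf_eq_one σ
  have hcop : m'.Coprime 2 := (Nat.Prime.coprime_iff_not_dvd Nat.prime_two).mpr hm' |>.symm
  apply aut_eq_one_of_chain_stab hH (σ ^ (2 ^ s)) m' hcop hτm (k + 1) C hC0 hCk
  intro i hi
  apply step_trivial_two (C i) (C (i + 1)) (hidx' i hi) (σ ^ (2 ^ s)) (hchar' i _) (hchar' (i + 1) _)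
  intro x hx
  have := hchar' (i + 1) (σ ^ (2 ^ s))⁻¹ _ hx
  rwa [← MulAut.mul_apply, inv_mul_cancel] at this

/-- `Aut` of a dihedral 2-group of order at least 8 is a 2-group. -/
theorem isPGroup_two_mulAut_dihedral (k : ℕ) (hk : 2 ≤ k) :
    IsPGroup 2 (MulAut (DihedralGroup (2 ^ k))) := by
  have h2 : Fact (Nat.Prime 2) := ⟨Nat.prime_two⟩
  have hne : NeZero (2 ^ k) := ⟨by positivity⟩
  have hcard : Nat.card (DihedralGroup (2 ^ k)) = 2 ^ (k + 1) := by
    rw [DihedralGroup.nat_card, pow_succ]; ring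
  have hH : IsPGroup 2 (DihedralGroup (2 ^ k)) := IsPGroup.of_card hcard
  have h4 : 4 ≤ 2 ^ k := by
    calc 4 = 2 ^ 2 := by norm_num
      _ ≤ 2 ^ k := Nat.pow_le_pow_right (by norm_num) hk
  apply isPGroup_two_mulAut_of_cyclic_index_two hH (DihedralGroup.r 1)
  · have := Subgroup.card_mul_index (Subgroup.zpowers (DihedralGroup.r 1 : DihedralGroup (2 ^ k)))
    rw [Nat.card_zpowers, DihedralGroup.orderOf_r_one, hcard, pow_succ] at this
    exact Nat.eq_of_mul_eq_mul_left (by positivity) this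
  · intro σ
    have hord : orderOf (σ (DihedralGroup.r 1)) = 2 ^ k := by
      rw [MulEquiv.orderOf_eq, DihedralGroup.orderOf_r_one]
    rcases h : σ (DihedralGroup.r 1) with i | i
    · rw [Subgroup.mem_zpowers_iff]
      refine ⟨(i.val : ℤ), ?_⟩
      rw [zpow_natCast, DihedralGroup.r_one_pow, ZMod.natCast_zmod_val]
    · rw [h, DihedralGroup.orderOf_sr] at hord
      omega

/-- `Aut` of a generalized quaternion group of order at least 16 is a 2-group. -/
theorem isPGroup_two_mulAut_quaternion (k : ℕ) (hk : 2 ≤ k) :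
    IsPGroup 2 (MulAut (QuaternionGroup (2 ^ k))) := by
  have h2 : Fact (Nat.Prime 2) := ⟨Nat.prime_two⟩
  have hne : NeZero (2 ^ k) := ⟨by positivity⟩
  have hcard : Nat.card (QuaternionGroup (2 ^ k)) = 2 ^ (k + 2) := by
    rw [Nat.card_eq_fintype_card, QuaternionGroup.card, pow_succ, pow_succ]; ring
  have hH : IsPGroup 2 (QuaternionGroup (2 ^ k)) := IsPGroup.of_card hcard
  have h4 : 4 ≤ 2 ^ k := by
    calc 4 = 2 ^ 2 := by norm_num
      _ ≤ 2 ^ k := Nat.pow_le_pow_right (by norm_num) hk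
  apply isPGroup_two_mulAut_of_cyclic_index_two hH (QuaternionGroup.a 1)
  · have := Subgroup.card_mul_index (Subgroup.zpowers (QuaternionGroup.a 1 : QuaternionGroup (2 ^ k)))
    rw [Nat.card_zpowers, QuaternionGroup.orderOf_a_one, hcard, pow_succ, pow_succ] at this
    have h5 : 2 * 2 ^ k * (Subgroup.zpowers (QuaternionGroup.a 1 : QuaternionGroup (2 ^ k))).index
        = 2 * 2 ^ k * 2 := by rw [this]; ring
    exact Nat.eq_of_mul_eq_mul_left (by positivity) h5
  · intro σ
    have hord : orderOf (σ (QuaternionGroup.a 1)) = 2 * 2 ^ k := by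
      rw [MulEquiv.orderOf_eq, QuaternionGroup.orderOf_a_one]
    rcases h : σ (QuaternionGroup.a 1) with i | i
    · rw [Subgroup.mem_zpowers_iff]
      refine ⟨(i.val : ℤ), ?_⟩
      rw [zpow_natCast, QuaternionGroup.a_one_pow, ZMod.natCast_zmod_val]
    · rw [h, QuaternionGroup.orderOf_xa] at hord
      omega

end Cfsg.Agent.Lib.Helper86
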