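import Mathlib

set_option autoImplicit false
set_option linter.style.haveILetI false

/-! Irreducible factors of the `q`-th cyclotomic polynomial over `ZMod p` have degree equal to the
multiplicative order of `p` modulo `q`. -/

namespace Cfsg.Agent.Lib.Helper86.Cyclo

open Polynomial

variable {p q : ℕ} [hp : Fact p.Prime] [hq : Fact q.Prime]

/-- Iterated `expand` equals iterated `p`-th power over `ZMod p`. -/
theorem expand_pow_eq (n : ℕ) (g : (ZMod p)[X]) : expand (ZMod p) (p ^ n) g = g ^ (p ^ n) := by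
  induction n with
  | zero => simp
  | succ n ih =>
    rw [pow_succ', expand_mul, ih, ZMod.expand_card, ← pow_mul, mul_comm]

/-- The root of an irreducible factor of the cyclotomic polynomial is a primitive root. -/
theorem isPrimitiveRoot_root (hpq : p ≠ q) (f : (ZMod p)[X]) [Fact (Irreducible f)]
    (hdvd : f ∣ cyclotomic q (ZMod p)) : IsPrimitiveRoot (AdjoinRoot.root f) q := by
  have hζroot : (cyclotomic q (AdjoinRoot f)).IsRoot (AdjoinRoot.root f) := by
    obtain ⟨g, hg⟩ := hdvd
    rw [← map_cyclotomic q (AdjoinRoot.of f), IsRoot.def, eval_map, hg, eval₂_mul,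
      AdjoinRoot.eval₂_root, zero_mul]
  haveI : NeZero ((q : ℕ) : AdjoinRoot f) := by
    constructor
    have h1 : ((q : ℕ) : AdjoinRoot f) = AdjoinRoot.of f ((q : ℕ) : ZMod p) := by simp
    rw [h1]
    intro h0
    have h2 : ((q : ℕ) : ZMod p) = 0 := by
      have := (AdjoinRoot.of f).injective
      exact this (by rw [h0, map_zero])
    rw [ZMod.natCast_eq_zero_iff] at h2
    exact hpq ((Nat.prime_dvd_prime_iff_eq hp.out hq.out).mp h2)
  exact isRoot_cyclotomic_iff.mp hζroot

theorem natDegree_eq_orderOf (hpq : p ≠ q) (f : (ZMod p)[X]) (hf : Irreducible f)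
    (hdvd : f ∣ cyclotomic q (ZMod p)) : f.natDegree = orderOf (p : ZMod q) := by
  haveI : Fact (Irreducible f) := ⟨hf⟩
  have hf0 : f ≠ 0 := hf.ne_zero
  haveI : Module.Finite (ZMod p) (AdjoinRoot f) := (AdjoinRoot.powerBasis hf0).finite
  haveI : Finite (AdjoinRoot f) := Module.finite_of_finite (ZMod p)
  haveI : Fintype (AdjoinRoot f) := Fintype.ofFinite _
  have hcard : Fintype.card (AdjoinRoot f) = p ^ f.natDegree := by
    rw [Module.card_eq_pow_finrank (K := ZMod p) (V := AdjoinRoot f), ZMod.card,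
      (AdjoinRoot.powerBasis hf0).finrank, AdjoinRoot.powerBasis_dim]
  have hprim := isPrimitiveRoot_root hpq f hdvd
  set ζ := AdjoinRoot.root f with hζ
  have hζ0 : ζ ≠ 0 := hprim.ne_zero hq.out.ne_zero
  have hdeg : 0 < f.natDegree := Irreducible.natDegree_pos hf
  -- `p` is a unit mod `q`
  have hpunit : IsUnit ((p : ℕ) : ZMod q) := by
    rw [ZMod.isUnit_iff_coprime]
    exact (Nat.coprime_primes hp.out hq.out).mpr hpq
  apply le_antisymm
  · -- every element satisfies `a ^ p ^ d = a`
    set d := orderOf ((p : ℕ) : ZMod q) with hd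
    have hdpos : 0 < d := by
      rw [hd]
      apply orderOf_pos_iff.mpr
      rw [isOfFinOrder_iff_pow_eq_one]
      refine ⟨q - 1, ?_, ZMod.pow_card_sub_one_eq_one hpunit.ne_zero⟩
      have := hq.out.two_le
      omega
    have hpd : p ^ d % q = 1 % q := by
      have h1 : ((p : ℕ) : ZMod q) ^ d = 1 := pow_orderOf_eq_one _
      have h2 : ((p ^ d : ℕ) : ZMod q) = ((1 : ℕ) : ZMod q) := by push_cast; exact h1
      exact (ZMod.natCast_eq_natCast_iff' _ _ _).mp h2
    have hζpow : ζ ^ (p ^ d) = ζ := by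
      have h1 : ζ ^ q = 1 := hprim.pow_eq_one
      rw [← Nat.div_add_mod (p ^ d) q, pow_add, pow_mul, h1, one_pow, one_mul, hpd,
        Nat.mod_eq_of_lt hq.out.one_lt, pow_one]
    have hall : ∀ a : AdjoinRoot f, a ^ (p ^ d) = a := by
      intro a
      induction a using AdjoinRoot.induction_on with
      | ih g =>
        rw [← map_pow, ← expand_pow_eq, ← AdjoinRoot.aeval_eq, ← AdjoinRoot.aeval_eq, expand_aeval,
          hζpow]
    have hne : (X ^ p ^ d - X : (AdjoinRoot f)[X]) ≠ 0 :=
      FiniteField.X_pow_card_pow_sub_X_ne_zero (AdjoinRoot f) hdpos.ne' hp.out.one_lt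
    have hsub : (Finset.univ : Finset (AdjoinRoot f)).val ⊆ (X ^ p ^ d - X : (AdjoinRoot f)[X]).roots := by
      intro a _
      rw [mem_roots hne, IsRoot.def, eval_sub, eval_pow, eval_X, hall a, sub_self]
    have h1 := card_le_degree_of_subset_roots hsub
    rw [FiniteField.X_pow_card_pow_sub_X_natDegree_eq (AdjoinRoot f) hdpos.ne' hp.out.one_lt,
      Finset.card_univ, hcard] at h1
    exact (Nat.pow_le_pow_iff_right hp.out.one_lt).mp h1
  · -- the order of `ζ` divides `p ^ deg - 1`
    have h1 : ζ ^ (Fintype.card (AdjoinRoot f) - 1) = 1 := FiniteField.pow_card_sub_one_eq_one ζ hζ0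
    rw [hcard] at h1
    have h2 : q ∣ p ^ f.natDegree - 1 := (hprim.pow_eq_one_iff_dvd _).mp h1
    have h3 : ((p : ℕ) : ZMod q) ^ f.natDegree = 1 := by
      have h4 : 1 ≤ p ^ f.natDegree := Nat.one_le_pow _ _ hp.out.pos
      have h5 : ((p ^ f.natDegree - 1 : ℕ) : ZMod q) = 0 := (ZMod.natCast_eq_zero_iff _ _).mpr h2
      rw [Nat.cast_sub h4] at h5
      push_cast at h5
      exact sub_eq_zero.mp h5
    exact Nat.le_of_dvd hdeg (orderOf_dvd_of_pow_eq_one h3)

/-- If `p` is a primitive root modulo `q` then the `q`-th cyclotomic polynomial is irreducible over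
`ZMod p`. -/
theorem irreducible_cyclotomic (hpq : p ≠ q) (hord : orderOf ((p : ℕ) : ZMod q) = q - 1) :
    Irreducible (cyclotomic q (ZMod p)) := by
  have hdegΦ : (cyclotomic q (ZMod p)).natDegree = q - 1 := by
    rw [natDegree_cyclotomic, Nat.totient_prime hq.out]
  have hpos : 0 < (cyclotomic q (ZMod p)).natDegree := by
    rw [hdegΦ]; have := hq.out.two_le; omega
  have hdeg' : (cyclotomic q (ZMod p)).degree ≠ 0 := by
    rw [degree_eq_natDegree (cyclotomic_ne_zero q (ZMod p))]
    exact_mod_cast hpos.ne'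
  obtain ⟨f, hf, hdvd⟩ := exists_irreducible_of_degree_pos
    (by rw [degree_eq_natDegree (cyclotomic_ne_zero q (ZMod p))]; exact_mod_cast hpos)
  have h1 := natDegree_eq_orderOf hpq f hf hdvd
  rw [hord, ← hdegΦ] at h1
  obtain ⟨g, hg⟩ := hdvd
  have hg0 : g ≠ 0 := by
    intro h0; rw [h0, mul_zero] at hg; exact cyclotomic_ne_zero q (ZMod p) hg
  have h2 : (f * g).natDegree = f.natDegree + g.natDegree := natDegree_mul hf.ne_zero hg0
  rw [← hg, h1] at h2
  have h3 : g.natDegree = 0 := by omega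
  have h4 : IsUnit g := by
    rw [natDegree_eq_zero] at h3
    obtain ⟨c, rfl⟩ := h3
    have hc : c ≠ 0 := by intro h0; apply hg0; rw [h0, map_zero]
    exact isUnit_C.mpr (isUnit_iff_ne_zero.mpr hc)
  rw [hg]
  exact (irreducible_mul_isUnit h4).mpr hf  

end Cfsg.Agent.Lib.Helper86.Cyclo
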