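import Mathlib
import Cfsg.Agent.Lib.Helper86.Cyclo

set_option autoImplicit false
set_option linter.style.haveILetI false
set_option linter.unusedSectionVars false

/-! Linear algebra of an automorphism `T` of prime order `q` acting fixed-point-freely on a finite
`ZMod p`-module, when `p` is a primitive root modulo `q`: the module is a vector space over the
field `ZMod p [ζ_q]`. -/

namespace Cfsg.Agent.Lib.Helper86.LinAlgCyc

open Polynomial

variable {p q : ℕ} [hp : Fact p.Prime] [hq : Fact q.Prime]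

section general

variable {V : Type*} [AddCommGroup V] [Module (ZMod p) V]

/-- A fixed-point-free endomorphism with `T ^ q = 1` is killed by the cyclotomic polynomial. -/
theorem aeval_cyclotomic_eq_zero (T : Module.End (ZMod p) V) (hTq : T ^ q = 1)
    (hfpf : ∀ v, T v = v → v = 0) : aeval T (cyclotomic q (ZMod p)) = 0 := by
  apply LinearMap.ext
  intro v
  have h1 : aeval T ((X - 1) * cyclotomic q (ZMod p)) = 0 := by
    rw [mul_comm, cyclotomic_prime_mul_X_sub_one]
    simp [hTq]
  have h2 : (aeval T ((X - 1) * cyclotomic q (ZMod p))) v = 0 := by rw [h1]; rfl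
  rw [map_mul, Module.End.mul_apply] at h2
  simp only [map_sub, aeval_X, map_one, LinearMap.sub_apply, Module.End.one_apply] at h2
  exact hfpf _ (sub_eq_zero.mp h2)

/-- The ring homomorphism from the cyclotomic field to endomorphisms. -/
noncomputable def toEnd (T : Module.End (ZMod p) V) (hT : aeval T (cyclotomic q (ZMod p)) = 0) :
    AdjoinRoot (cyclotomic q (ZMod p)) →+* Module.End (ZMod p) V :=
  Ideal.Quotient.lift (Ideal.span {cyclotomic q (ZMod p)}) (aeval T).toRingHom (by
    intro g hg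
    obtain ⟨c, rfl⟩ := Ideal.mem_span_singleton.mp hg
    simp [hT])

theorem toEnd_root (T : Module.End (ZMod p) V) (hT : aeval T (cyclotomic q (ZMod p)) = 0) :
    toEnd T hT (AdjoinRoot.root _) = T := by
  show Ideal.Quotient.lift _ _ _ (Ideal.Quotient.mk _ X) = T
  simp

end general

/-- Two finite modules of the same cardinality with endomorphisms killed by the (irreducible)
cyclotomic polynomial are isomorphic as modules with endomorphism. -/
theorem exists_intertwiner [hirr : Fact (Irreducible (cyclotomic q (ZMod p)))]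
    {V₁ V₂ : Type*} [AddCommGroup V₁] [Module (ZMod p) V₁] [Finite V₁]
    [AddCommGroup V₂] [Module (ZMod p) V₂] [Finite V₂]
    (T₁ : Module.End (ZMod p) V₁) (T₂ : Module.End (ZMod p) V₂)
    (h₁ : aeval T₁ (cyclotomic q (ZMod p)) = 0) (h₂ : aeval T₂ (cyclotomic q (ZMod p)) = 0)
    (hcard : Nat.card V₁ = Nat.card V₂) :
    ∃ A : V₁ ≃+ V₂, ∀ v, A (T₁ v) = T₂ (A v) := by
  have hΦ0 : cyclotomic q (ZMod p) ≠ 0 := cyclotomic_ne_zero q (ZMod p)
  haveI : Module.Finite (ZMod p) (AdjoinRoot (cyclotomic q (ZMod p))) :=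
    (AdjoinRoot.powerBasis hΦ0).finite
  haveI : Finite (AdjoinRoot (cyclotomic q (ZMod p))) := Module.finite_of_finite (ZMod p)
  haveI : Fintype (AdjoinRoot (cyclotomic q (ZMod p))) := Fintype.ofFinite _
  letI m₁ : Module (AdjoinRoot (cyclotomic q (ZMod p))) V₁ := Module.compHom V₁ (toEnd T₁ h₁)
  letI m₂ : Module (AdjoinRoot (cyclotomic q (ZMod p))) V₂ := Module.compHom V₂ (toEnd T₂ h₂)
  haveI : Fintype V₁ := Fintype.ofFinite _
  haveI : Fintype V₂ := Fintype.ofFinite _
  have hc₁ := Module.card_eq_pow_finrank (K := AdjoinRoot (cyclotomic q (ZMod p))) (V := V₁)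
  have hc₂ := Module.card_eq_pow_finrank (K := AdjoinRoot (cyclotomic q (ZMod p))) (V := V₂)
  have hK : 1 < Fintype.card (AdjoinRoot (cyclotomic q (ZMod p))) := Fintype.one_lt_card
  have hfin : Module.finrank (AdjoinRoot (cyclotomic q (ZMod p))) V₁ =
      Module.finrank (AdjoinRoot (cyclotomic q (ZMod p))) V₂ := by
    rw [Nat.card_eq_fintype_card, Nat.card_eq_fintype_card, hc₁, hc₂] at hcard
    exact Nat.pow_right_injective hK hcard
  have e : V₁ ≃ₗ[AdjoinRoot (cyclotomic q (ZMod p))] V₂ := LinearEquiv.ofFinrankEq V₁ V₂ hfin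
  refine ⟨e.toAddEquiv, ?_⟩
  intro v
  have h3 : T₁ v = (AdjoinRoot.root (cyclotomic q (ZMod p))) • v := by
    show T₁ v = (toEnd T₁ h₁ (AdjoinRoot.root _)) v
    rw [toEnd_root]
  have h4 : ∀ w : V₂, T₂ w = (AdjoinRoot.root (cyclotomic q (ZMod p))) • w := by
    intro w
    show T₂ w = (toEnd T₂ h₂ (AdjoinRoot.root _)) w
    rw [toEnd_root]
  show e (T₁ v) = T₂ (e v)
  rw [h3, h4, map_smul]

/-- Transitivity of the centralizer of `T` on nonzero vectors. -/
theorem exists_commuting_map [hirr : Fact (Irreducible (cyclotomic q (ZMod p)))]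
    {V : Type*} [AddCommGroup V] [Module (ZMod p) V] [Finite V]
    (T : Module.End (ZMod p) V) (hT : aeval T (cyclotomic q (ZMod p)) = 0)
    (v w : V) (hv : v ≠ 0) (hw : w ≠ 0) :
    ∃ A : V ≃+ V, (∀ u, A (T u) = T (A u)) ∧ A v = w := by
  letI m : Module (AdjoinRoot (cyclotomic q (ZMod p))) V := Module.compHom V (toEnd T hT)
  let f : (Submodule.span (AdjoinRoot (cyclotomic q (ZMod p))) {v}) ≃ₗ[AdjoinRoot (cyclotomic q (ZMod p))]
      (Submodule.span (AdjoinRoot (cyclotomic q (ZMod p))) {w}) :=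
    (LinearEquiv.toSpanNonzeroSingleton _ V v hv).symm ≪≫ₗ
      (LinearEquiv.toSpanNonzeroSingleton _ V w hw)
  obtain ⟨g, hg⟩ := Submodule.exists_linearEquiv_restrict_eq f
  refine ⟨g.toAddEquiv, ?_, ?_⟩
  · intro u
    have h3 : ∀ u : V, T u = (AdjoinRoot.root (cyclotomic q (ZMod p))) • u := by
      intro u
      show T u = (toEnd T hT (AdjoinRoot.root _)) u
      rw [toEnd_root]
    show g (T u) = T (g u)
    rw [h3, h3, map_smul]
  · have h5 := hg ⟨v, Submodule.mem_span_singleton_self v⟩
    show g v = w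
    rw [← h5]
    have h6 : (LinearEquiv.toSpanNonzeroSingleton (AdjoinRoot (cyclotomic q (ZMod p))) V v hv).symm
        ⟨v, Submodule.mem_span_singleton_self v⟩ = 1 := by
      rw [LinearEquiv.symm_apply_eq, LinearEquiv.toSpanNonzeroSingleton_one]
    show ((LinearEquiv.toSpanNonzeroSingleton _ V w hw)
      ((LinearEquiv.toSpanNonzeroSingleton _ V v hv).symm ⟨v, _⟩) : V) = w
    rw [h6, LinearEquiv.toSpanNonzeroSingleton_one]

end Cfsg.Agent.Lib.Helper86.LinAlgCyc
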