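import Mathlib
import Cfsg.Agent.Lib.Helper86.Cyclo
import Cfsg.Agent.Lib.Helper86.LinAlgCyc

set_option autoImplicit false
set_option linter.style.haveILetI false
set_option linter.unusedSectionVars false

/-! If the normalizer of `⟨T⟩` (with all multipliers) is transitive on the nonzero vectors of a
finite `ZMod p`-module on which `T` (of prime order `q`) acts fixed-point-freely, then `p` is a
primitive root modulo `q`. -/

namespace Cfsg.Agent.Lib.Helper86.PrimRoot

open Polynomial

variable {p q : ℕ} [hp : Fact p.Prime] [hq : Fact q.Prime]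
variable {V : Type*} [AddCommGroup V] [Module (ZMod p) V]

/-- Powers of `T` only depend on the exponent modulo `q`. -/
theorem pow_eq_of_cast_eq (T : Module.End (ZMod p) V) (hTq : T ^ q = 1) {n m : ℕ}
    (h : (n : ZMod q) = (m : ZMod q)) : T ^ n = T ^ m := by
  have h1 : n % q = m % q := (ZMod.natCast_eq_natCast_iff' _ _ _).mp h
  rw [← Nat.div_add_mod n q, ← Nat.div_add_mod m q, pow_add, pow_add, pow_mul, pow_mul, hTq,
    one_pow, one_pow, h1]

/-- An intertwiner `β T = T' β` intertwines all polynomials. -/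
theorem intertwine_aeval (β : V ≃ₗ[ZMod p] V) (T T' : Module.End (ZMod p) V)
    (h : ∀ u, β (T u) = T' (β u)) (g : (ZMod p)[X]) (u : V) :
    β (aeval T g u) = aeval T' g (β u) := by
  have h1 : T' = β.conjAlgEquiv (ZMod p) T := by
    apply LinearMap.ext
    intro w
    have h2 : T' w = T' (β (β.symm w)) := by rw [LinearEquiv.apply_symm_apply]
    rw [h2, ← h]
    simp [LinearEquiv.conjAlgEquiv, LinearEquiv.conj_apply]
  rw [h1, aeval_algHom_apply]
  simp [LinearEquiv.conjAlgEquiv, LinearEquiv.conj_apply]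

theorem intertwine_pow (β : V ≃ₗ[ZMod p] V) (T T' : Module.End (ZMod p) V)
    (h : ∀ u, β (T u) = T' (β u)) (n : ℕ) (u : V) : β ((T ^ n) u) = (T' ^ n) (β u) := by
  induction n generalizing u with
  | zero => simp
  | succ n ih =>
    rw [pow_succ, Module.End.mul_apply, ih, h, pow_succ, Module.End.mul_apply]

/-- Invariant submodules are invariant under polynomials. -/
theorem aeval_mem (T : Module.End (ZMod p) V) (W : Submodule (ZMod p) V)
    (hW : ∀ w ∈ W, T w ∈ W) (g : (ZMod p)[X]) : ∀ w ∈ W, aeval T g w ∈ W := by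
  have hpow : ∀ n : ℕ, ∀ w ∈ W, (T ^ n) w ∈ W := by
    intro n
    induction n with
    | zero => intro w hw; simpa using hw
    | succ n ih =>
      intro w hw
      rw [pow_succ, Module.End.mul_apply]
      exact ih _ (hW w hw)
  induction g using Polynomial.induction_on' with
  | add g h hg hh =>
    intro w hw
    rw [map_add, LinearMap.add_apply]
    exact W.add_mem (hg w hw) (hh w hw)
  | monomial n a =>
    intro w hw
    rw [aeval_monomial]
    simp only [Module.End.mul_apply, Module.algebraMap_end_apply]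
    exact W.smul_mem _ (hpow n w hw)

theorem aeval_comm (T : Module.End (ZMod p) V) (g : (ZMod p)[X]) (u : V) :
    aeval T g (T u) = T (aeval T g u) := by
  have h1 : aeval T (g * X) = aeval T (X * g) := by rw [mul_comm]
  rw [map_mul, map_mul, aeval_X] at h1
  have h2 := congrArg (fun e : Module.End (ZMod p) V => e u) h1
  simpa [Module.End.mul_apply] using h2


theorem orderOf_eq_of_transitive (hpq : p ≠ q) [Finite V] [Nontrivial V]
    (T : Module.End (ZMod p) V) (hTq : T ^ q = 1) (hfpf : ∀ v, T v = v → v = 0)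
    (H1 : ∀ v w : V, v ≠ 0 → w ≠ 0 →
      ∃ (β : V ≃ₗ[ZMod p] V) (j : ℕ), (∀ u, β (T u) = (T ^ j) (β u)) ∧ β v = w)
    (H2 : ∀ k : ℕ, 0 < k → k < q → ∃ β : V ≃ₗ[ZMod p] V, ∀ u, β (T u) = (T ^ k) (β u)) :
    orderOf ((p : ℕ) : ZMod q) = q - 1 := by
  classical
  have hΦ : aeval T (cyclotomic q (ZMod p)) = 0 := LinAlgCyc.aeval_cyclotomic_eq_zero T hTq hfpf
  -- minimal invariant submodule
  let 𝒮 : Set (Submodule (ZMod p) V) := {W | W ≠ ⊥ ∧ ∀ w ∈ W, T w ∈ W}
  have h𝒮ne : 𝒮.Nonempty := ⟨⊤, top_ne_bot, fun w _ => Submodule.mem_top⟩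
  obtain ⟨W, hWmin⟩ := (Set.toFinite 𝒮).exists_minimal h𝒮ne
  obtain ⟨⟨hWne, hWT⟩, hWle⟩ := hWmin
  have hmin : ∀ N : Submodule (ZMod p) V, N ≤ W → (∀ w ∈ N, T w ∈ N) → N = ⊥ ∨ W ≤ N := by
    intro N hNW hNT
    by_cases hN : N = ⊥
    · exact Or.inl hN
    · exact Or.inr (hWle ⟨hN, hNT⟩ hNW)
  obtain ⟨w₀, hw₀W, hw₀⟩ := Submodule.exists_mem_ne_zero_of_ne_bot hWne
  -- the annihilator ideal
  let I : Ideal (ZMod p)[X] :=
    { carrier := {g | ∀ w ∈ W, aeval T g w = 0}
      add_mem' := by intro a b ha hb w hw; simp [ha w hw, hb w hw]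
      zero_mem' := by intro w _; simp
      smul_mem' := by
        intro c g hg w hw
        simp only [smul_eq_mul, map_mul, Module.End.mul_apply]
        rw [hg w hw, map_zero] }
  have hI : ∀ g, g ∈ I ↔ ∀ w ∈ W, aeval T g w = 0 := fun g => Iff.rfl
  have hΦI : cyclotomic q (ZMod p) ∈ I := by intro w _; rw [hΦ]; rfl
  have hI1 : I ≠ ⊤ := by
    intro h
    have h1 : (1 : (ZMod p)[X]) ∈ I := by rw [h]; trivial
    have h2 := h1 w₀ hw₀W
    simp at h2
    exact hw₀ h2
  have hIprime : I.IsPrime := by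
    refine ⟨hI1, ?_⟩
    intro g h hgh
    by_contra hcon
    push Not at hcon
    obtain ⟨hg, hh⟩ := hcon
    let N : Submodule (ZMod p) V := W ⊓ LinearMap.ker (aeval T h)
    have hNT : ∀ w ∈ N, T w ∈ N := by
      intro w hw
      obtain ⟨h1, h2⟩ := Submodule.mem_inf.mp hw
      refine Submodule.mem_inf.mpr ⟨hWT w h1, ?_⟩
      rw [LinearMap.mem_ker] at h2 ⊢
      rw [aeval_comm, h2, map_zero]
    rcases hmin N inf_le_left hNT with hN | hN
    · let φ : W →ₗ[ZMod p] W := (aeval T h).restrict (aeval_mem T W hWT h)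
      have hφinj : Function.Injective φ := by
        rw [← LinearMap.ker_eq_bot, LinearMap.ker_eq_bot']
        intro w hw
        have h1 : aeval T h (w : V) = 0 := by
          have h0 := congrArg Subtype.val hw
          simpa [φ] using h0
        have h2 : (w : V) ∈ N := Submodule.mem_inf.mpr ⟨w.2, LinearMap.mem_ker.mpr h1⟩
        rw [hN, Submodule.mem_bot] at h2
        exact Subtype.ext h2
      have hφsurj : Function.Surjective φ := Finite.surjective_of_injective hφinj
      apply hg
      intro w hw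
      obtain ⟨w', hw'⟩ := hφsurj ⟨w, hw⟩
      have h1 : aeval T h (w' : V) = w := by
        have h0 := congrArg Subtype.val hw'
        simpa [φ] using h0
      rw [← h1, ← Module.End.mul_apply, ← map_mul]
      exact hgh w' w'.2
    · apply hh
      intro w hw
      exact LinearMap.mem_ker.mp (Submodule.mem_inf.mp (hN hw)).2
  -- the generator
  set f := Submodule.IsPrincipal.generator I with hf
  have hmem : ∀ g, g ∈ I ↔ f ∣ g := fun g => Submodule.IsPrincipal.mem_iff_generator_dvd I
  have hf0 : f ≠ 0 := by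
    intro h0
    have h1 := (hmem _).mp hΦI
    rw [h0, zero_dvd_iff] at h1
    exact cyclotomic_ne_zero q (ZMod p) h1
  have hfprime : Prime f := by
    rw [← Ideal.span_singleton_prime hf0, hf, Ideal.span_singleton_generator]
    exact hIprime
  have hfirr : Irreducible f := hfprime.irreducible
  have hfdvd : f ∣ cyclotomic q (ZMod p) := (hmem _).mp hΦI
  have hfI : f ∈ I := (hmem f).mpr dvd_rfl
  -- the sets `S v`
  have hq1 : 1 < q := hq.out.one_lt
  let S : V → Finset (ZMod q) := fun v =>
    Finset.univ.filter (fun k : ZMod q => k ≠ 0 ∧ aeval (T ^ k.val) f v = 0)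
  have hS : ∀ v k, k ∈ S v ↔ k ≠ 0 ∧ aeval (T ^ k.val) f v = 0 := by
    intro v k; simp [S]
  -- the equivariance
  have hequiv : ∀ (β : V ≃ₗ[ZMod p] V) (j : ℕ), (∀ u, β (T u) = (T ^ j) (β u)) →
      (j : ZMod q) ≠ 0 → ∀ v (k : ZMod q), (j : ZMod q) * k ∈ S (β v) ↔ k ∈ S v := by
    intro β j hβ hj v k
    rw [hS, hS]
    have h1 : T ^ ((j : ZMod q) * k).val = (T ^ j) ^ k.val := by
      rw [← pow_mul]
      apply pow_eq_of_cast_eq T hTq
      rw [ZMod.natCast_val, ZMod.cast_id', id_eq]
      push_cast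
      rw [ZMod.natCast_val, ZMod.cast_id', id_eq]
    have h2 : β (aeval (T ^ k.val) f v) = aeval ((T ^ j) ^ k.val) f (β v) :=
      intertwine_aeval β _ _ (intertwine_pow β T (T ^ j) hβ k.val) f v
    rw [h1, ← h2]
    constructor
    · rintro ⟨h3, h4⟩
      refine ⟨fun h0 => h3 (by rw [h0, mul_zero]), ?_⟩
      exact β.injective (by rw [h4, map_zero])
    · rintro ⟨h3, h4⟩
      exact ⟨mul_ne_zero hj h3, by rw [h4, map_zero]⟩
  have hcard : ∀ (β : V ≃ₗ[ZMod p] V) (j : ℕ), (∀ u, β (T u) = (T ^ j) (β u)) →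
      (j : ZMod q) ≠ 0 → ∀ v, (S (β v)).card = (S v).card := by
    intro β j hβ hj v
    have h1 : S (β v) = (S v).image (fun k => (j : ZMod q) * k) := by
      ext k
      rw [Finset.mem_image]
      constructor
      · intro hk
        refine ⟨(j : ZMod q)⁻¹ * k, ?_, ?_⟩
        · rw [← hequiv β j hβ hj v, ← mul_assoc, mul_inv_cancel₀ hj, one_mul]
          exact hk
        · rw [← mul_assoc, mul_inv_cancel₀ hj, one_mul]
      · rintro ⟨k', hk', rfl⟩
        exact (hequiv β j hβ hj v k').mpr hk'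
    rw [h1]
    exact Finset.card_image_of_injective _ (mul_right_injective₀ hj)
  -- the multiplier of an intertwiner is nonzero mod `q`
  have hjne : ∀ (β : V ≃ₗ[ZMod p] V) (j : ℕ), (∀ u, β (T u) = (T ^ j) (β u)) →
      (j : ZMod q) ≠ 0 := by
    intro β j hβ h0
    have h1 : T ^ j = T ^ 0 := pow_eq_of_cast_eq T hTq (by rw [h0]; simp)
    rw [pow_zero] at h1
    apply hw₀
    apply hfpf
    apply β.injective
    rw [hβ, h1, Module.End.one_apply]
  -- `S` is constant on `W`
  have hSW : ∀ v ∈ W, v ≠ 0 → S v = S w₀ := by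
    have key : ∀ v ∈ W, v ≠ 0 → ∀ v' ∈ W, S v ⊆ S v' := by
      intro v hv hv0 v' hv' k hk
      rw [hS] at hk ⊢
      refine ⟨hk.1, ?_⟩
      let N : Submodule (ZMod p) V := W ⊓ LinearMap.ker (aeval (T ^ k.val) f)
      have hNT : ∀ w ∈ N, T w ∈ N := by
        intro w hw
        obtain ⟨h1, h2⟩ := Submodule.mem_inf.mp hw
        refine Submodule.mem_inf.mpr ⟨hWT w h1, ?_⟩
        rw [LinearMap.mem_ker] at h2 ⊢
        rw [← expand_aeval, aeval_comm, expand_aeval, h2, map_zero]
      rcases hmin N inf_le_left hNT with hN | hN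
      · exfalso
        have h2 : v ∈ N := Submodule.mem_inf.mpr ⟨hv, LinearMap.mem_ker.mpr hk.2⟩
        rw [hN, Submodule.mem_bot] at h2
        exact hv0 h2
      · exact LinearMap.mem_ker.mp (Submodule.mem_inf.mp (hN hv')).2
    intro v hv hv0
    exact Finset.Subset.antisymm (key v hv hv0 w₀ hw₀W) (key w₀ hw₀W hw₀ v hv)
  -- `S` is constant everywhere
  have hSall : ∀ v, v ≠ 0 → S v = S w₀ := by
    intro v hv0
    by_cases hvW : v ∈ W
    · exact hSW v hvW hv0
    · obtain ⟨β, j, hβ, hβv⟩ := H1 w₀ v hw₀ hv0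
      have hj := hjne β j hβ
      -- `W' = β W`
      let W' : Submodule (ZMod p) V := W.map (β : V →ₗ[ZMod p] V)
      have hW'T : ∀ w ∈ W', T w ∈ W' := by
        rintro _ ⟨w, hw, rfl⟩
        -- `T (β w) = β (T ^ m w)` where `j * m ≡ 1`
        let m := ((j : ZMod q)⁻¹).val
        have h1 : (T ^ j) ^ m = T := by
          rw [← pow_mul]
          have h2 : T ^ (j * m) = T ^ 1 := by
            apply pow_eq_of_cast_eq T hTq
            push_cast
            rw [ZMod.natCast_val, ZMod.cast_id', id_eq, mul_inv_cancel₀ hj]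
          rw [h2, pow_one]
        refine ⟨(T ^ m) w, ?_, ?_⟩
        · have hpow : ∀ n : ℕ, ∀ w ∈ W, (T ^ n) w ∈ W := by
            intro n
            induction n with
            | zero => intro w hw; simpa using hw
            | succ n ih =>
              intro w hw
              rw [pow_succ, Module.End.mul_apply]
              exact ih _ (hWT w hw)
          exact hpow m w hw
        · show β ((T ^ m) w) = T (β w)
          rw [intertwine_pow β T (T ^ j) hβ m w, h1]
      have hdisj : W ⊓ W' = ⊥ := by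
        have hNT : ∀ w ∈ W ⊓ W', T w ∈ W ⊓ W' := by
          intro w hw
          obtain ⟨h1, h2⟩ := Submodule.mem_inf.mp hw
          exact Submodule.mem_inf.mpr ⟨hWT w h1, hW'T w h2⟩
        rcases hmin (W ⊓ W') inf_le_left hNT with hN | hN
        · exact hN
        · exfalso
          have h1 : W ≤ W' := le_trans hN inf_le_right
          have h2 : Nat.card W = Nat.card W' :=
            Nat.card_congr (β.submoduleMap W).toEquiv
          have h3 : W = W' := by
            apply SetLike.coe_injective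
            exact Set.eq_of_subset_of_ncard_le h1 (by
              rw [← Nat.card_coe_set_eq, ← Nat.card_coe_set_eq]
              exact h2.ge) (Set.toFinite _)
          apply hvW
          rw [h3, ← hβv]
          exact ⟨w₀, hw₀W, rfl⟩
      have hvW' : v ∈ W' := by rw [← hβv]; exact ⟨w₀, hw₀W, rfl⟩
      set u := w₀ + v with hu
      have hu0 : u ≠ 0 := by
        intro h0
        apply hvW
        have h1 : v = -w₀ := by
          rw [hu] at h0
          exact (neg_eq_of_add_eq_zero_right h0).symm ▸ rfl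
        rw [h1]
        exact W.neg_mem hw₀W
      have hSu : S u = S w₀ ∩ S v := by
        ext k
        rw [Finset.mem_inter, hS, hS, hS]
        constructor
        · rintro ⟨hk0, hk⟩
          rw [hu, map_add] at hk
          have h1 : aeval (T ^ k.val) f w₀ ∈ W := by
            rw [← expand_aeval]; exact aeval_mem T W hWT _ w₀ hw₀W
          have h2 : aeval (T ^ k.val) f v ∈ W' := by
            rw [← expand_aeval]; exact aeval_mem T W' hW'T _ v hvW'
          have h3 : aeval (T ^ k.val) f w₀ = -aeval (T ^ k.val) f v :=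
            eq_neg_of_add_eq_zero_left hk
          have h4 : aeval (T ^ k.val) f w₀ ∈ W ⊓ W' :=
            Submodule.mem_inf.mpr ⟨h1, by rw [h3]; exact W'.neg_mem h2⟩
          rw [hdisj, Submodule.mem_bot] at h4
          refine ⟨⟨hk0, h4⟩, hk0, ?_⟩
          rw [h4, zero_add] at hk
          exact hk
        · rintro ⟨⟨hk0, h1⟩, -, h2⟩
          refine ⟨hk0, ?_⟩
          rw [hu, map_add, h1, h2, add_zero]
      obtain ⟨β', j', hβ', hβ'u⟩ := H1 w₀ u hw₀ hu0
      have hc1 : (S u).card = (S w₀).card := by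
        rw [← hβ'u]; exact hcard β' j' hβ' (hjne β' j' hβ') w₀
      have hc2 : (S v).card = (S w₀).card := by
        rw [← hβv]; exact hcard β j hβ hj w₀
      have h1 : S w₀ ∩ S v = S w₀ :=
        Finset.eq_of_subset_of_card_le Finset.inter_subset_left (by rw [← hSu, hc1])
      have h2 : S w₀ ⊆ S v := by rw [← h1]; exact Finset.inter_subset_right
      exact (Finset.eq_of_subset_of_card_le h2 (by rw [hc2])).symm
  -- every nonzero `k` lies in `S w₀`
  have hone : (1 : ZMod q) ∈ S w₀ := by
    rw [hS]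
    haveI : Fact (1 < q) := ⟨hq1⟩
    refine ⟨one_ne_zero, ?_⟩
    rw [ZMod.val_one, pow_one]
    exact hfI w₀ hw₀W
  have hallk : ∀ k : ZMod q, k ≠ 0 → k ∈ S w₀ := by
    intro k hk
    have hkpos : 0 < k.val := Nat.pos_of_ne_zero (fun h0 => hk ((ZMod.val_eq_zero k).mp h0))
    obtain ⟨β, hβ⟩ := H2 k.val hkpos (ZMod.val_lt k)
    have hj : ((k.val : ℕ) : ZMod q) ≠ 0 := by
      rw [ZMod.natCast_val, ZMod.cast_id', id_eq]; exact hk
    have h1 := (hequiv β k.val hβ hj w₀ 1).mpr hone
    rw [ZMod.natCast_val, ZMod.cast_id', id_eq, mul_one] at h1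
    have hβw : β w₀ ≠ 0 := fun h0 => hw₀ (β.injective (by rw [h0, map_zero]))
    rw [hSall (β w₀) hβw] at h1
    exact h1
  -- so `f ∣ expand k f` for all `0 < k < q`
  have hexp : ∀ k : ZMod q, k ≠ 0 → f ∣ expand (ZMod p) k.val f := by
    intro k hk
    rw [← hmem]
    intro w hw
    rw [expand_aeval]
    by_cases hw0 : w = 0
    · rw [hw0, map_zero]
    · have h1 : k ∈ S w := by rw [hSW w hw hw0]; exact hallk k hk
      exact ((hS w k).mp h1).2
  -- count roots in the field `AdjoinRoot f`
  haveI : Fact (Irreducible f) := ⟨hfirr⟩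
  have hprim := Cyclo.isPrimitiveRoot_root hpq f hfdvd
  set ζ := AdjoinRoot.root f with hζ
  have hroot : ∀ k : ZMod q, k ≠ 0 → (f.map (AdjoinRoot.of f)).IsRoot (ζ ^ k.val) := by
    intro k hk
    obtain ⟨g, hg⟩ := hexp k hk
    have h1 : aeval ζ (expand (ZMod p) k.val f) = 0 := by
      rw [hg, map_mul, AdjoinRoot.aeval_eq, AdjoinRoot.mk_self, zero_mul]
    rw [expand_aeval] at h1
    rw [IsRoot.def, eval_map, ← h1]
    rfl
  have hfmap0 : f.map (AdjoinRoot.of f) ≠ 0 := (Polynomial.map_ne_zero_iff (AdjoinRoot.of f).injective).mpr hf0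
  let Zs : Finset (AdjoinRoot f) := (Finset.univ.filter (fun k : ZMod q => k ≠ 0)).image (fun k => ζ ^ k.val)
  have hZsub : Zs.val ⊆ (f.map (AdjoinRoot.of f)).roots := by
    intro a ha
    rw [Finset.mem_val, Finset.mem_image] at ha
    obtain ⟨k, hk, rfl⟩ := ha
    rw [mem_roots hfmap0]
    exact hroot k (Finset.mem_filter.mp hk).2
  have hZcard : Zs.card = q - 1 := by
    rw [Finset.card_image_of_injOn]
    · rw [Finset.filter_ne' Finset.univ (0 : ZMod q), Finset.card_erase_of_mem (Finset.mem_univ _),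
        Finset.card_univ, ZMod.card]
    · intro a _ b _ hab
      have h1 := hprim.pow_inj (ZMod.val_lt a) (ZMod.val_lt b) hab
      exact ZMod.val_injective q h1
  have h1 := card_le_degree_of_subset_roots hZsub
  rw [hZcard, natDegree_map, Cyclo.natDegree_eq_orderOf hpq f hfirr hfdvd] at h1
  have hpunit : ((p : ℕ) : ZMod q) ≠ 0 := by
    intro h0
    rw [ZMod.natCast_eq_zero_iff] at h0
    exact hpq ((Nat.prime_dvd_prime_iff_eq hq.out hp.out).mp h0).symm
  have h2 : orderOf ((p : ℕ) : ZMod q) ≤ q - 1 :=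
    Nat.le_of_dvd (by omega) (orderOf_dvd_of_pow_eq_one (ZMod.pow_card_sub_one_eq_one hpunit))
  omega

end Cfsg.Agent.Lib.Helper86.PrimRoot
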