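import Cfsg.Agent.Lib.Helper86.Cyclo
import Cfsg.Agent.Lib.Helper86.LinAlgCyc
import Cfsg.Agent.Lib.Helper86.PrimRoot

set_option autoImplicit false
set_option linter.style.haveILetI false
set_option linter.unusedSectionVars false

/-! Bridge between automorphisms of an elementary abelian `p`-group `A` and linear algebra over
`ZMod p` on `Additive A`. -/

namespace Cfsg.Agent.Lib.Helper86.Bridge

open Polynomial

variable {p q : ℕ} [hp : Fact p.Prime] [hq : Fact q.Prime]
variable {A : Type*} [CommGroup A]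

section withModule

variable [Module (ZMod p) (Additive A)]

/-- Automorphisms of `A` as `ZMod p`-linear endomorphisms of `Additive A`. -/
def toEnd : MulAut A →* Module.End (ZMod p) (Additive A) where
  toFun φ := (MonoidHom.toAdditive φ.toMonoidHom).toZModLinearMap p
  map_one' := rfl
  map_mul' _ _ := rfl

theorem toEnd_apply (φ : MulAut A) (v : Additive A) :
    (toEnd (p := p) φ) v = Additive.ofMul (φ v.toMul) := rfl

theorem toEnd_pow_apply (φ : MulAut A) (k : ℕ) (v : Additive A) :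
    ((toEnd (p := p) φ) ^ k) v = Additive.ofMul ((φ ^ k) v.toMul) := by
  rw [← map_pow]
  rfl

/-- A multiplicative automorphism as a `ZMod p`-linear equivalence. -/
def toLinEquiv (B : A ≃* A) : Additive A ≃ₗ[ZMod p] Additive A :=
  (MulEquiv.toAdditive B).toLinearEquiv (fun c x => ZMod.map_smul (MulEquiv.toAdditive B) c x)

theorem toLinEquiv_apply (B : A ≃* A) (v : Additive A) :
    (toLinEquiv (p := p) B) v = Additive.ofMul (B v.toMul) := rfl

end withModule

/-- An additive automorphism of `Additive A` as a multiplicative automorphism of `A`. -/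
def toMulEquiv (B : Additive A ≃+ Additive A) : A ≃* A := MulEquiv.toAdditive.symm B

theorem toMulEquiv_apply (B : Additive A ≃+ Additive A) (a : A) :
    toMulEquiv B a = (B (Additive.ofMul a)).toMul := rfl

variable [Finite A]

theorem exists_mulEquiv_intertwining (hpq : p ≠ q) (hord : orderOf ((p : ℕ) : ZMod q) = q - 1)
    (hexp : ∀ a : A, a ^ p = 1)
    (φ ψ : MulAut A) (hφq : φ ^ q = 1) (hφ : ∀ a, φ a = a → a = 1)
    (hψq : ψ ^ q = 1) (hψ : ∀ a, ψ a = a → a = 1) :
    ∃ B : A ≃* A, ∀ a, B (φ a) = ψ (B a) := by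
  haveI : Module (ZMod p) (Additive A) := AddCommGroup.zmodModule (fun v => hexp v.toMul)
  haveI : Fact (Irreducible (cyclotomic q (ZMod p))) := ⟨Cyclo.irreducible_cyclotomic hpq hord⟩
  have h₁ : aeval (toEnd (p := p) φ : Module.End (ZMod p) (Additive A))
      (cyclotomic q (ZMod p)) = 0 :=
    LinAlgCyc.aeval_cyclotomic_eq_zero _ (by rw [← map_pow, hφq, map_one])
      (fun v hv => hφ v.toMul hv)
  have h₂ : aeval (toEnd (p := p) ψ : Module.End (ZMod p) (Additive A))
      (cyclotomic q (ZMod p)) = 0 :=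
    LinAlgCyc.aeval_cyclotomic_eq_zero _ (by rw [← map_pow, hψq, map_one])
      (fun v hv => hψ v.toMul hv)
  obtain ⟨B, hB⟩ := LinAlgCyc.exists_intertwiner _ _ h₁ h₂ rfl
  exact ⟨toMulEquiv B, fun a => hB (Additive.ofMul a)⟩

theorem exists_mulEquiv_commuting (hpq : p ≠ q) (hord : orderOf ((p : ℕ) : ZMod q) = q - 1)
    (hexp : ∀ a : A, a ^ p = 1)
    (φ : MulAut A) (hφq : φ ^ q = 1) (hφ : ∀ a, φ a = a → a = 1)
    (v w : A) (hv : v ≠ 1) (hw : w ≠ 1) :
    ∃ B : A ≃* A, (∀ a, B (φ a) = φ (B a)) ∧ B v = w := by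
  haveI : Module (ZMod p) (Additive A) := AddCommGroup.zmodModule (fun v => hexp v.toMul)
  haveI : Fact (Irreducible (cyclotomic q (ZMod p))) := ⟨Cyclo.irreducible_cyclotomic hpq hord⟩
  have h₁ : aeval (toEnd (p := p) φ : Module.End (ZMod p) (Additive A))
      (cyclotomic q (ZMod p)) = 0 :=
    LinAlgCyc.aeval_cyclotomic_eq_zero _ (by rw [← map_pow, hφq, map_one])
      (fun v hv => hφ v.toMul hv)
  obtain ⟨B, hB, hBv⟩ := LinAlgCyc.exists_commuting_map _ h₁ (Additive.ofMul v) (Additive.ofMul w)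
    (fun h => hv h) (fun h => hw h)
  exact ⟨toMulEquiv B, fun a => hB (Additive.ofMul a), hBv⟩

theorem orderOf_eq_of_transitive' (hpq : p ≠ q) [Nontrivial A]
    (hexp : ∀ a : A, a ^ p = 1)
    (φ : MulAut A) (hφq : φ ^ q = 1) (hφ : ∀ a, φ a = a → a = 1)
    (H1 : ∀ v w : A, v ≠ 1 → w ≠ 1 →
      ∃ (B : A ≃* A) (j : ℕ), (∀ a, B (φ a) = (φ ^ j) (B a)) ∧ B v = w)
    (H2 : ∀ k : ℕ, 0 < k → k < q → ∃ B : A ≃* A, ∀ a, B (φ a) = (φ ^ k) (B a)) :
    orderOf ((p : ℕ) : ZMod q) = q - 1 := by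
  haveI : Module (ZMod p) (Additive A) := AddCommGroup.zmodModule (fun v => hexp v.toMul)
  haveI : Nontrivial (Additive A) := inferInstanceAs (Nontrivial A)
  haveI : Finite (Additive A) := inferInstanceAs (Finite A)
  apply PrimRoot.orderOf_eq_of_transitive hpq (toEnd (p := p) φ)
    (by rw [← map_pow, hφq, map_one]) (fun v hv => hφ v.toMul hv)
  · intro v w hv hw
    obtain ⟨B, j, hB, hBv⟩ := H1 v.toMul w.toMul (fun h => hv h) (fun h => hw h)
    refine ⟨toLinEquiv B, j, fun u => ?_, ?_⟩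
    · rw [toEnd_pow_apply, toLinEquiv_apply, toLinEquiv_apply, toEnd_apply]
      exact congrArg Additive.ofMul (hB u.toMul)
    · rw [toLinEquiv_apply]
      exact congrArg Additive.ofMul hBv
  · intro k hk0 hkq
    obtain ⟨B, hB⟩ := H2 k hk0 hkq
    refine ⟨toLinEquiv B, fun u => ?_⟩
    rw [toEnd_pow_apply, toLinEquiv_apply, toLinEquiv_apply, toEnd_apply]
    exact congrArg Additive.ofMul (hB u.toMul)

end Cfsg.Agent.Lib.Helper86.Bridge
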