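import Cfsg.Agent.S0243

/-! Order of `PSL(3, 7)`, derived from the general order formula `S0243`. -/

namespace Cfsg.Agent.Lib.Helper86.CardPSL37

theorem card_PSL_3_7 :
    Nat.card (Matrix.ProjectiveSpecialLinearGroup (Fin 3) (ZMod 7)) = 1876896 := by
  have : Fact (Nat.Prime 7) := ⟨by norm_num⟩
  have h := Cfsg.Agent.S0243.result (F := ZMod 7) (q := 7) (ZMod.card 7) 3 (by norm_num)
  rw [Fin.prod_univ_three] at h
  norm_num at h
  rw [Nat.card_eq_fintype_card]
  omega

theorem card_PSL_3_7_le :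
    Nat.card (Matrix.ProjectiveSpecialLinearGroup (Fin 3) (ZMod 7)) ≤ 1876896 :=
  card_PSL_3_7.le

end Cfsg.Agent.Lib.Helper86.CardPSL37
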