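import Mathlib

set_option autoImplicit false
set_option linter.style.haveILetI false
set_option linter.unusedSectionVars false

/-!
# Coordinates on an elementary abelian group of order `p²`
-/

namespace Cfsg.Agent.Lib.Helper86.Coord2

open Matrix

variable {p : ℕ} [hp : Fact p.Prime]

section coords

variable {E : Type*} [Group E] (e : E ≃* Multiplicative (Fin 2 → ZMod p))

/-- the coordinate vector -/
def co (a : E) : Fin 2 → ZMod p := Multiplicative.toAdd (e a)

theorem co_mul (a b : E) : co e (a * b) = co e a + co e b := by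
  unfold co; rw [map_mul]; rfl

theorem co_one : co e 1 = 0 := by
  unfold co; rw [map_one]; rfl

theorem co_inv (a : E) : co e a⁻¹ = - co e a := by
  unfold co; rw [map_inv]; rfl

theorem co_pow (a : E) (k : ℕ) : co e (a ^ k) = (k : ZMod p) • co e a := by
  induction k with
  | zero => simp [co_one]
  | succ k ih => rw [pow_succ, co_mul, ih, Nat.cast_succ, add_smul, one_smul]

theorem co_injective : Function.Injective (co e) := by
  intro a b h
  apply e.injective
  exact Multiplicative.toAdd.injective h

theorem co_symm (c : Fin 2 → ZMod p) : co e (e.symm (Multiplicative.ofAdd c)) = c := by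
  unfold co; rw [MulEquiv.apply_symm_apply]; rfl

theorem co_eq_zero_iff {a : E} : co e a = 0 ↔ a = 1 := by
  constructor
  · intro h
    apply co_injective e
    rw [h, co_one]
  · rintro rfl; exact co_one e

/-- the automorphism with a given matrix -/
def autOfMat (m : GL (Fin 2) (ZMod p)) : MulAut E where
  toFun a := e.symm (Multiplicative.ofAdd ((m : Matrix (Fin 2) (Fin 2) (ZMod p)) *ᵥ co e a))
  invFun a := e.symm (Multiplicative.ofAdd
    (((m⁻¹ : GL (Fin 2) (ZMod p)) : Matrix (Fin 2) (Fin 2) (ZMod p)) *ᵥ co e a))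
  left_inv a := by
    apply co_injective e
    rw [co_symm, co_symm, Matrix.mulVec_mulVec, ← Units.val_mul, inv_mul_cancel, Units.val_one,
      Matrix.one_mulVec]
  right_inv a := by
    apply co_injective e
    rw [co_symm, co_symm, Matrix.mulVec_mulVec, ← Units.val_mul, mul_inv_cancel, Units.val_one,
      Matrix.one_mulVec]
  map_mul' a b := by
    apply co_injective e
    rw [co_symm, co_mul, co_mul, co_symm, co_symm, Matrix.mulVec_add]

theorem co_autOfMat (m : GL (Fin 2) (ZMod p)) (a : E) :
    co e (autOfMat e m a) = (m : Matrix (Fin 2) (Fin 2) (ZMod p)) *ᵥ co e a := by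
  show co e (e.symm _) = _
  rw [co_symm]

/-- matrices to automorphisms, as a homomorphism -/
def autHom : GL (Fin 2) (ZMod p) →* MulAut E where
  toFun := autOfMat e
  map_one' := by
    ext a
    apply co_injective e
    rw [co_autOfMat]; simp
  map_mul' m m' := by
    ext a
    apply co_injective e
    rw [co_autOfMat, MulAut.mul_apply, co_autOfMat, co_autOfMat, Matrix.mulVec_mulVec,
      Units.val_mul]

theorem co_autHom (m : GL (Fin 2) (ZMod p)) (a : E) :
    co e (autHom e m a) = (m : Matrix (Fin 2) (Fin 2) (ZMod p)) *ᵥ co e a := co_autOfMat e m a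

/-- the additive map in coordinates induced by an endomorphism -/
def addOf (α : E →* E) : (Fin 2 → ZMod p) →+ (Fin 2 → ZMod p) where
  toFun c := co e (α (e.symm (Multiplicative.ofAdd c)))
  map_zero' := by
    have : e.symm (Multiplicative.ofAdd (0 : Fin 2 → ZMod p)) = 1 := by
      rw [ofAdd_zero, map_one]
    rw [this, map_one, co_one]
  map_add' c d := by
    rw [ofAdd_add, map_mul, map_mul, co_mul]

theorem addOf_co (α : E →* E) (a : E) : addOf e α (co e a) = co e (α a) := by
  show co e (α (e.symm (Multiplicative.ofAdd (co e a)))) = _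
  congr 2
  unfold co
  rw [ofAdd_toAdd, MulEquiv.symm_apply_apply]

/-- the matrix of an endomorphism -/
noncomputable def matOf (α : E →* E) : Matrix (Fin 2) (Fin 2) (ZMod p) :=
  LinearMap.toMatrix' (AddMonoidHom.toZModLinearMap p (addOf e α))

theorem matOf_mulVec (α : E →* E) (a : E) : matOf e α *ᵥ co e a = co e (α a) := by
  unfold matOf
  rw [LinearMap.toMatrix'_mulVec]
  exact addOf_co e α a

theorem matOf_mulVec' (α : E →* E) (c : Fin 2 → ZMod p) :
    matOf e α *ᵥ c = co e (α (e.symm (Multiplicative.ofAdd c))) := by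
  have := matOf_mulVec e α (e.symm (Multiplicative.ofAdd c))
  rwa [co_symm] at this

theorem matOf_comp (α β : E →* E) : matOf e (α.comp β) = matOf e α * matOf e β := by
  apply Matrix.mulVec_injective
  funext c
  rw [← Matrix.mulVec_mulVec, matOf_mulVec', matOf_mulVec' e β, matOf_mulVec, MonoidHom.comp_apply]

theorem matOf_id : matOf e (MonoidHom.id E) = 1 := by
  apply Matrix.mulVec_injective
  funext c
  rw [matOf_mulVec', Matrix.one_mulVec, MonoidHom.id_apply, co_symm]

/-- automorphisms to matrices, as a homomorphism into the matrix monoid -/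
noncomputable def matHom₀ : MulAut E →* Matrix (Fin 2) (Fin 2) (ZMod p) where
  toFun α := matOf e α.toMonoidHom
  map_one' := matOf_id e
  map_mul' α β := matOf_comp e α.toMonoidHom β.toMonoidHom

/-- automorphisms to invertible matrices -/
noncomputable def matHom : MulAut E →* GL (Fin 2) (ZMod p) := (matHom₀ e).toHomUnits

theorem matHom_mulVec (α : MulAut E) (a : E) :
    ((matHom e α : GL (Fin 2) (ZMod p)) : Matrix (Fin 2) (Fin 2) (ZMod p)) *ᵥ co e a
      = co e (α a) := by
  show matOf e α.toMonoidHom *ᵥ co e a = _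
  rw [matOf_mulVec]; rfl

theorem autHom_matHom (α : MulAut E) : autHom e (matHom e α) = α := by
  ext a
  apply co_injective e
  rw [co_autHom, matHom_mulVec]

theorem matHom_autHom (m : GL (Fin 2) (ZMod p)) : matHom e (autHom e m) = m := by
  apply Units.ext
  apply Matrix.mulVec_injective
  funext c
  have h := matHom_mulVec e (autHom e m) (e.symm (Multiplicative.ofAdd c))
  rw [co_symm, co_autHom, co_symm] at h
  exact h

theorem autHom_injective : Function.Injective (autHom (E := E) e) := by
  intro m m' h
  rw [← matHom_autHom e m, ← matHom_autHom e m', h]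

/-- an automorphism is determined by its matrix -/
theorem eq_autHom_of_mulVec {α : MulAut E} {m : GL (Fin 2) (ZMod p)}
    (h : ∀ a : E, co e (α a) = (m : Matrix (Fin 2) (Fin 2) (ZMod p)) *ᵥ co e a) :
    α = autHom e m := by
  ext a
  apply co_injective e
  rw [h, co_autHom]

end coords

section existence

variable {E : Type*} [Group E]

/-- the parametrization by exponents -/
def param (z x : E) (hz : z ^ p = 1) (hx : x ^ p = 1) (hzx : z * x = x * z) :
    Multiplicative (Fin 2 → ZMod p) →* E where
  toFun c := z ^ (Multiplicative.toAdd c 0).val * x ^ (Multiplicative.toAdd c 1).val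
  map_one' := by simp
  map_mul' c d := by
    have hc : Commute z x := hzx
    simp only [toAdd_mul, Pi.add_apply]
    rw [ZMod.val_add, ZMod.val_add, ← pow_eq_pow_mod _ hz, ← pow_eq_pow_mod _ hx, pow_add, pow_add]
    have h1 : Commute (x ^ (Multiplicative.toAdd c 1).val) (z ^ (Multiplicative.toAdd d 0).val) :=
      (hc.pow_pow _ _).symm
    calc z ^ (Multiplicative.toAdd c 0).val * z ^ (Multiplicative.toAdd d 0).val *
          (x ^ (Multiplicative.toAdd c 1).val * x ^ (Multiplicative.toAdd d 1).val)
        = z ^ (Multiplicative.toAdd c 0).val * (z ^ (Multiplicative.toAdd d 0).val *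
          x ^ (Multiplicative.toAdd c 1).val) * x ^ (Multiplicative.toAdd d 1).val := by
          simp only [mul_assoc]
      _ = z ^ (Multiplicative.toAdd c 0).val * (x ^ (Multiplicative.toAdd c 1).val *
          z ^ (Multiplicative.toAdd d 0).val) * x ^ (Multiplicative.toAdd d 1).val := by
          rw [h1.eq]
      _ = _ := by simp only [mul_assoc]

theorem param_injective (z x : E) (hz : z ^ p = 1) (hx : x ^ p = 1) (hzx : z * x = x * z)
    (hz1 : z ≠ 1) (hxz : x ∉ Subgroup.zpowers z) : Function.Injective (param z x hz hx hzx) := by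
  rw [injective_iff_map_eq_one]
  intro c hc
  change z ^ (Multiplicative.toAdd c 0).val * x ^ (Multiplicative.toAdd c 1).val = 1 at hc
  set a := Multiplicative.toAdd c 0 with ha
  set b := Multiplicative.toAdd c 1 with hb
  have hxb : x ^ b.val ∈ Subgroup.zpowers z := by
    have : x ^ b.val = (z ^ a.val)⁻¹ := eq_inv_of_mul_eq_one_right hc
    rw [this]
    exact (Subgroup.zpowers z).inv_mem ((Subgroup.zpowers z).pow_mem (Subgroup.mem_zpowers z) _)
  have hb0 : b = 0 := by
    by_contra hb0
    apply hxz
    have h1 : (b * b⁻¹).val = 1 := by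
      rw [mul_inv_cancel₀ hb0]; exact ZMod.val_one p
    have h2 : x ^ (b.val * (b⁻¹).val) = x := by
      rw [pow_eq_pow_mod _ hx, ← ZMod.val_mul, h1, pow_one]
    rw [← h2, pow_mul]
    exact (Subgroup.zpowers z).pow_mem hxb _
  rw [hb0, ZMod.val_zero, pow_zero, mul_one] at hc
  have ho : orderOf z = p := orderOf_eq_prime hz hz1
  have ha0 : a = 0 := by
    have h3 : p ∣ a.val := by
      have := orderOf_dvd_of_pow_eq_one hc
      rwa [ho] at this
    have h4 : a.val < p := ZMod.val_lt a
    have h5 : a.val = 0 := Nat.eq_zero_of_dvd_of_lt h3 h4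
    exact (ZMod.val_eq_zero a).mp h5
  have : Multiplicative.toAdd c = 0 := by
    funext i; fin_cases i
    · exact ha0
    · exact hb0
  exact this

theorem exists_coords [Finite E] (hcard : Nat.card E = p ^ 2) (z x : E) (hz : z ^ p = 1)
    (hx : x ^ p = 1) (hzx : z * x = x * z) (hz1 : z ≠ 1) (hxz : x ∉ Subgroup.zpowers z) :
    ∃ e : E ≃* Multiplicative (Fin 2 → ZMod p), co e z = ![1, 0] ∧ co e x = ![0, 1] := by
  have hinj := param_injective z x hz hx hzx hz1 hxz
  have hc2 : Nat.card (Multiplicative (Fin 2 → ZMod p)) = p ^ 2 := by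
    have : Nat.card (Multiplicative (Fin 2 → ZMod p)) = Nat.card (Fin 2 → ZMod p) :=
      Nat.card_congr Multiplicative.toAdd
    rw [this, Nat.card_fun]
    simp
  have hbij : Function.Bijective (param z x hz hx hzx) :=
    hinj.bijective_of_nat_card_le (by rw [hcard, hc2])
  let f := MulEquiv.ofBijective (param z x hz hx hzx) hbij
  refine ⟨f.symm, ?_, ?_⟩
  · have h1 : f (Multiplicative.ofAdd ![1, 0]) = z := by
      show z ^ ((![1, 0] : Fin 2 → ZMod p) 0).val * x ^ ((![1, 0] : Fin 2 → ZMod p) 1).val = z
      simp [ZMod.val_one]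
    unfold co
    rw [← h1, MulEquiv.symm_apply_apply]; rfl
  · have h1 : f (Multiplicative.ofAdd ![0, 1]) = x := by
      show z ^ ((![0, 1] : Fin 2 → ZMod p) 0).val * x ^ ((![0, 1] : Fin 2 → ZMod p) 1).val = x
      simp [ZMod.val_one]
    unfold co
    rw [← h1, MulEquiv.symm_apply_apply]; rfl

end existence

theorem mat_ext2 {K : Type*} [CommRing K] {M N : Matrix (Fin 2) (Fin 2) K}
    (h0 : M *ᵥ ![1, 0] = N *ᵥ ![1, 0]) (h1 : M *ᵥ ![0, 1] = N *ᵥ ![0, 1]) : M = N := by
  ext i j
  fin_cases j
  · have := congrFun h0 i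
    simpa [Matrix.mulVec, dotProduct, Fin.sum_univ_two] using this
  · have := congrFun h1 i
    simpa [Matrix.mulVec, dotProduct, Fin.sum_univ_two] using this

section basis

variable {E : Type*} [Group E] (e : E ≃* Multiplicative (Fin 2 → ZMod p))

/-- an automorphism is determined by its effect on a basis -/
theorem eq_autHom_of_basis {α : MulAut E} {m : GL (Fin 2) (ZMod p)} {z x : E}
    (hz : co e z = ![1, 0]) (hx : co e x = ![0, 1])
    (h0 : co e (α z) = (m : Matrix (Fin 2) (Fin 2) (ZMod p)) *ᵥ ![1, 0])
    (h1 : co e (α x) = (m : Matrix (Fin 2) (Fin 2) (ZMod p)) *ᵥ ![0, 1]) : α = autHom e m := by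
  have hm : matHom e α = m := by
    apply Units.ext
    apply mat_ext2
    · rw [← hz, matHom_mulVec, h0, hz]
    · rw [← hx, matHom_mulVec, h1, hx]
  rw [← hm, autHom_matHom]

/-- elements in terms of the basis -/
theorem eq_of_co {z x : E} (hz : co e z = ![1, 0]) (hx : co e x = ![0, 1]) (a : E) :
    a = z ^ (co e a 0).val * x ^ (co e a 1).val := by
  apply co_injective e
  rw [co_mul, co_pow, co_pow, hz, hx, ZMod.natCast_zmod_val, ZMod.natCast_zmod_val]
  ext i
  fin_cases i <;> simp

end basis

end Cfsg.Agent.Lib.Helper86.Coord2
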