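import Cfsg.Agent.Lib.Helper88.CravDefs
import Cfsg.Agent.Lib.Helper87.FusionBasic
import Cfsg.Agent.Lib.Helper87.Saturation
import Cfsg.Agent.Lib.Helper87.Lemma26
import Cfsg.Agent.Lib.Helper87.ModExt
import Cfsg.Agent.Lib.Helper87.HypAct
import Cfsg.Agent.Lib.Helper87.NRInvariant
import Cfsg.Agent.Lib.Helper85.RobertsShpectorov
import Cfsg.Agent.Lib.Helper85.Sylow
import Cfsg.Agent.Lib.Helper88.PowerTrick
import Cfsg.Agent.Lib.Helper51.AovA3

/-!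
# Leaf CR-Y1 of S5141 (owner helper88): `ext_step`

One extension step `P C_S(T) → N_T(P) C_S(T)` of a `p'`-automorphism trivial on the `E`-centric
subgroup `P` (Craven's theorem on the `p'`-residual of a weakly normal subsystem).
-/

set_option autoImplicit false
set_option linter.style.haveILetI false
set_option linter.unusedSectionVars false

namespace Cfsg.Agent.Lib.Helper88.Crav

open Cfsg Cfsg.FusionSystem Cfsg.Agent.Lib.Helper88

variable {Ω : Type*} [Group Ω] {S T : Subgroup Ω} [Finite S] {p : ℕ} [Fact p.Prime]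
  {F : FusionSystem S} {E : FusionSystem T}

/-- powers of an automorphism moving `x` by a fixed element `w` -/
theorem h86_pow_apply {G : Type*} [Group G] (σ : MulAut G) {x w : G} (h1 : σ x = x * w)
    (h2 : σ w = w) (n : ℕ) : (σ ^ n) x = x * w ^ n := by
  induction n with
  | zero => simp
  | succ n ih =>
    rw [pow_succ', MulAut.mul_apply, ih, map_mul, map_pow, h1, h2, pow_succ', mul_assoc]

/-- powers of an automorphism fixing `z` fix `z` -/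
theorem h86_pow_fix {G : Type*} [Group G] (σ : MulAut G) {z : G} (h : σ z = z) (n : ℕ) :
    (σ ^ n) z = z := by
  induction n with
  | zero => rfl
  | succ n ih => rw [pow_succ', MulAut.mul_apply, ih, h]

/-- the stability group of `1 ≤ R ⊓ T ≤ R` is normalized by `Aut_F(R)` -/
theorem h86_conj_mem_U (hT : F.StronglyClosed T) {R : Subgroup Ω} (hRS : R ≤ S) {γ u : MulAut R}
    (hγ : γ ∈ F.autGroup R) (hu : u ∈ Aov.h51_U T R) : γ * u * γ⁻¹ ∈ Aov.h51_U T R := by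
  obtain ⟨hu1, hu2⟩ := hu
  have hγi : γ⁻¹ ∈ F.autGroup R := (F.autGroup R).inv_mem hγ
  have key : ∀ x : R, γ (γ⁻¹ x) = x := fun x => by
    show γ (γ.symm x) = x
    simp
  refine ⟨fun x hx => ?_, fun x => ?_⟩
  · rw [MulAut.mul_apply, MulAut.mul_apply]
    have h1 : ((γ⁻¹ x : R) : Ω) ∈ T := Aov.h51_aut_mem_T hT hRS hγi x hx
    rw [hu1 _ h1, key]
  · rw [MulAut.mul_apply, MulAut.mul_apply]
    have h1 := hu2 (γ⁻¹ x)
    have hy : ((γ⁻¹ x : R) : Ω)⁻¹ * ((u (γ⁻¹ x) : R) : Ω) ∈ R :=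
      R.mul_mem (R.inv_mem (γ⁻¹ x).2) (u (γ⁻¹ x)).2
    have h2 := Aov.h51_aut_mem_T hT hRS hγ ⟨_, hy⟩ h1
    have e : (⟨_, hy⟩ : R) = (γ⁻¹ x)⁻¹ * u (γ⁻¹ x) := Subtype.ext (by simp)
    rw [e, map_mul, map_inv, key] at h2
    simpa using h2

/-- in a fully automized subgroup the `F`-automorphisms in the stability group of
`1 ≤ R ⊓ T ≤ R` are induced by `S` -/
theorem h86_U_le_autS (hS : IsPGroup p S) (hT : F.StronglyClosed T) {R : Subgroup Ω}
    (hfa : F.IsFullyAutomized p R) {u : MulAut R} (hu : u ∈ Aov.h51_U T R)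
    (huF : u ∈ F.autGroup R) : u ∈ autInducedBy S R := by
  have hRS : R ≤ S := hfa.1
  let W : Subgroup (F.autGroup R) := (Aov.h51_U T R).subgroupOf (F.autGroup R)
  have hWn : W.Normal := by
    constructor
    intro n hn g
    rw [Subgroup.mem_subgroupOf] at hn ⊢
    exact h86_conj_mem_U hT hRS g.2 hn
  have hWp : IsPGroup p W :=
    (Aov.h51_U_isPGroup hS hRS).comap_of_injective _ (Subgroup.subtype_injective _)
  have h1 : W ≤ pCore p (F.autGroup R) := Helper87.le_pCore hWn hWp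
  apply Helper87.pCore_le_autS F hfa
  exact ⟨⟨u, huF⟩, h1 (Subgroup.mem_subgroupOf.mpr hu), rfl⟩

/-- elements of `T` normalizing a fully automized `R` lie in the extender of an `F`-automorphism of
`R` that is trivial on `R ⊓ T` -/
theorem h86_mem_extender (hS : IsPGroup p S) (hT : F.StronglyClosed T) {R : Subgroup Ω}
    (hfa : F.IsFullyAutomized p R) {ζ : MulAut R} (hζ : ζ ∈ F.autGroup R)
    (hfix : ∀ y : R, (y : Ω) ∈ T → ζ y = y) {t : Ω} (htT : t ∈ T)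
    (htN : t ∈ normalizerIn S R) :
    t ∈ extender S R (R.subtype.comp ζ.toMonoidHom) := by
  have hRS : R ≤ S := hfa.1
  have hSN : S ≤ Subgroup.normalizer (T : Set Ω) :=
    Helper87.weaklyClosed_le_normalizer F (Helper87.weaklyClosed_of_stronglyClosed F hT)
  set c : MulAut R := Helper87.conjAut R t htN.2 with hc
  have hcS : c ∈ autInducedBy S R := Helper87.conjAut_mem_autInducedBy htN.1 htN.2
  have hcF : c ∈ F.autGroup R := Helper87.autInducedBy_le_autGroup F hRS hcS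
  have hcK : c ∈ Helper87.modKer F T R := by
    refine ⟨hcF, fun x => ?_⟩
    rw [hc, Helper87.conjAut_coe]
    have hxS : (x : Ω)⁻¹ ∈ S := S.inv_mem (hRS x.2)
    have h1 : (x : Ω)⁻¹ * t * ((x : Ω)⁻¹)⁻¹ ∈ T :=
      (Subgroup.mem_normalizer_iff.mp (hSN hxS) t).mp htT
    have e : (x : Ω)⁻¹ * (t * (x : Ω) * t⁻¹) = ((x : Ω)⁻¹ * t * ((x : Ω)⁻¹)⁻¹) * t⁻¹ := by group
    rw [e]
    exact T.mul_mem h1 (T.inv_mem htT)
  set κ : MulAut R := ζ * c * ζ⁻¹ * c⁻¹ with hκ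
  have hκF : κ ∈ F.autGroup R :=
    (F.autGroup R).mul_mem ((F.autGroup R).mul_mem ((F.autGroup R).mul_mem hζ hcF)
      ((F.autGroup R).inv_mem hζ)) ((F.autGroup R).inv_mem hcF)
  have hκK : κ ∈ Helper87.modKer F T R :=
    (Helper87.modKer F T R).mul_mem (Helper87.conj_mem_modKer F hT hRS hζ hcK)
      ((Helper87.modKer F T R).inv_mem hcK)
  have hζi : ∀ y : R, (y : Ω) ∈ T → ζ⁻¹ y = y := by
    intro y hy
    have h1 := hfix y hy
    have h2 : ζ⁻¹ (ζ y) = y := by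
      show ζ.symm (ζ y) = y
      simp
    rw [h1] at h2
    exact h2
  have hcc : ∀ y : R, c (c⁻¹ y) = y := fun y => by
    show c (c.symm y) = y
    simp
  have hci : ∀ y : R, ((c⁻¹ y : R) : Ω) = t⁻¹ * y * t := by
    intro y
    have h2 : t * ((c⁻¹ y : R) : Ω) * t⁻¹ = y := by
      have := congrArg (fun z : R => (z : Ω)) (hcc y)
      rwa [hc, Helper87.conjAut_coe] at this
    rw [← h2]
    group
  have hκU : κ ∈ Aov.h51_U T R := by
    refine ⟨fun y hy => ?_, hκK.2⟩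
    have hy1 : ((c⁻¹ y : R) : Ω) ∈ T := by
      rw [hci]
      exact T.mul_mem (T.mul_mem (T.inv_mem htT) hy) htT
    show ζ (c (ζ⁻¹ (c⁻¹ y))) = y
    rw [hζi _ hy1, hcc, hfix y hy]
  have hκS : κ ∈ autInducedBy S R := h86_U_le_autS hS hT hfa hκU hκF
  have h2 : ζ * c * ζ⁻¹ ∈ autInducedBy S R := by
    have e : ζ * c * ζ⁻¹ = κ * c := by
      rw [hκ]
      group
    rw [e]
    exact (autInducedBy S R).mul_mem hκS hcS
  obtain ⟨s, hs, hconj⟩ := (Helper87.mem_autInducedBy_iff S R _).mp h2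
  refine Subgroup.subset_closure ⟨htN.1, htN.2, s, hs, fun x hx => ?_⟩
  have h3 := hconj (ζ x)
  have e : (ζ * c * ζ⁻¹) (ζ x) = ζ (c x) := by
    show ζ (c (ζ⁻¹ (ζ x))) = _
    have : ζ⁻¹ (ζ x) = x := by
      show ζ.symm (ζ x) = x
      simp
    rw [this]
  rw [e] at h3
  have e2 : c x = ⟨t * x * t⁻¹, hx⟩ := Subtype.ext (Helper87.conjAut_coe R t htN.2 x)
  rw [e2] at h3
  exact h3

/-- the extension `θ` of `ζ` to `N_T(P) C_S(T)`, before the power trick -/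
theorem h86_ext_theta (h : WN p F E) {P : Subgroup Ω} (hPc : E.IsCentric P)
    (C N : Subgroup Ω) (hC : C = centralizerIn S T) (hN : N = normalizerIn T P)
    (ζ : MulAut ↥(P ⊔ C)) (hζ : ζ ∈ F.autGroup (P ⊔ C))
    (hfix : ∀ z : ↥(P ⊔ C), (z : Ω) ∈ P → ζ z = z) :
    ∃ θ ∈ F.autGroup (N ⊔ C),
      (∀ (z : Ω) (hz : z ∈ P ⊔ C) (hz' : z ∈ N ⊔ C),
          ((θ ⟨z, hz'⟩ : ↥(N ⊔ C)) : Ω) = ((ζ ⟨z, hz⟩ : ↥(P ⊔ C)) : Ω)) ∧
      ∀ (t : Ω) (_ : t ∈ N) (ht' : t ∈ N ⊔ C),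
          t⁻¹ * ((θ ⟨t, ht'⟩ : ↥(N ⊔ C)) : Ω) ∈ P := by
  have hS := h.hS
  have hF := h.hF
  have hT : F.StronglyClosed T := h.hinvar.2.1
  have hTS : T ≤ S := hT.1
  have hPT : P ≤ T := hPc.1
  have hPS : P ≤ S := hPT.trans hTS
  have hCS : C ≤ S := by
    rw [hC]
    exact inf_le_left
  have hNT : N ≤ T := by
    rw [hN]
    exact inf_le_left
  have hPN : P ≤ N := by
    rw [hN]
    exact le_inf hPT Subgroup.le_normalizer
  have hNn : ∀ n ∈ N, n ∈ Subgroup.normalizer (P : Set Ω) := fun n hn =>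
    (hN ▸ hn : n ∈ normalizerIn T P).2
  have hQS : P ⊔ C ≤ S := sup_le hPS hCS
  have hMS : N ⊔ C ≤ S := sup_le (hNT.trans hTS) hCS
  have hQM : P ⊔ C ≤ N ⊔ C := sup_le_sup_right hPN C
  have hcomm : ∀ c ∈ C, ∀ t ∈ T, t * c = c * t := fun c hc t ht =>
    (hC ▸ hc : c ∈ centralizerIn S T).2 t ht
  have hfinQ : Finite ↥(P ⊔ C) := Helper87.finite_of_le hQS
  have hfinM : Finite ↥(N ⊔ C) := Helper87.finite_of_le hMS
  -- (B) `N C ≤ N_S(P C)`
  have hMNQ : N ⊔ C ≤ normalizerIn S (P ⊔ C) := by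
    refine sup_le ?_ ?_
    · intro n hn
      refine ⟨hTS (hNT hn), ?_⟩
      apply Helper85.mem_normalizer_of_conj_mem
      have hle : P ⊔ C ≤ (P ⊔ C).comap (MulAut.conj n).toMonoidHom := by
        refine sup_le ?_ ?_
        · intro x hx
          show n * x * n⁻¹ ∈ P ⊔ C
          exact (le_sup_left : P ≤ P ⊔ C) ((Subgroup.mem_normalizer_iff.mp (hNn n hn) x).mp hx)
        · intro c hc
          show n * c * n⁻¹ ∈ P ⊔ C
          have : n * c * n⁻¹ = c := by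
            rw [hcomm c hc n (hNT hn)]
            group
          rw [this]
          exact (le_sup_right : C ≤ P ⊔ C) hc
      intro k hk
      exact hle hk
    · intro c hc
      refine ⟨hCS hc, ?_⟩
      apply Helper85.mem_normalizer_of_conj_mem
      have hle : P ⊔ C ≤ (P ⊔ C).comap (MulAut.conj c).toMonoidHom := by
        refine sup_le ?_ ?_
        · intro x hx
          show c * x * c⁻¹ ∈ P ⊔ C
          have : c * x * c⁻¹ = x := by
            rw [← hcomm c hc x (hPT hx)]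
            group
          rw [this]
          exact (le_sup_left : P ≤ P ⊔ C) hx
        · intro y hy
          show c * y * c⁻¹ ∈ P ⊔ C
          exact (le_sup_right : C ≤ P ⊔ C) (C.mul_mem (C.mul_mem hc hy) (C.inv_mem hc))
      intro k hk
      exact hle hk
  -- (C) `P C ⊓ T ≤ P`
  have hCP : centralizerIn T P ≤ P := hPc.2 P (Helper87.isConj_refl E hPT)
  have hQT : ∀ x ∈ P ⊔ C, x ∈ T → x ∈ P := by
    intro x hx hxT
    have hPnC : P ≤ Subgroup.normalizer (C : Set Ω) := by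
      intro a ha
      rw [Subgroup.mem_normalizer_iff]
      intro c
      have key : ∀ c ∈ C, a * c * a⁻¹ = c := fun c hc => by
        rw [hcomm c hc a (hPT ha)]
        group
      constructor
      · intro hc
        rw [key c hc]
        exact hc
      · intro hc
        have h1 := key (a * c * a⁻¹) hc
        have h2 : a * c * a⁻¹ = c := mul_left_cancel (mul_right_cancel h1)
        rw [← h2]
        exact hc
    obtain ⟨a, ha, c, hc, rfl⟩ := Helper85.mem_sup_of_le_normalizer hPnC hx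
    have hcT : c ∈ T := by
      have : c = a⁻¹ * (a * c) := by group
      rw [this]
      exact T.mul_mem (T.inv_mem (hPT ha)) hxT
    have hcP : c ∈ P := hCP ⟨hcT, fun y hy => hcomm c hc y (hPT hy)⟩
    exact P.mul_mem ha hcP
  -- (D) a fully normalized conjugate of `P C`
  obtain ⟨Qs, hconj, hfn⟩ := Helper87.exists_fullyNormalized_conj F hQS
  have hfa := (Helper87.fc_fa_of_fullyNormalized hS F hF hfn).2
  have hrec := Helper87.receptive_of_fullyNormalized hS F hF hfn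
  have hQsS : Qs ≤ S := hfn.1
  obtain ⟨ρ, hρ, hρN, hρQ, hρsurj⟩ := Helper87.exists_normalizer_map hS F hfa hrec hconj
  have hρinj := F.injective_of_mem hρ
  have hρT : ∀ x : ↥(normalizerIn S (P ⊔ C)), ρ x ∈ T → (x : Ω) ∈ T := by
    intro x hx
    obtain ⟨ρi, hρi, hinv, -⟩ := Helper87.inv_exists F hρ rfl
    have h1 := Helper87.stronglyClosed_map_mem F hT hρi ⟨ρ x, ⟨x, rfl⟩⟩ hx
    rwa [hinv x ⟨x, rfl⟩] at h1
  have hρQ' : ∀ x : ↥(normalizerIn S (P ⊔ C)), ρ x ∈ Qs → (x : Ω) ∈ P ⊔ C := by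
    intro x hx
    obtain ⟨x', hx'Q, hx'⟩ := hρsurj _ hx
    have : x' = x := hρinj hx'
    rw [← this]
    exact hx'Q
  set ρM : ↥(N ⊔ C) →* Ω := ρ.comp (Subgroup.inclusion hMNQ) with hρMdef
  have hρM : ρM ∈ F.Hom (N ⊔ C) := Helper87.restrict_mem F hρ hMNQ
  set Ms : Subgroup Ω := ρM.range with hMsdef
  have hMsS : Ms ≤ S := Helper87.range_le F hρM
  have hfinMs : Finite Ms := Helper87.finite_of_le hMsS
  have hQNQ : P ⊔ C ≤ normalizerIn S (P ⊔ C) := Helper87.le_normalizerIn hQS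
  set ρQ : ↥(P ⊔ C) →* Ω := ρ.comp (Subgroup.inclusion hQNQ) with hρQdef
  have hρQm : ρQ ∈ F.Hom (P ⊔ C) := Helper87.restrict_mem F hρ hQNQ
  have hρQr : ρQ.range = Qs := by
    apply le_antisymm
    · rintro _ ⟨x, rfl⟩
      exact hρQ _ x.2
    · intro q hq
      obtain ⟨x, hxQ, hx⟩ := hρsurj q hq
      refine ⟨⟨x, hxQ⟩, ?_⟩
      have e : Subgroup.inclusion hQNQ ⟨(x : Ω), hxQ⟩ = x := Subtype.ext rfl
      show ρ (Subgroup.inclusion hQNQ ⟨(x : Ω), hxQ⟩) = q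
      rw [e, hx]
  set eQ := Helper87.isoOfHom ρQ (F.injective_of_mem hρQm) hρQr with heQ
  have heQc : ∀ x : ↥(P ⊔ C), ((eQ x : Qs) : Ω) = ρQ x := fun x => rfl
  set ζs : MulAut Qs := MulAut.congr eQ ζ with hζsdef
  have hζs : ζs ∈ F.autGroup Qs := Helper87.autGroup_congr_mem F hρQm hρQr eQ heQc hζ
  have hζs_apply : ∀ x : ↥(P ⊔ C), ζs (eQ x) = eQ (ζ x) := by
    intro x
    simp [hζsdef, MulAut.congr]
  have hζsfix : ∀ y : Qs, (y : Ω) ∈ T → ζs y = y := by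
    intro y hy
    obtain ⟨x, rfl⟩ := eQ.surjective y
    have hxT : ((x : ↥(P ⊔ C)) : Ω) ∈ T := hρT (Subgroup.inclusion hQNQ x) hy
    rw [hζs_apply, hfix x (hQT x x.2 hxT)]
  set φs : Qs →* Ω := Qs.subtype.comp ζs.toMonoidHom with hφsdef
  have hφs : φs ∈ F.Hom Qs := (Helper87.mem_autGroup_iff F hQsS ζs).mp hζs
  have hφsr : φs.range = Qs := by
    apply le_antisymm
    · rintro _ ⟨x, rfl⟩
      exact (ζs x).2
    · intro y hy
      exact ⟨ζs.symm ⟨y, hy⟩, by simp [hφsdef]⟩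
  have hMs_ext : Ms ≤ extender S Qs φs := by
    have key : ∀ z : ↥(N ⊔ C), z ∈ (extender S Qs φs).comap ρM := by
      apply Helper87.forall_sup_of_subgroup
      · intro n hn
        show ρM ⟨n, _⟩ ∈ extender S Qs φs
        have h1 : ρM ⟨n, (le_sup_left : N ≤ N ⊔ C) hn⟩ ∈ T :=
          Helper87.stronglyClosed_map_mem F hT hρM _ (hNT hn)
        have h2 : ρM ⟨n, (le_sup_left : N ≤ N ⊔ C) hn⟩ ∈ normalizerIn S Qs := hρN _
        exact h86_mem_extender hS hT hfa hζs hζsfix h1 h2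
      · intro c hc
        show ρM ⟨c, _⟩ ∈ extender S Qs φs
        apply Helper87.self_le_extender F hφs
        exact hρQ _ ((le_sup_right : C ≤ P ⊔ C) hc)
    rintro _ ⟨z, rfl⟩
    exact key z
  obtain ⟨ψ, hψ, hψe⟩ := Helper87.extend_to_sub F hφs hφsr hrec hMs_ext
  have hQsMs : Qs ≤ Ms := by
    intro q hq
    obtain ⟨x, hxQ, hx⟩ := hρsurj q hq
    refine ⟨⟨x, hQM hxQ⟩, ?_⟩
    have e : Subgroup.inclusion hMNQ ⟨(x : Ω), hQM hxQ⟩ = x := Subtype.ext rfl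
    show ρ (Subgroup.inclusion hMNQ ⟨(x : Ω), hQM hxQ⟩) = q
    rw [e, hx]
  -- `Qs ⊓ T` is `F`-conjugate to `P`
  have hPNQ : P ≤ normalizerIn S (P ⊔ C) := le_sup_left.trans hQNQ
  have hconjP : F.IsConj P (Qs ⊓ T) := by
    refine ⟨ρ.comp (Subgroup.inclusion hPNQ), Helper87.restrict_mem F hρ hPNQ, ?_⟩
    apply le_antisymm
    · rintro _ ⟨x, rfl⟩
      exact ⟨hρQ _ ((le_sup_left : P ≤ P ⊔ C) x.2),
        Helper87.stronglyClosed_map_mem F hT hρ _ (hPT x.2)⟩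
    · rintro y ⟨hyQ, hyT⟩
      obtain ⟨x, hxQ, hx⟩ := hρsurj y hyQ
      have hxT : (x : Ω) ∈ T := hρT x (by rw [hx]; exact hyT)
      refine ⟨⟨x, hQT x hxQ hxT⟩, ?_⟩
      have e : Subgroup.inclusion hPNQ ⟨(x : Ω), hQT x hxQ hxT⟩ = x := Subtype.ext rfl
      show ρ (Subgroup.inclusion hPNQ ⟨(x : Ω), hQT x hxQ hxT⟩) = y
      rw [e, hx]
  have hcen : centralizerIn T (Qs ⊓ T) ≤ Qs ⊓ T :=
    Helper87.NR.centralizerIn_le_of_isConj F E h.hinvar hPc hconjP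
  have hψx : ∀ (y : Ω) (hyQ : y ∈ Qs), y ∈ T → ψ ⟨y, hQsMs hyQ⟩ = y := by
    intro y hyQ hyT
    rw [hψe y hyQ (hQsMs hyQ)]
    show ((ζs ⟨y, hyQ⟩ : Qs) : Ω) = y
    rw [hζsfix ⟨y, hyQ⟩ hyT]
  have hL3 : ∀ (t : Ω) (htM : t ∈ Ms), t ∈ T → t ∈ normalizerIn S Qs →
      t⁻¹ * ψ ⟨t, htM⟩ ∈ Qs ⊓ T := by
    intro t htM htT htN
    have hψtT : ψ ⟨t, htM⟩ ∈ T := Helper87.stronglyClosed_map_mem F hT hψ ⟨t, htM⟩ htT
    apply hcen
    refine ⟨T.mul_mem (T.inv_mem htT) hψtT, Subgroup.mem_centralizer_iff.mpr ?_⟩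
    rintro x ⟨hxQ, hxT⟩
    have hconjQ : t * x * t⁻¹ ∈ Qs := (Subgroup.mem_normalizer_iff.mp htN.2 x).mp hxQ
    have hconjT : t * x * t⁻¹ ∈ T := T.mul_mem (T.mul_mem htT hxT) (T.inv_mem htT)
    have h1 := hψx _ hconjQ hconjT
    have h2 := hψx x hxQ hxT
    have e : (⟨t * x * t⁻¹, hQsMs hconjQ⟩ : Ms) = ⟨t, htM⟩ * ⟨x, hQsMs hxQ⟩ * ⟨t, htM⟩⁻¹ :=
      Subtype.ext rfl
    rw [e, map_mul, map_mul, map_inv, h2] at h1
    set u := ψ ⟨t, htM⟩ with hu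
    calc x * (t⁻¹ * u) = t⁻¹ * (t * x * t⁻¹) * u := by group
      _ = t⁻¹ * (u * x * u⁻¹) * u := by rw [h1]
      _ = t⁻¹ * u * x := by group
  have hψMs : ∀ y : Ms, ψ y ∈ Ms := by
    have key : ∀ z : ↥(N ⊔ C), z ∈ (Ms.comap ψ).comap ρM.rangeRestrict := by
      apply Helper87.forall_sup_of_subgroup
      · intro n hn
        show ψ (ρM.rangeRestrict ⟨n, _⟩) ∈ Ms
        set z : ↥(N ⊔ C) := ⟨n, (le_sup_left : N ≤ N ⊔ C) hn⟩ with hz
        have h1 : ρM z ∈ T := Helper87.stronglyClosed_map_mem F hT hρM _ (hNT hn)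
        have h2 : ρM z ∈ normalizerIn S Qs := hρN _
        have h3 := hL3 (ρM z) ⟨z, rfl⟩ h1 h2
        have e : ψ (ρM.rangeRestrict z) = ρM z * ((ρM z)⁻¹ * ψ ⟨ρM z, ⟨z, rfl⟩⟩) := by
          rw [mul_inv_cancel_left]
          rfl
        rw [e]
        exact Ms.mul_mem ⟨z, rfl⟩ (hQsMs h3.1)
      · intro c hc
        show ψ (ρM.rangeRestrict ⟨c, _⟩) ∈ Ms
        set z : ↥(N ⊔ C) := ⟨c, (le_sup_right : C ≤ N ⊔ C) hc⟩ with hz
        have hzQ : ρM z ∈ Qs := hρQ _ ((le_sup_right : C ≤ P ⊔ C) hc)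
        have e : ψ (ρM.rangeRestrict z) = φs ⟨ρM z, hzQ⟩ := hψe (ρM z) hzQ ⟨z, rfl⟩
        rw [e]
        exact hQsMs (ζs _).2
    rintro ⟨_, z, rfl⟩
    exact key z
  -- the automorphism `θ = ρ⁻¹ ψ ρ` of `N C`
  obtain ⟨ρMi, hρMi, hρMinv, hρMir⟩ := Helper87.inv_exists F hρM (rfl : ρM.range = Ms)
  obtain ⟨χ₁, hχ₁, hχ₁e⟩ := Helper87.comp_mem' F hρM hψ (fun z => (⟨z, rfl⟩ : ρM z ∈ Ms))
  have hχ₁Ms : ∀ z : ↥(N ⊔ C), χ₁ z ∈ Ms := fun z => by
    rw [hχ₁e]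
    exact hψMs _
  obtain ⟨χ₂, hχ₂, hχ₂e⟩ := Helper87.comp_mem' F hχ₁ hρMi hχ₁Ms
  have hχ₂M : ∀ z : ↥(N ⊔ C), χ₂ z ∈ N ⊔ C := by
    intro z
    rw [hχ₂e]
    exact hρMir.le ⟨_, rfl⟩
  obtain ⟨θ, hθ, hθe⟩ := Helper87.exists_aut_of_hom F hχ₂ hχ₂M
  have hkey : ∀ z : ↥(N ⊔ C), ρM (θ z) = ψ ⟨ρM z, ⟨z, rfl⟩⟩ := by
    intro z
    obtain ⟨z', hz'⟩ : ∃ z' : ↥(N ⊔ C), ρM z' = ψ ⟨ρM z, ⟨z, rfl⟩⟩ := hψMs _
    have h1 : ((θ z : ↥(N ⊔ C)) : Ω) = z' := by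
      rw [hθe, hχ₂e]
      have e : (⟨χ₁ z, hχ₁Ms z⟩ : Ms) = ⟨ρM z', ⟨z', rfl⟩⟩ := Subtype.ext (show χ₁ z = ρM z' by rw [hχ₁e, hz'])
      rw [e, hρMinv z' ⟨z', rfl⟩]
    have h2 : θ z = z' := Subtype.ext h1
    rw [h2, hz']
  refine ⟨θ, hθ, ?_, ?_⟩
  · intro z hz hz'
    have hzQs : ρM ⟨z, hz'⟩ ∈ Qs := hρQ _ hz
    have h1 := hkey ⟨z, hz'⟩
    rw [hψe _ hzQs ⟨_, rfl⟩] at h1
    have e1 : (⟨ρM ⟨z, hz'⟩, hzQs⟩ : Qs) = eQ ⟨z, hz⟩ := Subtype.ext rfl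
    have h2 : φs ⟨ρM ⟨z, hz'⟩, hzQs⟩ = ρQ (ζ ⟨z, hz⟩) := by
      show ((ζs ⟨ρM ⟨z, hz'⟩, hzQs⟩ : Qs) : Ω) = _
      rw [e1, hζs_apply, heQc]
    rw [h2] at h1
    have h3 : Subgroup.inclusion hMNQ (θ ⟨z, hz'⟩) = Subgroup.inclusion hQNQ (ζ ⟨z, hz⟩) :=
      hρinj h1
    exact congrArg (fun w : ↥(normalizerIn S (P ⊔ C)) => (w : Ω)) h3
  · intro t ht ht'
    set z : ↥(N ⊔ C) := ⟨t, ht'⟩ with hz
    set w : ↥(N ⊔ C) := z⁻¹ * θ z with hw
    have h1 : ρM z ∈ T := Helper87.stronglyClosed_map_mem F hT hρM _ (hNT ht)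
    have h2 : ρM z ∈ normalizerIn S Qs := hρN _
    have h3 := hL3 (ρM z) ⟨z, rfl⟩ h1 h2
    have h4 : ρM w = (ρM z)⁻¹ * ψ ⟨ρM z, ⟨z, rfl⟩⟩ := by
      rw [hw, map_mul, map_inv, hkey]
    rw [← h4] at h3
    have hwT : ((w : ↥(N ⊔ C)) : Ω) ∈ T := hρT (Subgroup.inclusion hMNQ w) h3.2
    have hwQ : ((w : ↥(N ⊔ C)) : Ω) ∈ P ⊔ C := hρQ' (Subgroup.inclusion hMNQ w) h3.1
    exact hQT _ hwQ hwT

/-- CR-Y1 (one extension step). -/
theorem ext_step (h : WN p F E) {P : Subgroup Ω} (hPc : E.IsCentric P)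
    (ζ : MulAut ↥(P ⊔ centralizerIn S T)) (hζ : ζ ∈ F.autGroup (P ⊔ centralizerIn S T))
    (hfix : ∀ z : ↥(P ⊔ centralizerIn S T), (z : Ω) ∈ P → ζ z = z)
    (m : ℕ) (hm : m.Coprime p) (hζm : ζ ^ m = 1) :
    ∃ ζ₁ ∈ F.autGroup (normalizerIn T P ⊔ centralizerIn S T),
      (∀ z : ↥(normalizerIn T P ⊔ centralizerIn S T), (z : Ω) ∈ normalizerIn T P → ζ₁ z = z) ∧
      ζ₁ ^ m = 1 ∧
      ∀ (c : Ω) (hc : c ∈ centralizerIn S T),
        ((ζ₁ ⟨c, (le_sup_right : centralizerIn S T ≤ normalizerIn T P ⊔ centralizerIn S T) hc⟩ :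
          ↥(normalizerIn T P ⊔ centralizerIn S T)) : Ω) =
        ((ζ ⟨c, (le_sup_right : centralizerIn S T ≤ P ⊔ centralizerIn S T) hc⟩ :
          ↥(P ⊔ centralizerIn S T)) : Ω) := by
  obtain ⟨θ, hθ, hθQ, hθN⟩ := h86_ext_theta h hPc (centralizerIn S T) (normalizerIn T P) rfl rfl
    ζ hζ hfix
  have hS := h.hS
  have hTS : T ≤ S := h.hinvar.2.1.1
  have hPT : P ≤ T := hPc.1
  have hPS : P ≤ S := hPT.trans hTS
  have hPN : P ≤ normalizerIn T P := le_inf hPT Subgroup.le_normalizer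
  have hQM : P ⊔ centralizerIn S T ≤ normalizerIn T P ⊔ centralizerIn S T :=
    sup_le_sup_right hPN _
  have hfinP : Finite P := Helper87.finite_of_le hPS
  obtain ⟨e, he⟩ := IsPGroup.exists_card_eq (hS.to_le hPS)
  have hcop : m.Coprime (Nat.card P) := by
    rw [he]
    exact Nat.Coprime.pow_right e hm
  obtain ⟨k, hk1, hk0⟩ := Nat.chineseRemainder hcop 1 0
  have hkdvd : Nat.card P ∣ k := (Nat.modEq_zero_iff_dvd).mp hk0
  have hθQ' : ∀ x : ↥(P ⊔ centralizerIn S T),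
      ((θ ⟨x, hQM x.2⟩ : ↥(normalizerIn T P ⊔ centralizerIn S T)) : Ω) = ζ x :=
    fun x => hθQ x x.2 (hQM x.2)
  have hpowQ : ∀ (n : ℕ) (x : ↥(P ⊔ centralizerIn S T)),
      (((θ ^ n) ⟨x, hQM x.2⟩ : ↥(normalizerIn T P ⊔ centralizerIn S T)) : Ω) = (ζ ^ n) x :=
    fun n x => Helper85.pow_restrict hQM θ ζ hθQ' n x
  have hζk : ζ ^ k = ζ := pow_eq_self_of_modEq hζm hk1
  have hfixN : ∀ z : ↥(normalizerIn T P ⊔ centralizerIn S T), (z : Ω) ∈ normalizerIn T P →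
      (θ ^ k) z = z := by
    intro z hz
    have hwP : (z : Ω)⁻¹ * ((θ z : ↥(normalizerIn T P ⊔ centralizerIn S T)) : Ω) ∈ P :=
      hθN z hz z.2
    set w : ↥(normalizerIn T P ⊔ centralizerIn S T) := z⁻¹ * θ z with hw
    have hwP' : (w : Ω) ∈ P := hwP
    have h1 : θ z = z * w := by rw [hw, mul_inv_cancel_left]
    have hwQ : (w : Ω) ∈ P ⊔ centralizerIn S T := (le_sup_left : P ≤ _) hwP'
    have h2 : θ w = w := by
      apply Subtype.ext
      have h3 := hθQ (w : Ω) hwQ w.2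
      rw [hfix ⟨w, hwQ⟩ hwP'] at h3
      exact h3
    rw [h86_pow_apply θ h1 h2 k]
    have h3 : w ^ k = 1 := by
      obtain ⟨d, rfl⟩ := hkdvd
      have h4 : (⟨(w : Ω), hwP'⟩ : P) ^ Nat.card P = 1 := pow_card_eq_one'
      have h5 : (w : Ω) ^ Nat.card P = 1 := by
        have h6 : (((⟨(w : Ω), hwP'⟩ : P) ^ Nat.card P : P) : Ω) = ((1 : P) : Ω) :=
          congrArg (fun y : P => (y : Ω)) h4
        exact h6
      apply Subtype.ext
      rw [Subgroup.coe_pow, pow_mul, h5, one_pow]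
      rfl
    rw [h3, mul_one]
  refine ⟨θ ^ k, (F.autGroup _).pow_mem hθ k, hfixN, ?_, ?_⟩
  · have key : ∀ z : ↥(normalizerIn T P ⊔ centralizerIn S T),
        z ∈ MonoidHom.eqLocus ((θ ^ k) ^ m).toMonoidHom (MonoidHom.id _) := by
      apply Helper87.forall_sup_of_subgroup
      · intro n hn
        show ((θ ^ k) ^ m) ⟨n, _⟩ = ⟨n, _⟩
        exact h86_pow_fix _ (hfixN _ hn) m
      · intro c hc
        show ((θ ^ k) ^ m) ⟨c, _⟩ = ⟨c, _⟩
        apply Subtype.ext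
        rw [← pow_mul]
        have h1 := hpowQ (k * m) ⟨c, (le_sup_right : centralizerIn S T ≤ P ⊔ centralizerIn S T) hc⟩
        have h2 : ζ ^ (k * m) = 1 := by rw [mul_comm, pow_mul, hζm, one_pow]
        rw [h2] at h1
        exact h1
    apply MulEquiv.ext
    intro z
    exact key z
  · intro c hc
    have h1 := hpowQ k ⟨c, (le_sup_right : centralizerIn S T ≤ P ⊔ centralizerIn S T) hc⟩
    rw [hζk] at h1
    exact h1

end Cfsg.Agent.Lib.Helper88.Crav
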