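import Mathlib.GroupTheory.SpecificGroups.Alternating
import Mathlib.GroupTheory.PGroup

set_option autoImplicit false

namespace Cfsg.Agent.Lib.Helper86

open Equiv

def r6 : Perm (Fin 6) := swap 0 1 * swap 1 2 * swap 2 3 * swap 4 5
def s6 : Perm (Fin 6) := swap 0 2 * swap 4 5

def D6 : List (Perm (Fin 6)) := [1, r6, r6^2, r6^3, s6, s6 * r6, s6 * r6^2, s6 * r6^3]

set_option maxRecDepth 100000 in
theorem D6_mul : ∀ a ∈ D6, ∀ b ∈ D6, a * b ∈ D6 := by decide

set_option maxRecDepth 100000 in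
theorem D6_inv : ∀ a ∈ D6, a⁻¹ ∈ D6 := by decide

set_option maxRecDepth 100000 in
theorem D6_pow : ∀ a ∈ D6, a ^ 8 = 1 := by decide

set_option maxRecDepth 100000 in
theorem D6_sign : ∀ a ∈ D6, Perm.sign a = 1 := by decide

set_option maxRecDepth 100000 in
theorem D6_ne : r6 * s6 ≠ s6 * r6 := by decide

def D6sub : Subgroup (Perm (Fin 6)) where
  carrier := {a | a ∈ D6}
  one_mem' := by decide
  mul_mem' := fun ha hb => D6_mul _ ha _ hb
  inv_mem' := fun ha => D6_inv _ ha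

theorem D6sub_isPGroup : IsPGroup 2 D6sub := by
  intro g
  refine ⟨3, ?_⟩
  apply Subtype.ext
  rw [Subgroup.coe_pow]
  exact D6_pow g.1 g.2


end Cfsg.Agent.Lib.Helper86
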