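import Mathlib

set_option autoImplicit false
set_option linter.style.haveILetI false
set_option linter.unusedSectionVars false

/-!
# Two-dimensional linear algebra by hand
-/

namespace Cfsg.Agent.Lib.Helper86.Lin2

open Matrix

variable {K : Type*} [Field K]

/-- the determinant of two plane vectors -/
def det2 (x y : Fin 2 → K) : K := x 0 * y 1 - x 1 * y 0

theorem det2_self (x : Fin 2 → K) : det2 x x = 0 := by
  unfold det2; ring

theorem det2_comb_right (v u : Fin 2 → K) (α β : K) :
    det2 v (α • v + β • u) = β * det2 v u := by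
  simp only [det2, Pi.add_apply, Pi.smul_apply, smul_eq_mul]; ring

theorem det2_comb_left (v u : Fin 2 → K) (α β : K) :
    det2 (α • v + β • u) u = α * det2 v u := by
  simp only [det2, Pi.add_apply, Pi.smul_apply, smul_eq_mul]; ring

theorem det2_smul_smul (u : Fin 2 → K) (α β : K) : det2 (α • u) (β • u) = 0 := by
  simp only [det2, Pi.smul_apply, smul_eq_mul]; ring

theorem det2_smul_left_self (u : Fin 2 → K) (α : K) : det2 (α • u) u = 0 := by
  simp only [det2, Pi.smul_apply, smul_eq_mul]; ring

theorem ne_zero_left_of_det2 {v u : Fin 2 → K} (h : det2 v u ≠ 0) : v ≠ 0 := by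
  rintro rfl; apply h; simp [det2]

theorem ne_zero_right_of_det2 {v u : Fin 2 → K} (h : det2 v u ≠ 0) : u ≠ 0 := by
  rintro rfl; apply h; simp [det2]

theorem cramer {v u : Fin 2 → K} (h : det2 v u ≠ 0) (x : Fin 2 → K) :
    x = (det2 x u / det2 v u) • v + (det2 v x / det2 v u) • u := by
  have h' : v 0 * u 1 - v 1 * u 0 ≠ 0 := h
  ext i
  fin_cases i
  · simp only [det2, Fin.zero_eta, Fin.isValue, Pi.add_apply, Pi.smul_apply, smul_eq_mul]
    rw [div_mul_eq_mul_div, div_mul_eq_mul_div, ← add_div, eq_div_iff h']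
    ring
  · simp only [det2, Fin.mk_one, Fin.isValue, Pi.add_apply, Pi.smul_apply, smul_eq_mul]
    rw [div_mul_eq_mul_div, div_mul_eq_mul_div, ← add_div, eq_div_iff h']
    ring

/-- proportionality from a vanishing determinant -/
theorem exists_smul_of_det2_eq_zero {v u : Fin 2 → K} (hu : u ≠ 0) (h : det2 v u = 0) :
    ∃ c : K, v = c • u := by
  have h' : v 0 * u 1 - v 1 * u 0 = 0 := h
  by_cases h0 : u 0 = 0
  · have h1 : u 1 ≠ 0 := by
      intro h1; apply hu; ext i; fin_cases i <;> simp [h0, h1]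
    refine ⟨v 1 / u 1, ?_⟩
    have hv0 : v 0 = 0 := by
      rw [h0] at h'
      have : v 0 * u 1 = 0 := by linear_combination h'
      rcases mul_eq_zero.mp this with h2 | h2
      · exact h2
      · exact absurd h2 h1
    ext i; fin_cases i
    · simp [h0, hv0]
    · simp only [Fin.mk_one, Fin.isValue, Pi.smul_apply, smul_eq_mul]; field_simp
  · refine ⟨v 0 / u 0, ?_⟩
    ext i; fin_cases i
    · simp only [Fin.zero_eta, Fin.isValue, Pi.smul_apply, smul_eq_mul]; field_simp
    · simp only [Fin.mk_one, Fin.isValue, Pi.smul_apply, smul_eq_mul]; field_simp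
      linear_combination -h'

/-- eigen data: `A` is diagonalizable with eigenvectors `v`, `u` for the eigenvalues `a`, `b` -/
structure Diag (A : Matrix (Fin 2) (Fin 2) K) (a b : K) (v u : Fin 2 → K) : Prop where
  hv : A *ᵥ v = a • v
  hu : A *ᵥ u = b • u
  hD : det2 v u ≠ 0

theorem Diag.pow {A : Matrix (Fin 2) (Fin 2) K} {a b : K} {v u : Fin 2 → K}
    (h : Diag A a b v u) (k : ℕ) : Diag (A ^ k) (a ^ k) (b ^ k) v u := by
  refine ⟨?_, ?_, h.hD⟩
  · induction k with
    | zero => simp
    | succ k ih =>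
      rw [pow_succ, ← Matrix.mulVec_mulVec, h.hv, Matrix.mulVec_smul, ih, smul_smul, pow_succ,
        mul_comm]
  · induction k with
    | zero => simp
    | succ k ih =>
      rw [pow_succ, ← Matrix.mulVec_mulVec, h.hu, Matrix.mulVec_smul, ih, smul_smul, pow_succ,
        mul_comm]

/-- an `a`-eigenvector of a diagonalizable matrix with `a ≠ b` is a multiple of `v` -/
theorem Diag.eig_a {A : Matrix (Fin 2) (Fin 2) K} {a b : K} {v u : Fin 2 → K}
    (h : Diag A a b v u) (hab : a ≠ b) {x : Fin 2 → K} (hx : A *ᵥ x = a • x) :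
    ∃ α : K, x = α • v := by
  set α := det2 x u / det2 v u with hα
  set β := det2 v x / det2 v u with hβ
  have hxc : x = α • v + β • u := cramer h.hD x
  have h1 : A *ᵥ x = (α * a) • v + (β * b) • u := by
    conv_lhs => rw [hxc]
    rw [Matrix.mulVec_add, Matrix.mulVec_smul, Matrix.mulVec_smul, h.hv, h.hu, smul_smul,
      smul_smul]
  have h2 : a • x = (α * a) • v + (β * a) • u := by
    conv_lhs => rw [hxc]
    rw [smul_add, smul_smul, smul_smul, mul_comm a α, mul_comm a β]
  have h3 : (β * b) • u = (β * a) • u := by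
    have := h1.symm.trans (hx.trans h2)
    exact add_left_cancel this
  have h4 : (β * (b - a)) • u = 0 := by
    rw [mul_sub, sub_smul, h3, sub_self]
  rcases smul_eq_zero.mp h4 with h5 | h5
  · rcases mul_eq_zero.mp h5 with h6 | h6
    · refine ⟨α, ?_⟩
      rw [hxc, h6, zero_smul, add_zero]
    · exact absurd (sub_eq_zero.mp h6).symm hab
  · exact absurd h5 (ne_zero_right_of_det2 h.hD)

/-- the symmetric data -/
theorem Diag.symm {A : Matrix (Fin 2) (Fin 2) K} {a b : K} {v u : Fin 2 → K}
    (h : Diag A a b v u) : Diag A b a u v :=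
  ⟨h.hu, h.hv, by
    have : det2 u v = - det2 v u := by unfold det2; ring
    rw [this]; exact neg_ne_zero.mpr h.hD⟩

/-- every eigenvector of a diagonalizable matrix with `a ≠ b` is a multiple of `v` or of `u` -/
theorem Diag.eig {A : Matrix (Fin 2) (Fin 2) K} {a b : K} {v u : Fin 2 → K}
    (h : Diag A a b v u) (hab : a ≠ b) {x : Fin 2 → K} {c : K}
    (hx : A *ᵥ x = c • x) : (∃ α : K, x = α • v) ∨ (∃ β : K, x = β • u) := by
  set α := det2 x u / det2 v u with hα
  set β := det2 v x / det2 v u with hβ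
  have hxc : x = α • v + β • u := cramer h.hD x
  have h1 : A *ᵥ x = (α * a) • v + (β * b) • u := by
    conv_lhs => rw [hxc]
    rw [Matrix.mulVec_add, Matrix.mulVec_smul, Matrix.mulVec_smul, h.hv, h.hu, smul_smul,
      smul_smul]
  have h2 : c • x = (α * c) • v + (β * c) • u := by
    conv_lhs => rw [hxc]
    rw [smul_add, smul_smul, smul_smul, mul_comm c α, mul_comm c β]
  have h3 : (α * a) • v + (β * b) • u = (α * c) • v + (β * c) • u := h1.symm.trans (hx.trans h2)
  -- compare coefficients with determinants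
  have e1 : α * a * det2 v u = α * c * det2 v u := by
    have := congrArg (fun y => det2 y u) h3
    simpa only [det2_comb_left] using this
  have e2 : β * b * det2 v u = β * c * det2 v u := by
    have := congrArg (fun y => det2 v y) h3
    simpa only [det2_comb_right] using this
  have e1' : α * a = α * c := mul_right_cancel₀ h.hD e1
  have e2' : β * b = β * c := mul_right_cancel₀ h.hD e2
  by_cases hα0 : α = 0
  · right
    exact ⟨β, by rw [hxc, hα0, zero_smul, zero_add]⟩
  · left
    have hac : a = c := mul_left_cancel₀ hα0 e1'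
    have hβ0 : β = 0 := by
      by_contra hβ0
      have hbc : b = c := mul_left_cancel₀ hβ0 e2'
      exact hab (hac.trans hbc.symm)
    exact ⟨α, by rw [hxc, hβ0, zero_smul, add_zero]⟩

/-- if `B` commutes with the diagonalizable `A`, the eigenvector `v` of `A` is an eigenvector
of `B` -/
theorem Diag.commute_eig {A B : Matrix (Fin 2) (Fin 2) K} {a b : K} {v u : Fin 2 → K}
    (h : Diag A a b v u) (hab : a ≠ b) (hAB : A * B = B * A) : ∃ c : K, B *ᵥ v = c • v := by
  have hx : A *ᵥ (B *ᵥ v) = a • (B *ᵥ v) := by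
    rw [Matrix.mulVec_mulVec, hAB, ← Matrix.mulVec_mulVec, h.hv, Matrix.mulVec_smul]
  exact h.eig_a hab hx

/-- three pairwise commuting diagonalizable matrices with the same pair of distinct eigenvalues
cannot have pairwise independent `a`-eigenvectors -/
theorem three_commute {A B C : Matrix (Fin 2) (Fin 2) K} {a b : K}
    {v₁ u₁ v₂ u₂ v₃ u₃ : Fin 2 → K} (hA : Diag A a b v₁ u₁) (hB : Diag B a b v₂ u₂)
    (hC : Diag C a b v₃ u₃) (hab : a ≠ b) (hAB : A * B = B * A) (hCB : C * B = B * C)
    (h12 : det2 v₁ v₂ ≠ 0) (h32 : det2 v₃ v₂ ≠ 0) (h13 : det2 v₁ v₃ ≠ 0) : False := by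
  obtain ⟨c, hc⟩ := hA.commute_eig hab hAB
  obtain ⟨c', hc'⟩ := hC.commute_eig hab hCB
  have hv1 : v₁ ≠ 0 := ne_zero_left_of_det2 h12
  have hv3 : v₃ ≠ 0 := ne_zero_left_of_det2 h32
  have k1 : ∃ β : K, v₁ = β • u₂ := by
    rcases hB.eig hab hc with ⟨α, hα⟩ | h
    · exfalso; apply h12; rw [hα]; exact det2_smul_left_self _ _
    · exact h
  have k3 : ∃ β : K, v₃ = β • u₂ := by
    rcases hB.eig hab hc' with ⟨α, hα⟩ | h
    · exfalso; apply h32; rw [hα]; exact det2_smul_left_self _ _
    · exact h
  obtain ⟨β, hβ⟩ := k1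
  obtain ⟨β', hβ'⟩ := k3
  apply h13
  rw [hβ, hβ']
  exact det2_smul_smul _ _ _

/-- a scalar matrix has no two distinct eigenvalues -/
theorem Diag.not_scalar {A : Matrix (Fin 2) (Fin 2) K} {a b : K} {v u : Fin 2 → K}
    (h : Diag A a b v u) (hab : a ≠ b) (c : K) : A ≠ c • (1 : Matrix (Fin 2) (Fin 2) K) := by
  intro hA
  have h1 : c • v = a • v := by
    rw [← h.hv, hA, Matrix.smul_mulVec, Matrix.one_mulVec]
  have h2 : c • u = b • u := by
    rw [← h.hu, hA, Matrix.smul_mulVec, Matrix.one_mulVec]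
  have hv0 := ne_zero_left_of_det2 h.hD
  have hu0 := ne_zero_right_of_det2 h.hD
  have e1 : c = a := by
    have : (c - a) • v = 0 := by rw [sub_smul, h1, sub_self]
    rcases smul_eq_zero.mp this with h | h
    · exact sub_eq_zero.mp h
    · exact absurd h hv0
  have e2 : c = b := by
    have : (c - b) • u = 0 := by rw [sub_smul, h2, sub_self]
    rcases smul_eq_zero.mp this with h | h
    · exact sub_eq_zero.mp h
    · exact absurd h hu0
  exact hab (e1.symm.trans e2)

/-- the eigenvalues of a scalar matrix with diagonal data coincide -/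
theorem Diag.eq_of_scalar {A : Matrix (Fin 2) (Fin 2) K} {a b : K} {v u : Fin 2 → K}
    (h : Diag A a b v u) {c : K} (hA : A = c • (1 : Matrix (Fin 2) (Fin 2) K)) : a = b := by
  by_contra hab
  exact h.not_scalar hab c hA

/-- upper triangular data gives diagonal data -/
theorem diag_of_upper {A : Matrix (Fin 2) (Fin 2) K} {a b e : K} {v u : Fin 2 → K}
    (hv : A *ᵥ v = a • v) (hu : A *ᵥ u = b • u + e • v) (hD : det2 v u ≠ 0) (hab : a ≠ b) :
    Diag A a b v (u + (e / (b - a)) • v) := by
  have hba : b - a ≠ 0 := sub_ne_zero.mpr (Ne.symm hab)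
  refine ⟨hv, ?_, ?_⟩
  · rw [Matrix.mulVec_add, Matrix.mulVec_smul, hu, hv, smul_add, smul_smul, smul_smul, add_assoc,
      ← add_smul]
    congr 2
    field_simp
    ring
  · have : det2 v (u + (e / (b - a)) • v) = det2 v u := by
      simp only [det2, Pi.add_apply, Pi.smul_apply, smul_eq_mul]; ring
    rw [this]; exact hD

end Cfsg.Agent.Lib.Helper86.Lin2
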