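import Mathlib
import Cfsg.Agent.Lib.Helper86.Lin2
import Cfsg.Agent.Lib.Helper14.DkMain2
import Cfsg.Agent.Lib.Helper14.DkRep

set_option autoImplicit false
set_option linter.style.haveILetI false
set_option linter.unusedSectionVars false

/-!
# Lifting a `p'`-subgroup of `GL₂(p)` into `SL₂(F)` and applying the numerical Dickson theorem
-/

namespace Cfsg.Agent.Lib.Helper86.GL2

open Matrix Cfsg.Agent.Lib.Helper14.Dk

variable {p : ℕ} [hp : Fact p.Prime] {F : Type*} [Field F] [Algebra (ZMod p) F]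

local notation "SL2" => Matrix.SpecialLinearGroup (Fin 2) F
local notation "M2" => Matrix (Fin 2) (Fin 2) (ZMod p)

/-- extension of scalars for matrices -/
noncomputable def ext : M2 →+* Matrix (Fin 2) (Fin 2) F := (algebraMap (ZMod p) F).mapMatrix

theorem ext_apply (w : M2) (i j : Fin 2) : ext (F := F) w i j = algebraMap (ZMod p) F (w i j) := rfl

theorem ext_injective : Function.Injective (ext (p := p) (F := F)) := by
  intro a b hab
  ext i j
  have := congrFun (congrFun hab i) j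
  rw [ext_apply, ext_apply] at this
  exact (algebraMap (ZMod p) F).injective this

/-- `y` is a scalar multiple of the extension of `w` -/
def Lift (y : SL2) (w : M2) : Prop := ∃ l : F, (y : Matrix (Fin 2) (Fin 2) F) = l • ext w

theorem Lift.ne_zero {y : SL2} {w : M2} {l : F} (h : (y : Matrix (Fin 2) (Fin 2) F) = l • ext w) :
    l ≠ 0 := by
  rintro rfl
  have hd := y.2
  rw [h, zero_smul] at hd
  simp at hd

theorem Lift.one : Lift (1 : SL2) (1 : M2) := ⟨1, by simp⟩

theorem Lift.mul {y₁ y₂ : SL2} {w₁ w₂ : M2} (h₁ : Lift y₁ w₁) (h₂ : Lift y₂ w₂) :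
    Lift (y₁ * y₂) (w₁ * w₂) := by
  obtain ⟨l₁, e₁⟩ := h₁
  obtain ⟨l₂, e₂⟩ := h₂
  refine ⟨l₁ * l₂, ?_⟩
  rw [Matrix.SpecialLinearGroup.coe_mul, e₁, e₂, Matrix.smul_mul, Matrix.mul_smul, smul_smul,
    map_mul]

theorem Lift.pow {y : SL2} {w : M2} (h : Lift y w) (k : ℕ) : Lift (y ^ k) (w ^ k) := by
  induction k with
  | zero => simpa using Lift.one
  | succ k ih => rw [pow_succ, pow_succ]; exact ih.mul h

theorem Lift.inv {y : SL2} {w w' : M2} (h : Lift y w) (hw : w * w' = 1) : Lift y⁻¹ w' := by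
  obtain ⟨l, e⟩ := h
  have hl := Lift.ne_zero e
  refine ⟨l⁻¹, ?_⟩
  have h1 : (y : Matrix (Fin 2) (Fin 2) F) * (l⁻¹ • ext w') = 1 := by
    rw [e, Matrix.smul_mul, Matrix.mul_smul, smul_smul, ← map_mul, hw, map_one, mul_inv_cancel₀ hl,
      one_smul]
  have h2 : ((y⁻¹ : SL2) : Matrix (Fin 2) (Fin 2) F) * (y : Matrix (Fin 2) (Fin 2) F) = 1 := by
    rw [← Matrix.SpecialLinearGroup.coe_mul, inv_mul_cancel, Matrix.SpecialLinearGroup.coe_one]
  calc ((y⁻¹ : SL2) : Matrix (Fin 2) (Fin 2) F)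
      = ((y⁻¹ : SL2) : Matrix (Fin 2) (Fin 2) F) * ((y : Matrix (Fin 2) (Fin 2) F) *
          (l⁻¹ • ext w')) := by rw [h1, mul_one]
    _ = l⁻¹ • ext w' := by rw [← mul_assoc, h2, one_mul]

theorem Lift.comm {y₁ y₂ : SL2} {w₁ w₂ : M2} (h₁ : Lift y₁ w₁) (h₂ : Lift y₂ w₂)
    (hy : y₁ * y₂ = y₂ * y₁) : w₁ * w₂ = w₂ * w₁ := by
  obtain ⟨l₁, e₁⟩ := h₁
  obtain ⟨l₂, e₂⟩ := h₂
  have hl₁ := Lift.ne_zero e₁
  have hl₂ := Lift.ne_zero e₂
  have h := congrArg (fun z : SL2 => (z : Matrix (Fin 2) (Fin 2) F)) hy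
  simp only [Matrix.SpecialLinearGroup.coe_mul] at h
  rw [e₁, e₂, Matrix.smul_mul, Matrix.mul_smul, Matrix.smul_mul, Matrix.mul_smul, smul_smul,
    smul_smul, mul_comm l₂ l₁, ← map_mul, ← map_mul] at h
  have h' : ext (F := F) (w₁ * w₂) = ext (w₂ * w₁) := by
    have hne : l₁ * l₂ ≠ 0 := mul_ne_zero hl₁ hl₂
    have := congrArg (fun m => (l₁ * l₂)⁻¹ • m) h
    simpa only [smul_smul, inv_mul_cancel₀ hne, one_smul] using this
  exact ext_injective h'

theorem Lift.scalar_of_central {y : SL2} {w : M2} (h : Lift y w) (hy : y = 1 ∨ y = -1) :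
    ∃ c : ZMod p, w = c • (1 : M2) := by
  obtain ⟨l, e⟩ := h
  have hl := Lift.ne_zero e
  have hinj := (algebraMap (ZMod p) F).injective
  have e01 : (y : Matrix (Fin 2) (Fin 2) F) 0 1 = 0 := by rcases hy with rfl | rfl <;> simp
  have e10 : (y : Matrix (Fin 2) (Fin 2) F) 1 0 = 0 := by rcases hy with rfl | rfl <;> simp
  have e00 : (y : Matrix (Fin 2) (Fin 2) F) 0 0 = (y : Matrix (Fin 2) (Fin 2) F) 1 1 := by
    rcases hy with rfl | rfl <;> simp
  rw [e] at e01 e10 e00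
  simp only [Matrix.smul_apply, ext_apply, smul_eq_mul] at e01 e10 e00
  have w01 : w 0 1 = 0 := by
    rcases mul_eq_zero.mp e01 with h | h
    · exact absurd h hl
    · exact hinj (by rw [h, map_zero])
  have w10 : w 1 0 = 0 := by
    rcases mul_eq_zero.mp e10 with h | h
    · exact absurd h hl
    · exact hinj (by rw [h, map_zero])
  have w00 : w 0 0 = w 1 1 := hinj (mul_left_cancel₀ hl e00)
  refine ⟨w 0 0, ?_⟩
  ext i j
  fin_cases i <;> fin_cases j <;> simp [w01, w10, w00]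

theorem Lift.central_of_scalar {y : SL2} {w : M2} (h : Lift y w) {c : ZMod p}
    (hw : w = c • (1 : M2)) : y = 1 ∨ y = -1 := by
  obtain ⟨l, e⟩ := h
  set d : F := l * algebraMap (ZMod p) F c with hd
  have e' : (y : Matrix (Fin 2) (Fin 2) F) = d • (1 : Matrix (Fin 2) (Fin 2) F) := by
    rw [e, hw]
    ext i j
    fin_cases i <;> fin_cases j <;> simp [ext_apply, hd]
  have hdet := y.2
  rw [e', Matrix.det_smul, Matrix.det_one] at hdet
  simp only [Fintype.card_fin, mul_one] at hdet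
  have hd2 : d = 1 ∨ d = -1 := by
    have : (d - 1) * (d + 1) = 0 := by linear_combination hdet
    rcases mul_eq_zero.mp this with h | h
    · left; linear_combination h
    · right; linear_combination h
  rcases hd2 with h1 | h1
  · left
    apply Matrix.SpecialLinearGroup.ext
    intro i j
    rw [e', h1]; simp
  · right
    apply Matrix.SpecialLinearGroup.ext
    intro i j
    rw [e', h1]; simp

variable (F)

/-- the lifted group -/
def liftGroup (W : Subgroup (GL (Fin 2) (ZMod p))) : Subgroup SL2 where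
  carrier := {y | ∃ w ∈ W, Lift y (w : M2)}
  one_mem' := ⟨1, W.one_mem, by simpa using Lift.one⟩
  mul_mem' := by
    rintro y₁ y₂ ⟨w₁, hw₁, h₁⟩ ⟨w₂, hw₂, h₂⟩
    exact ⟨w₁ * w₂, W.mul_mem hw₁ hw₂, by simpa using h₁.mul h₂⟩
  inv_mem' := by
    rintro y ⟨w, hw, h⟩
    refine ⟨w⁻¹, W.inv_mem hw, h.inv ?_⟩
    rw [← Units.val_mul, mul_inv_cancel, Units.val_one]

variable {F}

theorem mem_liftGroup {W : Subgroup (GL (Fin 2) (ZMod p))} {y : SL2} :
    y ∈ liftGroup F W ↔ ∃ w ∈ W, Lift y (w : M2) := Iff.rfl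

/-- existence of lifts, given square roots -/
theorem exists_lift (hsq : ∀ a : ZMod p, ∃ l : F, l ^ 2 = algebraMap (ZMod p) F a)
    (w : GL (Fin 2) (ZMod p)) : ∃ y : SL2, Lift y (w : M2) := by
  obtain ⟨l, hl⟩ := hsq ((w : M2).det)⁻¹
  have hdet : (w : M2).det ≠ 0 := by
    have := w.isUnit
    have h2 := (Matrix.isUnit_iff_isUnit_det (w : M2)).mp this
    exact h2.ne_zero
  have hd : (l • ext (F := F) (w : M2)).det = 1 := by
    rw [Matrix.det_smul]
    simp only [Fintype.card_fin]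
    have : (ext (F := F) (w : M2)).det = algebraMap (ZMod p) F ((w : M2).det) := by
      unfold ext
      rw [← RingHom.map_det]
    rw [this, hl, ← map_mul, inv_mul_cancel₀ hdet, map_one]
  exact ⟨⟨l • ext (w : M2), hd⟩, l, rfl⟩

end Cfsg.Agent.Lib.Helper86.GL2
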