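import Mathlib
import Cfsg.Agent.Lib.Helper86.GL2Lift

set_option autoImplicit false
set_option linter.style.haveILetI false
set_option linter.unusedSectionVars false

/-!
# `p'`-subgroups of `GL₂(p)` containing many split tori
-/

namespace Cfsg.Agent.Lib.Helper86.GL2

open Matrix Cfsg.Agent.Lib.Helper14.Dk Cfsg.Agent.Lib.Helper86.Lin2

variable {p : ℕ} [hp : Fact p.Prime] {F : Type*} [Field F] [Fintype F] [Algebra (ZMod p) F]
  [CharP F p]

local notation "SL2" => Matrix.SpecialLinearGroup (Fin 2) F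
local notation "M2" => Matrix (Fin 2) (Fin 2) (ZMod p)

section

variable (W : Subgroup (GL (Fin 2) (ZMod p)))

/-- the representation of the lifted group -/
abbrev tau : ↥(liftGroup F W) →* SL2 := (liftGroup F W).subtype

theorem tau_injective : Function.Injective (tau (F := F) W) := Subgroup.subtype_injective _

theorem lift_of_mem (y : ↥(liftGroup F W)) : ∃ w ∈ W, Lift (y : SL2) (w : M2) := y.2

theorem mem_ZZ_iff {y : ↥(liftGroup F W)} {w : M2} (h : Lift (y : SL2) w) :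
    y ∈ ZZ (tau (F := F) W) ↔ ∃ c : ZMod p, w = c • (1 : M2) := by
  rw [mem_ZZ]
  constructor
  · intro hy
    exact h.scalar_of_central hy
  · rintro ⟨c, hc⟩
    exact h.central_of_scalar hc

theorem pow_card_mem_ZZ [Finite W] (y : ↥(liftGroup F W)) :
    y ^ Nat.card W ∈ ZZ (tau (F := F) W) := by
  obtain ⟨w, hw, hl⟩ := lift_of_mem W y
  have h1 : Lift ((y ^ Nat.card W : ↥(liftGroup F W)) : SL2) ((w : M2) ^ Nat.card W) := by
    have := hl.pow (Nat.card W)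
    simpa using this
  rw [mem_ZZ_iff W h1]
  refine ⟨1, ?_⟩
  have h2 : (⟨w, hw⟩ : W) ^ Nat.card W = 1 := pow_card_eq_one'
  have h3 : w ^ Nat.card W = 1 := by
    have := congrArg Subtype.val h2
    simpa only [SubgroupClass.coe_pow, OneMemClass.coe_one] using this
  rw [← Units.val_pow_eq_pow_val, h3, Units.val_one, one_smul]

theorem data [Finite W] : Data (ZZ (tau (F := F) W)) p (UU (tau (F := F) W)) :=
  data_of_rep p (tau (F := F) W) (tau_injective W)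

theorem noUni [Finite W] (hW : (Nat.card W).Coprime p) :
    NoUni (ZZ (tau (F := F) W)) (UU (tau (F := F) W)) := by
  intro y hy hU
  have h := data (F := F) W
  have h1 := h.U_pow y hy hU
  have h2 := pow_card_mem_ZZ W y
  exact hy (mem_of_pow_mem hW h2 h1)

theorem commute_of_lift {y y' : ↥(liftGroup F W)} {w w' : M2} (h : Lift (y : SL2) w)
    (h' : Lift (y' : SL2) w') (hc : y * y' = y' * y) : w * w' = w' * w := by
  apply h.comm h'
  have := congrArg (fun z : ↥(liftGroup F W) => (z : SL2)) hc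
  simpa using this

/-- small tori: if all tori have one of the listed orders, a power of `y` is central -/
theorem pow_mem_of_torIn [Finite W] {ts : List (ℕ × ℕ)}
    (hT : TorIn (ZZ (tau (F := F) W)) (UU (tau (F := F) W)) ts)
    (hno : NoUni (ZZ (tau (F := F) W)) (UU (tau (F := F) W)))
    {y : ↥(liftGroup F W)} (hy : y ∉ ZZ (tau (F := F) W)) :
    ∃ t ∈ ts, ee y = t.1 ∧ aa y = Nat.card (ZZ (tau (F := F) W)) * t.2 ∧
      y ^ t.2 ∈ ZZ (tau (F := F) W) := by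
  have h := data (F := F) W
  obtain ⟨t, ht, he, ha⟩ := hT y hy (hno y hy)
  refine ⟨t, ht, he, ha, ?_⟩
  set Z := ZZ (tau (F := F) W) with hZ
  haveI : Z.Normal := by
    rw [hZ]; unfold ZZ; infer_instance
  have hZM : Z ≤ M y := h.toCT.Z_le_M y
  have hidx : (Z.subgroupOf (M y)).index = t.2 := by
    have h1 := Subgroup.card_mul_index (Z.subgroupOf (M y))
    have h2 : Nat.card (Z.subgroupOf (M y)) = Nat.card Z :=
      Nat.card_congr (Subgroup.subgroupOfEquivOfLe hZM).toEquiv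
    have h3 : Nat.card (M y) = Nat.card Z * t.2 := ha
    rw [h2, h3] at h1
    exact Nat.eq_of_mul_eq_mul_left Nat.card_pos h1
  have h4 := Subgroup.pow_index_mem (Z.subgroupOf (M y)) ⟨y, self_mem_M y⟩
  rw [hidx] at h4
  simpa [Subgroup.mem_subgroupOf] using h4

end

/-- powers of the primitive root -/
theorem dvd_of_pow_eq {t : (ZMod p)ˣ} (ht : orderOf t = p - 1) {k : ℕ}
    (h : ((t⁻¹ : (ZMod p)ˣ) : ZMod p) ^ k = ((t ^ 2 : (ZMod p)ˣ) : ZMod p) ^ k) :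
    p - 1 ∣ 3 * k := by
  rw [← ht, orderOf_dvd_iff_pow_eq_one]
  have h1 : (t⁻¹) ^ k = (t ^ 2) ^ k := by
    apply Units.ext
    rw [Units.val_pow_eq_pow_val, Units.val_pow_eq_pow_val]
    exact h
  calc t ^ (3 * k) = (t ^ 2) ^ k * t ^ k := by rw [← pow_mul, ← pow_add]; congr 1; ring
    _ = (t⁻¹) ^ k * t ^ k := by rw [h1]
    _ = 1 := by rw [← mul_pow, inv_mul_cancel, one_pow]

/-- the split torus data -/
def Tor (t : (ZMod p)ˣ) (w : GL (Fin 2) (ZMod p)) (v : Fin 2 → ZMod p) : Prop :=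
  ∃ u : Fin 2 → ZMod p, Diag (w : M2) ((t⁻¹ : (ZMod p)ˣ) : ZMod p) ((t ^ 2 : (ZMod p)ˣ) : ZMod p) v u

/-- **Three split tori in a `p'`-subgroup of `GL₂(p)` force `p ≤ 13`.** -/
theorem bound13 (hp2 : p ≠ 2) (hsq : ∀ a : ZMod p, ∃ l : F, l ^ 2 = algebraMap (ZMod p) F a)
    (W : Subgroup (GL (Fin 2) (ZMod p))) (hW : (Nat.card W).Coprime p)
    (t : (ZMod p)ˣ) (ht : orderOf t = p - 1)
    {w₁ w₂ w₃ : GL (Fin 2) (ZMod p)} (hw₁ : w₁ ∈ W) (hw₂ : w₂ ∈ W) (hw₃ : w₃ ∈ W)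
    {v₁ v₂ v₃ : Fin 2 → ZMod p} (h₁ : Tor t w₁ v₁) (h₂ : Tor t w₂ v₂) (h₃ : Tor t w₃ v₃)
    (h12 : det2 v₁ v₂ ≠ 0) (h32 : det2 v₃ v₂ ≠ 0) (h13 : det2 v₁ v₃ ≠ 0) : p ≤ 13 := by
  by_contra hp13
  push Not at hp13
  haveI : Finite W := inferInstance
  obtain ⟨u₁, d₁⟩ := h₁
  obtain ⟨u₂, d₂⟩ := h₂
  obtain ⟨u₃, d₃⟩ := h₃
  set a : ZMod p := ((t⁻¹ : (ZMod p)ˣ) : ZMod p) with ha
  set b : ZMod p := ((t ^ 2 : (ZMod p)ˣ) : ZMod p) with hb
  -- distinct eigenvalues for small powers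
  have hne : ∀ k : ℕ, 0 < k → 3 * k < p - 1 → a ^ k ≠ b ^ k := by
    intro k hk hlt he
    have := dvd_of_pow_eq ht he
    have := Nat.le_of_dvd (by omega) this
    omega
  obtain ⟨y₁, l₁⟩ := exists_lift hsq w₁
  obtain ⟨y₂, l₂⟩ := exists_lift hsq w₂
  obtain ⟨y₃, l₃⟩ := exists_lift hsq w₃
  have m₁ : y₁ ∈ liftGroup F W := ⟨w₁, hw₁, l₁⟩
  have m₂ : y₂ ∈ liftGroup F W := ⟨w₂, hw₂, l₂⟩
  have m₃ : y₃ ∈ liftGroup F W := ⟨w₃, hw₃, l₃⟩
  set z₁ : ↥(liftGroup F W) := ⟨y₁, m₁⟩ with hz₁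
  set z₂ : ↥(liftGroup F W) := ⟨y₂, m₂⟩ with hz₂
  set z₃ : ↥(liftGroup F W) := ⟨y₃, m₃⟩ with hz₃
  have hd := data (F := F) W
  have hno := noUni (F := F) W hW
  have hab1 : a ≠ b := by
    have := hne 1 (by omega) (by omega)
    simpa using this
  have hz₁Z : z₁ ∉ ZZ (tau (F := F) W) := by
    rw [mem_ZZ_iff W (y := z₁) l₁]
    rintro ⟨c, hc⟩
    exact d₁.not_scalar hab1 c hc
  rcases hd.main_noU hno with htop | hcyc | hdih | hA4 | hS4 | hA5
  · apply hz₁Z; rw [htop]; trivial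
  · obtain ⟨x, hx, -, hM⟩ := hcyc
    have c12 : z₁ * z₂ = z₂ * z₁ := hd.toCT.comm_of_mem hx (by rw [hM]; trivial) (by rw [hM]; trivial)
    have c32 : z₃ * z₂ = z₂ * z₃ := hd.toCT.comm_of_mem hx (by rw [hM]; trivial) (by rw [hM]; trivial)
    have e12 := commute_of_lift W (y := z₁) (y' := z₂) l₁ l₂ c12
    have e32 := commute_of_lift W (y := z₃) (y' := z₂) l₃ l₂ c32
    exact three_commute d₁ d₂ d₃ hab1 e12 e32 h12 h32 h13
  · obtain ⟨x, hx, -, hn, he⟩ := hdih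
    have hnorm : Subgroup.normalizer (M x : Set ↥(liftGroup F W)) = ⊤ := Subgroup.index_eq_one.mp hn
    have hidx : (M x).index = 2 := by
      have : (M x).relIndex (Subgroup.normalizer (M x : Set ↥(liftGroup F W))) = 2 := he
      rw [hnorm, Subgroup.relIndex_top_right] at this
      exact this
    have s₁ := Subgroup.sq_mem_of_index_two hidx z₁
    have s₂ := Subgroup.sq_mem_of_index_two hidx z₂
    have s₃ := Subgroup.sq_mem_of_index_two hidx z₃
    have c12 : z₁ ^ 2 * z₂ ^ 2 = z₂ ^ 2 * z₁ ^ 2 := hd.toCT.comm_of_mem hx s₁ s₂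
    have c32 : z₃ ^ 2 * z₂ ^ 2 = z₂ ^ 2 * z₃ ^ 2 := hd.toCT.comm_of_mem hx s₃ s₂
    have q₁ : Lift ((z₁ ^ 2 : ↥(liftGroup F W)) : SL2) ((w₁ : M2) ^ 2) := by
      simpa using l₁.pow 2
    have q₂ : Lift ((z₂ ^ 2 : ↥(liftGroup F W)) : SL2) ((w₂ : M2) ^ 2) := by
      simpa using l₂.pow 2
    have q₃ : Lift ((z₃ ^ 2 : ↥(liftGroup F W)) : SL2) ((w₃ : M2) ^ 2) := by
      simpa using l₃.pow 2
    have e12 := commute_of_lift W q₁ q₂ c12
    have e32 := commute_of_lift W q₃ q₂ c32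
    have hab2 : a ^ 2 ≠ b ^ 2 := hne 2 (by omega) (by omega)
    exact three_commute (d₁.pow 2) (d₂.pow 2) (d₃.pow 2) hab2 e12 e32 h12 h32 h13
  all_goals
    have hT : ∃ ts : List (ℕ × ℕ), TorIn (ZZ (tau (F := F) W)) (UU (tau (F := F) W)) ts ∧
        ∀ t ∈ ts, 0 < t.2 ∧ t.2 ≤ 5 := by
      first
      | (obtain ⟨-, h | h⟩ := hA4
         · exact ⟨_, h.2.2.2, by simp⟩
         · exact ⟨_, h.2.2, by simp⟩)
      | exact ⟨_, hS4.2.2.2.2.2, by simp⟩
      | exact ⟨_, hA5.2.2.2.2.2, by simp⟩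
    obtain ⟨ts, hT, hts⟩ := hT
    obtain ⟨tt, htt, -, -, hpow⟩ := pow_mem_of_torIn W hT hno hz₁Z
    obtain ⟨hpos, hle⟩ := hts tt htt
    have q : Lift ((z₁ ^ tt.2 : ↥(liftGroup F W)) : SL2) ((w₁ : M2) ^ tt.2) := by
      simpa using l₁.pow tt.2
    rw [mem_ZZ_iff W q] at hpow
    obtain ⟨c, hc⟩ := hpow
    have := (d₁.pow tt.2).eq_of_scalar hc
    have hdv := dvd_of_pow_eq ht this
    have hle2 := Nat.le_of_dvd (by omega) hdv
    have hp16 : p ≤ 16 := by omega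
    have hpr := hp.out
    interval_cases p
    · exact absurd hpr (by norm_num)
    · exact absurd hpr (by norm_num)
    · exact absurd hpr (by norm_num)

end Cfsg.Agent.Lib.Helper86.GL2
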