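import Mathlib
import Cfsg.Agent.Lib.Helper86.GL2Dickson

set_option autoImplicit false
set_option linter.style.haveILetI false
set_option linter.unusedSectionVars false

/-!
# The bounds over the prime field, with the quadratic extension supplied
-/

namespace Cfsg.Agent.Lib.Helper86.GL2

open Matrix Cfsg.Agent.Lib.Helper86.Lin2

variable {p : ℕ} [hp : Fact p.Prime]

/-- every element of the prime field is a square in the field with `p²` elements -/
theorem exists_sqrt (hp2 : p ≠ 2) (a : ZMod p) :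
    ∃ l : GaloisField p 2, l ^ 2 = algebraMap (ZMod p) (GaloisField p 2) a := by
  classical
  by_cases ha : a = 0
  · exact ⟨0, by simp [ha]⟩
  letI : Fintype (GaloisField p 2) := Fintype.ofFinite _
  have hcard : Fintype.card (GaloisField p 2) = p ^ 2 := by
    rw [← Nat.card_eq_fintype_card]; exact GaloisField.card p 2 (by norm_num)
  have hx : algebraMap (ZMod p) (GaloisField p 2) a ≠ 0 := by
    intro h
    apply ha
    exact (algebraMap (ZMod p) (GaloisField p 2)).injective (by rw [h, map_zero])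
  have hchar : ringChar (GaloisField p 2) ≠ 2 := by
    rw [ringChar.eq (GaloisField p 2) p]; exact hp2
  have hsq := (FiniteField.isSquare_iff hchar hx).mpr ?_
  · obtain ⟨l, hl⟩ := hsq
    exact ⟨l, by rw [hl, sq]⟩
  · rw [hcard]
    have hodd : Odd p := hp.out.odd_of_ne_two hp2
    obtain ⟨k, hk⟩ := hodd
    have e : p ^ 2 / 2 = (p - 1) * (k + 1) := by
      subst hk
      have : (2 * k + 1) ^ 2 = 2 * ((2 * k + 1 - 1) * (k + 1)) + 1 := by
        have : 2 * k + 1 - 1 = 2 * k := by omega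
        rw [this]; ring
      rw [this]
      omega
    rw [e, ← map_pow, pow_mul, ZMod.pow_card_sub_one_eq_one ha, one_pow, map_one]

/-- **Three split tori in a `p'`-subgroup of `GL₂(p)` force `p ≤ 13`** (prime field version). -/
theorem bound13' (hp2 : p ≠ 2)
    (W : Subgroup (GL (Fin 2) (ZMod p))) (hW : (Nat.card W).Coprime p)
    (t : (ZMod p)ˣ) (ht : orderOf t = p - 1)
    {w₁ w₂ w₃ : GL (Fin 2) (ZMod p)} (hw₁ : w₁ ∈ W) (hw₂ : w₂ ∈ W) (hw₃ : w₃ ∈ W)
    {v₁ v₂ v₃ : Fin 2 → ZMod p} (h₁ : Tor t w₁ v₁) (h₂ : Tor t w₂ v₂) (h₃ : Tor t w₃ v₃)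
    (h12 : det2 v₁ v₂ ≠ 0) (h32 : det2 v₃ v₂ ≠ 0) (h13 : det2 v₁ v₃ ≠ 0) : p ≤ 13 := by
  classical
  letI : Fintype (GaloisField p 2) := Fintype.ofFinite _
  exact bound13 (F := GaloisField p 2) hp2 (exists_sqrt hp2) W hW t ht hw₁ hw₂ hw₃ h₁ h₂ h₃ h12 h32
    h13

/-- upper triangular data give a split torus, when `t³ ≠ 1` -/
theorem tor_of_upper {t : (ZMod p)ˣ} (ht : orderOf t = p - 1) (hp5 : 5 ≤ p)
    {w : GL (Fin 2) (ZMod p)} {v u : Fin 2 → ZMod p} {e : ZMod p}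
    (hv : (w : Matrix (Fin 2) (Fin 2) (ZMod p)) *ᵥ v = ((t⁻¹ : (ZMod p)ˣ) : ZMod p) • v)
    (hu : (w : Matrix (Fin 2) (Fin 2) (ZMod p)) *ᵥ u = ((t ^ 2 : (ZMod p)ˣ) : ZMod p) • u + e • v)
    (hD : det2 v u ≠ 0) : Tor t w v := by
  have hab : ((t⁻¹ : (ZMod p)ˣ) : ZMod p) ≠ ((t ^ 2 : (ZMod p)ˣ) : ZMod p) := by
    intro h
    have h1 : ((t⁻¹ : (ZMod p)ˣ) : ZMod p) ^ 1 = ((t ^ 2 : (ZMod p)ˣ) : ZMod p) ^ 1 := by
      rw [pow_one, pow_one]; exact h
    have := dvd_of_pow_eq ht h1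
    have := Nat.le_of_dvd (by norm_num) this
    omega
  exact ⟨_, diag_of_upper hv hu hD hab⟩

end Cfsg.Agent.Lib.Helper86.GL2
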