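import Mathlib
import Cfsg.Agent.Lib.Helper86.Coord2
import Cfsg.Agent.Lib.Helper86.GL2Main

set_option autoImplicit false
set_option linter.style.haveILetI false
set_option linter.unusedSectionVars false

/-!
# Automorphisms of an extraspecial group of order `p³` and exponent `p`, in coordinates
-/

namespace Cfsg.Agent.Lib.Helper86.Extra3

open Matrix Cfsg.Agent.Lib.Helper86.Coord2 Cfsg.Agent.Lib.Helper86.Lin2 Cfsg.Agent.Lib.Helper86.GL2
open scoped commutatorElement

variable {Q : Type*} [Group Q] {p : ℕ} [hp : Fact p.Prime]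

/-- the hypotheses on the group -/
structure Hyp (p : ℕ) (Q : Type*) [Group Q] : Prop where
  commEq : commutator Q = Subgroup.center Q
  cardZ : Nat.card (Subgroup.center Q) = p
  card : Nat.card Q = p ^ 3
  exp : ∀ a : Q, a ^ p = 1

section comm

variable (hc : ∀ a b : Q, ⁅a, b⁆ ∈ Subgroup.center Q)
include hc

theorem comm_mul_right' (a b c : Q) : ⁅a, b * c⁆ = ⁅a, b⁆ * ⁅a, c⁆ := by
  have h1 : ⁅a, b * c⁆ = ⁅a, b⁆ * (b * ⁅a, c⁆ * b⁻¹) := by
    simp only [commutatorElement_def]; group
  have h2 : b * ⁅a, c⁆ = ⁅a, c⁆ * b := Subgroup.mem_center_iff.mp (hc a c) b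
  rw [h1, h2, mul_assoc ⁅a, c⁆, mul_inv_cancel, mul_one]

theorem comm_mul_left' (a b c : Q) : ⁅a * b, c⁆ = ⁅a, c⁆ * ⁅b, c⁆ := by
  have h1 : ⁅a * b, c⁆ = a * ⁅b, c⁆ * a⁻¹ * ⁅a, c⁆ := by
    simp only [commutatorElement_def]; group
  have h2 : a * ⁅b, c⁆ = ⁅b, c⁆ * a := Subgroup.mem_center_iff.mp (hc b c) a
  have h3 : ⁅a, c⁆ * ⁅b, c⁆ = ⁅b, c⁆ * ⁅a, c⁆ := Subgroup.mem_center_iff.mp (hc b c) _
  rw [h1, h2, mul_assoc ⁅b, c⁆, mul_inv_cancel, mul_one, h3]

theorem comm_pow_right' (a b : Q) (k : ℕ) : ⁅a, b ^ k⁆ = ⁅a, b⁆ ^ k := by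
  induction k with
  | zero => simp
  | succ k ih => rw [pow_succ, comm_mul_right' hc, ih, pow_succ]

theorem comm_pow_left' (a b : Q) (k : ℕ) : ⁅a ^ k, b⁆ = ⁅a, b⁆ ^ k := by
  induction k with
  | zero => simp
  | succ k ih => rw [pow_succ, comm_mul_left' hc, ih, pow_succ]

end comm

theorem comm_central_right (a : Q) {z : Q} (hz : z ∈ Subgroup.center Q) : ⁅a, z⁆ = 1 := by
  rw [commutatorElement_eq_one_iff_commute]
  exact (Subgroup.mem_center_iff.mp hz a)

theorem comm_central_left (a : Q) {z : Q} (hz : z ∈ Subgroup.center Q) : ⁅z, a⁆ = 1 := by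
  rw [commutatorElement_eq_one_iff_commute]
  exact (Subgroup.mem_center_iff.mp hz a).symm

namespace Hyp

variable (h : Hyp p Q)
include h

theorem comm_mem (a b : Q) : ⁅a, b⁆ ∈ Subgroup.center Q := by
  rw [← h.commEq, commutator_def]
  exact Subgroup.commutator_mem_commutator (Subgroup.mem_top a) (Subgroup.mem_top b)

theorem finite : Finite Q := by
  apply Nat.finite_of_card_ne_zero
  rw [h.card]
  exact pow_ne_zero _ hp.out.ne_zero

theorem card_ab : Nat.card (Abelianization Q) = p ^ 2 := by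
  have h1 := Subgroup.card_eq_card_quotient_mul_card_subgroup (commutator Q)
  have hcc : Nat.card (commutator Q) = p := by rw [h.commEq]; exact h.cardZ
  rw [h.card, hcc] at h1
  have hp0 : 0 < p := hp.out.pos
  have : p ^ 2 * p = Nat.card (Q ⧸ commutator Q) * p := by
    rw [← h1]; ring
  exact (Nat.eq_of_mul_eq_mul_right hp0 this).symm

theorem exp_ab (a : Abelianization Q) : a ^ p = 1 := by
  obtain ⟨x, rfl⟩ := QuotientGroup.mk_surjective a
  show (Abelianization.of x) ^ p = 1
  rw [← map_pow, h.exp, map_one]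

/-- coordinates exist on the abelianization -/
theorem exists_coords : Nonempty (Abelianization Q ≃* Multiplicative (Fin 2 → ZMod p)) := by
  haveI := h.finite
  haveI : Finite (Abelianization Q) := by
    apply Nat.finite_of_card_ne_zero
    rw [h.card_ab]; exact pow_ne_zero _ hp.out.ne_zero
  have hp1 : 1 < p := hp.out.one_lt
  -- a nontrivial element
  have hnt : ∃ z : Abelianization Q, z ≠ 1 := by
    by_contra hcon
    push Not at hcon
    have : Nat.card (Abelianization Q) ≤ 1 := by
      rw [Finite.card_le_one_iff_subsingleton]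
      exact ⟨fun a b => by rw [hcon a, hcon b]⟩
    rw [h.card_ab] at this
    have : p ^ 2 > 1 := Nat.one_lt_pow (by norm_num) hp1
    omega
  obtain ⟨z, hz1⟩ := hnt
  have hzp : z ^ p = 1 := h.exp_ab z
  have hoz : orderOf z = p := orderOf_eq_prime hzp hz1
  have hcz : Nat.card (Subgroup.zpowers z) = p := by rw [Nat.card_zpowers, hoz]
  have hx : ∃ x : Abelianization Q, x ∉ Subgroup.zpowers z := by
    by_contra hcon
    push Not at hcon
    have : Subgroup.zpowers z = ⊤ := by
      rw [eq_top_iff]; intro a _; exact hcon a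
    have h2 : Nat.card (Subgroup.zpowers z) = Nat.card (Abelianization Q) := by
      rw [this, Subgroup.card_top]
    rw [hcz, h.card_ab] at h2
    have : p ^ 2 = p * p := sq p
    have : p * 1 = p * p := by omega
    have := Nat.eq_of_mul_eq_mul_left hp.out.pos this
    omega
  obtain ⟨x, hx⟩ := hx
  obtain ⟨e, -, -⟩ := Coord2.exists_coords h.card_ab z x hzp (h.exp_ab x) (mul_comm z x) hz1 hx
  exact ⟨e⟩

end Hyp

section kappa

variable (e : Abelianization Q ≃* Multiplicative (Fin 2 → ZMod p))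

/-- the coordinates of an element modulo the centre -/
def kap (a : Q) : Fin 2 → ZMod p := co e (Abelianization.of a)

theorem kap_mul (a b : Q) : kap e (a * b) = kap e a + kap e b := by
  unfold kap; rw [map_mul, co_mul]

theorem kap_pow (a : Q) (k : ℕ) : kap e (a ^ k) = (k : ZMod p) • kap e a := by
  unfold kap; rw [map_pow, co_pow]

theorem kap_inv (a : Q) : kap e a⁻¹ = - kap e a := by
  unfold kap; rw [map_inv, co_inv]

theorem kap_surjective (c : Fin 2 → ZMod p) : ∃ a : Q, kap e a = c := by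
  obtain ⟨a, ha⟩ := QuotientGroup.mk_surjective (e.symm (Multiplicative.ofAdd c))
  refine ⟨a, ?_⟩
  unfold kap
  show co e (QuotientGroup.mk a) = c
  rw [ha, co_symm]

theorem kap_eq_zero_iff (h : Hyp p Q) {a : Q} : kap e a = 0 ↔ a ∈ Subgroup.center Q := by
  unfold kap
  rw [co_eq_zero_iff, ← h.commEq]
  exact QuotientGroup.eq_one_iff a

/-- the induced automorphism of the abelianization -/
def congrHom : MulAut Q →* MulAut (Abelianization Q) where
  toFun α := α.abelianizationCongr
  map_one' := by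
    ext a
    obtain ⟨x, rfl⟩ := QuotientGroup.mk_surjective a
    show (MulEquiv.abelianizationCongr (1 : MulAut Q)) (Abelianization.of x) = _
    rw [abelianizationCongr_of]; rfl
  map_mul' α β := by
    ext a
    obtain ⟨x, rfl⟩ := QuotientGroup.mk_surjective a
    show (MulEquiv.abelianizationCongr (α * β)) (Abelianization.of x) =
      (MulEquiv.abelianizationCongr α) ((MulEquiv.abelianizationCongr β) (Abelianization.of x))
    rw [abelianizationCongr_of, abelianizationCongr_of,
      abelianizationCongr_of]; rfl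

theorem congrHom_of (α : MulAut Q) (x : Q) :
    congrHom α (Abelianization.of x) = Abelianization.of (α x) :=
  abelianizationCongr_of α x

/-- the matrix of an automorphism on the quotient by the centre -/
noncomputable def R : MulAut Q →* GL (Fin 2) (ZMod p) := (matHom e).comp congrHom

theorem R_mulVec (α : MulAut Q) (a : Q) :
    ((R e α : GL (Fin 2) (ZMod p)) : Matrix (Fin 2) (Fin 2) (ZMod p)) *ᵥ kap e a = kap e (α a) := by
  unfold R kap
  rw [MonoidHom.comp_apply, matHom_mulVec, congrHom_of]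

/-- inner automorphisms act trivially -/
theorem R_conj (g : Q) : R e (MulAut.conj g) = 1 := by
  have : congrHom (MulAut.conj g) = 1 := by
    ext a
    obtain ⟨x, rfl⟩ := QuotientGroup.mk_surjective a
    show congrHom (MulAut.conj g) (Abelianization.of x) = Abelianization.of x
    rw [congrHom_of, MulAut.conj_apply, map_mul, map_mul, map_inv, mul_comm, inv_mul_cancel_left]
  unfold R
  rw [MonoidHom.comp_apply, this, map_one]

end kappa

section torus

variable (h : Hyp p Q) (e : Abelianization Q ≃* Multiplicative (Fin 2 → ZMod p))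
include h

/-- decomposition along two independent elements -/
theorem exists_decomp {x y : Q} (hD : det2 (kap e x) (kap e y) ≠ 0) (a : Q) :
    ∃ (i j : ZMod p) (z : Q), z ∈ Subgroup.center Q ∧ a = x ^ i.val * y ^ j.val * z ∧
      kap e a = i • kap e x + j • kap e y := by
  set i := det2 (kap e a) (kap e y) / det2 (kap e x) (kap e y) with hi
  set j := det2 (kap e x) (kap e a) / det2 (kap e x) (kap e y) with hj
  have hc : kap e a = i • kap e x + j • kap e y := cramer hD (kap e a)
  refine ⟨i, j, (x ^ i.val * y ^ j.val)⁻¹ * a, ?_, ?_, hc⟩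
  · rw [← kap_eq_zero_iff e h, kap_mul, kap_inv, kap_mul, kap_pow, kap_pow, ZMod.natCast_zmod_val,
      ZMod.natCast_zmod_val, hc]
    abel
  · rw [mul_inv_cancel_left]

theorem comm_ne_one {x y : Q} (hx : x ∉ Subgroup.center Q)
    (hD : det2 (kap e x) (kap e y) ≠ 0) : ⁅x, y⁆ ≠ 1 := by
  intro hxy
  apply hx
  rw [Subgroup.mem_center_iff]
  intro a
  obtain ⟨i, j, z, hz, ha, -⟩ := exists_decomp h e hD a
  have hcomm : Commute x y := commutatorElement_eq_one_iff_commute.mp hxy
  have h1 : Commute x (x ^ i.val) := (Commute.refl x).pow_right _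
  have h2 : Commute x (y ^ j.val) := hcomm.pow_right _
  have h3 : Commute x z := (Subgroup.mem_center_iff.mp hz x)
  have : Commute x a := by
    rw [ha]; exact (h1.mul_right h2).mul_right h3
  exact this.eq.symm

/-- **The torus lemma**: an automorphism acting as `t` on the centre and as `t⁻¹` on `x` modulo
the centre gives a split torus at the point `x`. -/
theorem tor_of_aut (t : (ZMod p)ˣ) (ht : orderOf t = p - 1) (hp5 : 5 ≤ p) (α : MulAut Q) {x : Q}
    (hx : x ∉ Subgroup.center Q)
    (hαz : ∀ z ∈ Subgroup.center Q, α z = z ^ ((t : (ZMod p)ˣ) : ZMod p).val)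
    (hαx : ∃ z₁ ∈ Subgroup.center Q, α x = z₁ * x ^ ((t⁻¹ : (ZMod p)ˣ) : ZMod p).val) :
    Tor t (R e α) (kap e x) := by
  haveI := h.finite
  have hc := h.comm_mem
  set v := kap e x with hv
  have hv0 : v ≠ 0 := by
    intro h0; exact hx ((kap_eq_zero_iff e h).mp h0)
  -- an independent vector
  obtain ⟨u₀, hu₀⟩ : ∃ u₀ : Fin 2 → ZMod p, det2 v u₀ ≠ 0 := by
    by_cases h0 : v 0 = 0
    · have h1 : v 1 ≠ 0 := by
        intro h1; apply hv0; ext i; fin_cases i <;> simp [h0, h1]
      refine ⟨![1, 0], ?_⟩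
      simp [det2, h0, h1]
    · refine ⟨![0, 1], ?_⟩
      simp [det2, h0]
  obtain ⟨y, hy⟩ := kap_surjective e u₀
  have hD : det2 (kap e x) (kap e y) ≠ 0 := by rw [hy]; exact hu₀
  obtain ⟨z₁, hz₁, hαx⟩ := hαx
  set T := ((t : (ZMod p)ˣ) : ZMod p).val with hT
  set T' := ((t⁻¹ : (ZMod p)ˣ) : ZMod p).val with hT'
  -- the action on v
  have e1 : ((R e α : GL (Fin 2) (ZMod p)) : Matrix (Fin 2) (Fin 2) (ZMod p)) *ᵥ v
      = ((t⁻¹ : (ZMod p)ˣ) : ZMod p) • v := by
    rw [hv, R_mulVec, hαx, kap_mul, (kap_eq_zero_iff e h).mpr hz₁, zero_add, kap_pow, hT',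
      ZMod.natCast_zmod_val]
  -- the action on u
  obtain ⟨i, j, z₀, hz₀, hay, hky⟩ := exists_decomp h e hD (α y)
  have e2 : ((R e α : GL (Fin 2) (ZMod p)) : Matrix (Fin 2) (Fin 2) (ZMod p)) *ᵥ kap e y
      = j • kap e y + i • v := by
    rw [R_mulVec, hky, add_comm]
  -- the commutator computation
  set c := ⁅x, y⁆ with hcdef
  have hc1 : c ≠ 1 := comm_ne_one h e hx hD
  have hcZ : c ∈ Subgroup.center Q := hc x y
  have hcp : c ^ p = 1 := h.exp c
  have hoc : orderOf c = p := orderOf_eq_prime hcp hc1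
  have k1 : α c = c ^ T := hαz c hcZ
  have k2 : α c = ⁅α x, α y⁆ := map_commutatorElement α x y
  have k3 : ⁅α x, α y⁆ = c ^ (T' * j.val) := by
    rw [hαx, hay, comm_mul_left' hc, comm_central_left _ hz₁, one_mul, comm_mul_right' hc,
      comm_central_right _ hz₀, mul_one, comm_mul_right' hc]
    have a1 : ⁅x ^ T', x ^ i.val⁆ = 1 := by
      rw [commutatorElement_eq_one_iff_commute]
      exact (Commute.refl x).pow_pow _ _
    rw [a1, one_mul, comm_pow_left' hc, comm_pow_right' hc, ← pow_mul, mul_comm]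
  have k4 : c ^ T = c ^ (T' * j.val) := by rw [← k1, k2, k3]
  have k5 : T ≡ T' * j.val [MOD p] := by
    have := pow_eq_pow_iff_modEq.mp k4
    rw [hoc] at this
    exact this
  have k6 : ((t : (ZMod p)ˣ) : ZMod p) = ((t⁻¹ : (ZMod p)ˣ) : ZMod p) * j := by
    have := (ZMod.natCast_eq_natCast_iff _ _ _).mpr k5
    rw [Nat.cast_mul, hT, hT', ZMod.natCast_zmod_val, ZMod.natCast_zmod_val,
      ZMod.natCast_zmod_val] at this
    exact this
  have k7 : j = ((t ^ 2 : (ZMod p)ˣ) : ZMod p) := by
    have h1 : ((t : (ZMod p)ˣ) : ZMod p) * ((t⁻¹ : (ZMod p)ˣ) : ZMod p) = 1 := by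
      rw [← Units.val_mul, mul_inv_cancel, Units.val_one]
    rw [Units.val_pow_eq_pow_val, sq]
    calc j = (((t : (ZMod p)ˣ) : ZMod p) * ((t⁻¹ : (ZMod p)ˣ) : ZMod p)) * j := by rw [h1, one_mul]
      _ = ((t : (ZMod p)ˣ) : ZMod p) * (((t⁻¹ : (ZMod p)ˣ) : ZMod p) * j) := by ring
      _ = _ := by rw [← k6]
  rw [k7] at e2
  exact tor_of_upper ht hp5 e1 e2 hD

end torus

end Cfsg.Agent.Lib.Helper86.Extra3
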