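import Mathlib
import Cfsg.Agent.Lib.Helper86.Extra3
import Cfsg.Agent.Lib.Helper2.Basic

set_option autoImplicit false
set_option linter.style.haveILetI false
set_option linter.unusedSectionVars false

/-!
# Elementary matrices, induced automorphisms and the Frattini argument
-/

namespace Cfsg.Agent.Lib.Helper86.XF

open Matrix Cfsg.Agent.Lib.Helper86.Coord2 Cfsg.Agent.Lib.Helper86.Lin2 Cfsg.Agent.Lib.Helper86.GL2
  Cfsg.Agent.Lib.Helper86.Extra3

variable {p : ℕ} [hp : Fact p.Prime]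

section matrices

/-- upper elementary matrix -/
noncomputable def E12 (b : ZMod p) : GL (Fin 2) (ZMod p) :=
  GeneralLinearGroup.mkOfDetNeZero !![1, b; 0, 1] (by simp [det_fin_two_of])

/-- lower elementary matrix -/
noncomputable def E21 (c : ZMod p) : GL (Fin 2) (ZMod p) :=
  GeneralLinearGroup.mkOfDetNeZero !![1, 0; c, 1] (by simp [det_fin_two_of])

theorem units_mul_inv (t : (ZMod p)ˣ) :
    ((t : (ZMod p)ˣ) : ZMod p) * ((t⁻¹ : (ZMod p)ˣ) : ZMod p) = 1 := by
  rw [← Units.val_mul, mul_inv_cancel, Units.val_one]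

/-- the torus element -/
noncomputable def torus (t : (ZMod p)ˣ) : GL (Fin 2) (ZMod p) :=
  GeneralLinearGroup.mkOfDetNeZero
    !![((t : (ZMod p)ˣ) : ZMod p), 0; 0, ((t⁻¹ : (ZMod p)ˣ) : ZMod p)]
    (by rw [det_fin_two_of, units_mul_inv]; simp)

theorem E12_val (b : ZMod p) :
    ((E12 b : GL (Fin 2) (ZMod p)) : Matrix (Fin 2) (Fin 2) (ZMod p)) = !![1, b; 0, 1] := rfl

theorem E21_val (c : ZMod p) :
    ((E21 c : GL (Fin 2) (ZMod p)) : Matrix (Fin 2) (Fin 2) (ZMod p)) = !![1, 0; c, 1] := rfl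

theorem torus_val (t : (ZMod p)ˣ) :
    ((torus t : GL (Fin 2) (ZMod p)) : Matrix (Fin 2) (Fin 2) (ZMod p)) =
      !![((t : (ZMod p)ˣ) : ZMod p), 0; 0, ((t⁻¹ : (ZMod p)ˣ) : ZMod p)] := rfl

theorem E12_mul (b b' : ZMod p) : E12 b * E12 b' = E12 (b + b') := by
  apply Units.ext
  rw [Units.val_mul, E12_val, E12_val, E12_val]
  ext i j
  fin_cases i <;> fin_cases j <;> simp [Matrix.mul_apply, Fin.sum_univ_two, add_comm]

theorem E21_mul (c c' : ZMod p) : E21 c * E21 c' = E21 (c + c') := by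
  apply Units.ext
  rw [Units.val_mul, E21_val, E21_val, E21_val]
  ext i j
  fin_cases i <;> fin_cases j <;> simp [Matrix.mul_apply, Fin.sum_univ_two, add_comm]

theorem E12_zero : E12 (0 : ZMod p) = 1 := by
  apply Units.ext
  rw [E12_val, Units.val_one]
  ext i j
  fin_cases i <;> fin_cases j <;> simp

theorem E21_zero : E21 (0 : ZMod p) = 1 := by
  apply Units.ext
  rw [E21_val, Units.val_one]
  ext i j
  fin_cases i <;> fin_cases j <;> simp

theorem E12_pow (b : ZMod p) (k : ℕ) : E12 b ^ k = E12 ((k : ZMod p) * b) := by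
  induction k with
  | zero => simp [E12_zero]
  | succ k ih => rw [pow_succ, ih, E12_mul]; congr 1; push_cast; ring

theorem E21_pow (c : ZMod p) (k : ℕ) : E21 c ^ k = E21 ((k : ZMod p) * c) := by
  induction k with
  | zero => simp [E21_zero]
  | succ k ih => rw [pow_succ, ih, E21_mul]; congr 1; push_cast; ring

theorem E12_ne_one {b : ZMod p} (hb : b ≠ 0) : E12 b ≠ 1 := by
  intro h
  have := congrArg (fun m : GL (Fin 2) (ZMod p) => (m : Matrix (Fin 2) (Fin 2) (ZMod p)) 0 1) h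
  simp [E12_val] at this
  exact hb this

theorem E21_ne_one {c : ZMod p} (hc : c ≠ 0) : E21 c ≠ 1 := by
  intro h
  have := congrArg (fun m : GL (Fin 2) (ZMod p) => (m : Matrix (Fin 2) (Fin 2) (ZMod p)) 1 0) h
  simp [E21_val] at this
  exact hc this

theorem orderOf_E12 {b : ZMod p} (hb : b ≠ 0) : orderOf (E12 b) = p := by
  apply orderOf_eq_prime
  · rw [E12_pow, ZMod.natCast_self, zero_mul, E12_zero]
  · exact E12_ne_one hb

theorem orderOf_E21 {c : ZMod p} (hc : c ≠ 0) : orderOf (E21 c) = p := by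
  apply orderOf_eq_prime
  · rw [E21_pow, ZMod.natCast_self, zero_mul, E21_zero]
  · exact E21_ne_one hc

theorem torus_eq_aux (a a' : ZMod p) (h1 : a * a' = 1) :
    (!![a, 0; 0, a'] : Matrix (Fin 2) (Fin 2) (ZMod p)) =
      !![1, 0; a', 1] * !![1, 1 - a; 0, 1] * !![1, 0; -1, 1] * !![1, 1 - a'; 0, 1] := by
  ext i j
  fin_cases i <;> fin_cases j
  · simp [Matrix.mul_apply, Fin.sum_univ_two]
  · simp [Matrix.mul_apply, Fin.sum_univ_two]
    linear_combination (1 : ZMod p) * h1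
  · simp [Matrix.mul_apply, Fin.sum_univ_two]
    linear_combination (-1 : ZMod p) * h1
  · simp [Matrix.mul_apply, Fin.sum_univ_two]
    linear_combination a' * h1

theorem torus_eq (t : (ZMod p)ˣ) :
    torus t = E21 ((t⁻¹ : (ZMod p)ˣ) : ZMod p) * E12 (1 - ((t : (ZMod p)ˣ) : ZMod p)) *
      E21 (-1) * E12 (1 - ((t⁻¹ : (ZMod p)ˣ) : ZMod p)) := by
  apply Units.ext
  rw [Units.val_mul, Units.val_mul, Units.val_mul, torus_val, E21_val, E12_val, E21_val, E12_val]
  exact torus_eq_aux _ _ (units_mul_inv t)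

theorem torus_mul_E12_aux (a a' b : ZMod p) (h1 : a * a' = 1) :
    (!![a, 0; 0, a'] : Matrix (Fin 2) (Fin 2) (ZMod p)) * !![1, b; 0, 1] =
      !![1, a ^ 2 * b; 0, 1] * !![a, 0; 0, a'] := by
  ext i j
  fin_cases i <;> fin_cases j
  · simp [Matrix.mul_apply, Fin.sum_univ_two]
  · simp [Matrix.mul_apply, Fin.sum_univ_two]
    linear_combination (-a * b) * h1
  · simp [Matrix.mul_apply, Fin.sum_univ_two]
  · simp [Matrix.mul_apply, Fin.sum_univ_two]

theorem torus_mul_E12 (t : (ZMod p)ˣ) (b : ZMod p) :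
    torus t * E12 b = E12 (((t : (ZMod p)ˣ) : ZMod p) ^ 2 * b) * torus t := by
  apply Units.ext
  rw [Units.val_mul, Units.val_mul, torus_val, E12_val, E12_val]
  exact torus_mul_E12_aux _ _ _ (units_mul_inv t)

theorem mulVec_aux0 (a a' b : ZMod p) :
    ((!![1, b; 0, 1] : Matrix (Fin 2) (Fin 2) (ZMod p)) * !![a, 0; 0, a']) *ᵥ ![1, 0]
      = a • ![1, 0] := by
  ext i; fin_cases i <;> simp [Matrix.mulVec, dotProduct, Fin.sum_univ_two, Matrix.mul_apply]

theorem mulVec_aux1 (a a' b : ZMod p) :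
    ((!![1, b; 0, 1] : Matrix (Fin 2) (Fin 2) (ZMod p)) * !![a, 0; 0, a']) *ᵥ ![0, 1]
      = (b * a') • ![1, 0] + a' • ![0, 1] := by
  ext i; fin_cases i <;> simp [Matrix.mulVec, dotProduct, Fin.sum_univ_two, Matrix.mul_apply]

end matrices

section induced

variable {G : Type*} [Group G]

/-- an automorphism of a subgroup is induced by conjugation in `G` -/
def Ind (A : Subgroup G) (α : MulAut ↥A) : Prop :=
  ∃ g : G, ∀ a : ↥A, ((α a : ↥A) : G) = g * a * g⁻¹

theorem Ind.one (A : Subgroup G) : Ind A 1 := ⟨1, fun a => by simp⟩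

theorem Ind.mul {A : Subgroup G} {α β : MulAut ↥A} (hα : Ind A α) (hβ : Ind A β) :
    Ind A (α * β) := by
  obtain ⟨g, hg⟩ := hα
  obtain ⟨g', hg'⟩ := hβ
  refine ⟨g * g', fun a => ?_⟩
  rw [MulAut.mul_apply, hg, hg']
  group

/-- elementary matrices induced imply the torus induced -/
theorem ind_torus {A : Subgroup G} (e : ↥A ≃* Multiplicative (Fin 2 → ZMod p))
    (h12 : ∀ b, Ind A (autHom e (E12 b))) (h21 : ∀ c, Ind A (autHom e (E21 c))) (t : (ZMod p)ˣ) :
    Ind A (autHom e (torus t)) := by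
  rw [torus_eq, map_mul, map_mul, map_mul]
  exact (((h21 _).mul (h12 _)).mul (h21 _)).mul (h12 _)

/-- automorphisms of order `p` induced imply elementary matrices induced -/
theorem ind_of_order {A : Subgroup G} (e : ↥A ≃* Multiplicative (Fin 2 → ZMod p))
    (hSL : ∀ φ : MulAut ↥A, orderOf φ = p → ∃ g : G, ∀ a : ↥A, ((φ a : ↥A) : G) = g * a * g⁻¹) :
    (∀ b, Ind A (autHom e (E12 b))) ∧ (∀ c, Ind A (autHom e (E21 c))) := by
  constructor
  · intro b
    by_cases hb : b = 0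
    · rw [hb, E12_zero, map_one]; exact Ind.one A
    · apply hSL
      rw [orderOf_injective _ (autHom_injective e), orderOf_E12 hb]
  · intro c
    by_cases hc : c = 0
    · rw [hc, E21_zero, map_one]; exact Ind.one A
    · apply hSL
      rw [orderOf_injective _ (autHom_injective e), orderOf_E21 hc]

end induced

section frattini

variable {G : Type*} [Group G] [Finite G]

/-- the subgroup of elements acting on `A` as an upper unitriangular matrix -/
def KK (A : Subgroup G) (e : ↥A ≃* Multiplicative (Fin 2 → ZMod p)) : Subgroup G where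
  carrier := {k | ∃ b : ZMod p, ∀ a : ↥A, k * a * k⁻¹ = ((autHom e (E12 b) a : ↥A) : G)}
  one_mem' := ⟨0, fun a => by rw [E12_zero, map_one]; simp⟩
  mul_mem' := by
    rintro k k' ⟨b, hb⟩ ⟨b', hb'⟩
    refine ⟨b + b', fun a => ?_⟩
    rw [← E12_mul, map_mul, MulAut.mul_apply, ← hb, ← hb']
    group
  inv_mem' := by
    rintro k ⟨b, hb⟩
    refine ⟨-b, fun a => ?_⟩
    have h1 : autHom e (E12 b) (autHom e (E12 (-b)) a) = a := by
      rw [← MulAut.mul_apply, ← map_mul, E12_mul, add_neg_cancel, E12_zero, map_one]; rfl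
    have h2 := hb (autHom e (E12 (-b)) a)
    rw [h1] at h2
    rw [← h2]
    group

theorem mem_KK {A : Subgroup G} {e : ↥A ≃* Multiplicative (Fin 2 → ZMod p)} {k : G} :
    k ∈ KK A e ↔ ∃ b : ZMod p, ∀ a : ↥A, k * a * k⁻¹ = ((autHom e (E12 b) a : ↥A) : G) := Iff.rfl

/-- **Frattini argument**: the torus is induced by an element of the normalizer of `P`, up to an
upper unitriangular factor. -/
theorem exists_normalizer_torus (P : Sylow p G) (A : Subgroup G)
    (e : ↥A ≃* Multiplicative (Fin 2 → ZMod p))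
    (hPA : (P : Subgroup G) ≤ KK A e) (t : (ZMod p)ˣ) (hInd : Ind A (autHom e (torus t))) :
    ∃ n ∈ Subgroup.normalizer ((P : Subgroup G) : Set G), ∃ b : ZMod p,
      ∀ a : ↥A, n * a * n⁻¹ = ((autHom e (E12 b * torus t) a : ↥A) : G) := by
  obtain ⟨g, hg⟩ := hInd
  set h := autHom e (torus t) with hh
  -- conjugation by g⁻¹
  have hg' : ∀ a : ↥A, g⁻¹ * a * g = ((h⁻¹ a : ↥A) : G) := by
    intro a
    have := hg (h⁻¹ a)
    rw [← MulAut.mul_apply, mul_inv_cancel] at this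
    have h2 : ((a : ↥A) : G) = g * (h⁻¹ a : ↥A) * g⁻¹ := this
    rw [h2]; group
  have hgP : ((g • P : Sylow p G) : Subgroup G) ≤ KK A e := by
    intro x hx
    rw [Sylow.smul_def, Sylow.pointwise_smul_def, Subgroup.mem_pointwise_smul_iff_inv_smul_mem,
      MulAut.smul_def, ← map_inv, MulAut.conj_apply, inv_inv] at hx
    obtain ⟨b, hb⟩ := hPA hx
    refine ⟨((t : (ZMod p)ˣ) : ZMod p) ^ 2 * b, fun a => ?_⟩
    have e1 : x * a * x⁻¹ = g * ((g⁻¹ * x * g) * (g⁻¹ * a * g) * (g⁻¹ * x * g)⁻¹) * g⁻¹ := by group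
    rw [e1, hg', hb, ← hg, ← MulAut.mul_apply, ← MulAut.mul_apply, hh, ← map_inv, ← map_mul,
      ← map_mul, torus_mul_E12, mul_assoc, mul_inv_cancel, mul_one]
  obtain ⟨k, hk, hkP⟩ := Cfsg.Agent.Lib.Helper2.sylow_conj_in_subgroup P (g • P) (KK A e) hPA hgP
  refine ⟨k * g, ?_, ?_⟩
  · exact Sylow.smul_eq_iff_mem_normalizer.mp (by rw [mul_smul, hkP])
  · obtain ⟨b, hb⟩ := hk
    refine ⟨b, fun a => ?_⟩
    have e1 : k * g * a * (k * g)⁻¹ = k * (g * a * g⁻¹) * k⁻¹ := by group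
    rw [e1, ← hg, hb, ← MulAut.mul_apply, hh, ← map_mul]

end frattini

end Cfsg.Agent.Lib.Helper86.XF
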