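import Mathlib
import Cfsg.Prelude.Def_Transfer
import Cfsg.Agent.Lib.Helper86.ExtraFusion

set_option autoImplicit false
set_option linter.style.haveILetI false
set_option linter.unusedSectionVars false

/-!
# Split tori in the normalizer of an extraspecial Sylow subgroup of order `p³`
-/

namespace Cfsg.Agent.Lib.Helper86.XF

open Matrix Cfsg.Agent.Lib.Helper86.Coord2 Cfsg.Agent.Lib.Helper86.Lin2 Cfsg.Agent.Lib.Helper86.GL2
  Cfsg.Agent.Lib.Helper86.Extra3
open scoped commutatorElement

variable {p : ℕ} [hp : Fact p.Prime] {G : Type*} [Group G]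

theorem hyp_of_extraspecial {Q : Type*} [Group Q] (hE : Cfsg.IsExtraspecial p Q)
    (hcard : Nat.card Q = p ^ 3) (hexp : Monoid.exponent Q = p) : Hyp p Q where
  commEq := hE.1.2.2
  cardZ := hE.2
  card := hcard
  exp a := by rw [← hexp]; exact Monoid.pow_exponent_eq_one a

section

variable (P : Subgroup G) (hH : Hyp p ↥P)
include hH

/-- a subgroup of order `p²` contains the centre -/
theorem center_le (hfr : frattini ↥P = Subgroup.center ↥P) {A : Subgroup G} (hAP : A ≤ P)
    (hA : Nat.card A = p ^ 2) {z : ↥P} (hz : z ∈ Subgroup.center ↥P) : (z : G) ∈ A := by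
  haveI := hH.finite
  set A' : Subgroup ↥P := A.subgroupOf P with hA'
  have hcA' : Nat.card A' = p ^ 2 := by
    rw [hA', Nat.card_congr (Subgroup.subgroupOfEquivOfLe hAP).toEquiv, hA]
  have hco : IsCoatom A' := by
    constructor
    · intro htop
      have : Nat.card A' = Nat.card ↥P := by rw [htop, Subgroup.card_top]
      rw [hcA', hH.card] at this
      have h1 : 1 < p := hp.out.one_lt
      have := Nat.pow_right_injective h1 this
      omega
    · intro B hB
      have h1 : Nat.card A' ∣ Nat.card B := Subgroup.card_dvd_of_le hB.le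
      have h2 : Nat.card B ∣ p ^ 3 := by rw [← hH.card]; exact Subgroup.card_subgroup_dvd_card B
      obtain ⟨k, hk, hBk⟩ := (Nat.dvd_prime_pow hp.out).mp h2
      rw [hcA', hBk] at h1
      have h3 : 2 ≤ k := (Nat.pow_dvd_pow_iff_le_right hp.out.one_lt).mp h1
      have h4 : k ≠ 2 := by
        intro h4
        have : B ≤ A' := by
          have hle : Nat.card B ≤ Nat.card A' := by rw [hBk, hcA', h4]
          exact (Subgroup.eq_of_le_of_card_ge hB.le hle).ge
        exact absurd (lt_of_lt_of_le hB this) (lt_irrefl _)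
      have h5 : k = 3 := by omega
      rw [h5] at hBk
      exact Subgroup.eq_top_of_card_eq B (by rw [hBk, hH.card])
  have := frattini_le_coatom hco
  rw [hfr] at this
  exact Subgroup.mem_subgroupOf.mp (this hz)

/-- the centre is generated by any of its nontrivial elements -/
theorem center_pow {z : ↥P} (hz : z ∈ Subgroup.center ↥P) (hz1 : z ≠ 1) {z' : ↥P}
    (hz' : z' ∈ Subgroup.center ↥P) : ∃ k : ℕ, z' = z ^ k := by
  haveI := hH.finite
  have hzp : z ^ p = 1 := hH.exp z
  have hoz : orderOf z = p := orderOf_eq_prime hzp hz1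
  have hle : Subgroup.zpowers z ≤ Subgroup.center ↥P := (Subgroup.zpowers_le).mpr hz
  have heq : Subgroup.zpowers z = Subgroup.center ↥P := by
    apply Subgroup.eq_of_le_of_card_ge hle
    rw [Nat.card_zpowers, hoz, hH.cardZ]
  have hmem : z' ∈ Subgroup.zpowers z := by rw [heq]; exact hz'
  rw [← mem_powers_iff_mem_zpowers, Submonoid.mem_powers_iff] at hmem
  obtain ⟨k, hk⟩ := hmem
  exact ⟨k, hk.symm⟩

end

section main

variable [Finite G] (P : Sylow p G) (hH : Hyp p ↥(P : Subgroup G))
include hH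

/-- **Split torus at a point.** -/
theorem tor_of_A (eV : Abelianization ↥(P : Subgroup G) ≃* Multiplicative (Fin 2 → ZMod p))
    (t : (ZMod p)ˣ) (ht : orderOf t = p - 1) (hp5 : 5 ≤ p)
    (A : Subgroup G) (hAP : A ≤ (P : Subgroup G)) (z x : G) (hzA : z ∈ A) (hxA : x ∈ A)
    (hzZ : (⟨z, hAP hzA⟩ : ↥(P : Subgroup G)) ∈ Subgroup.center ↥(P : Subgroup G))
    (hxZ : (⟨x, hAP hxA⟩ : ↥(P : Subgroup G)) ∉ Subgroup.center ↥(P : Subgroup G))
    (hZA : ∀ z' : ↥(P : Subgroup G), z' ∈ Subgroup.center ↥(P : Subgroup G) → (z' : G) ∈ A)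
    (e : ↥A ≃* Multiplicative (Fin 2 → ZMod p)) (hez : co e ⟨z, hzA⟩ = ![1, 0])
    (hex : co e ⟨x, hxA⟩ = ![0, 1])
    (h12 : ∀ b, Ind A (autHom e (E12 b))) (h21 : ∀ c, Ind A (autHom e (E21 c))) :
    ∃ n : ↥(Subgroup.normalizer ((P : Subgroup G) : Set G)),
      Tor t (R eV ((P : Subgroup G).normalizerMonoidHom n)) (kap eV ⟨x, hAP hxA⟩) := by
  set zA : ↥A := ⟨z, hzA⟩ with hzAdef
  set xA : ↥A := ⟨x, hxA⟩ with hxAdef
  set zP : ↥(P : Subgroup G) := ⟨z, hAP hzA⟩ with hzPdef
  set xP : ↥(P : Subgroup G) := ⟨x, hAP hxA⟩ with hxPdef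
  have hzA1 : zA ≠ 1 := by
    intro h1
    have := (co_eq_zero_iff e).mpr h1
    rw [hez] at this
    have := congrFun this 0
    simp at this
  have hzP1 : zP ≠ 1 := by
    intro h1
    apply hzA1
    have : z = 1 := congrArg Subtype.val h1
    exact Subtype.ext this
  -- P acts on A by upper unitriangular matrices
  have hnorm : ∀ y ∈ (P : Subgroup G), ∀ a ∈ A, y * a * y⁻¹ ∈ A := by
    intro y hy a ha
    have h1 : (⁅(⟨y, hy⟩ : ↥(P : Subgroup G)), ⟨a, hAP ha⟩⁆ : ↥(P : Subgroup G)) ∈
        Subgroup.center ↥(P : Subgroup G) := hH.comm_mem _ _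
    have h2 := hZA _ h1
    have h3 : y * a * y⁻¹ = ((⁅(⟨y, hy⟩ : ↥(P : Subgroup G)), ⟨a, hAP ha⟩⁆ :
        ↥(P : Subgroup G)) : G) * a := by
      simp only [commutatorElement_def, Subgroup.coe_mul, Subgroup.coe_inv]
      group
    rw [h3]
    exact A.mul_mem h2 ha
  have hPA : (P : Subgroup G) ≤ KK A e := by
    intro y hy
    have hyn : y ∈ Subgroup.normalizer (A : Set G) := by
      rw [Subgroup.mem_normalizer_iff]
      intro a
      constructor
      · exact hnorm y hy a
      · intro ha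
        have := hnorm y⁻¹ ((P : Subgroup G).inv_mem hy) _ ha
        have e1 : y⁻¹ * (y * a * y⁻¹) * y⁻¹⁻¹ = a := by group
        rwa [e1] at this
    set α : MulAut ↥A := A.normalizerMonoidHom ⟨y, hyn⟩ with hα
    have hαv : ∀ a : ↥A, ((α a : ↥A) : G) = y * a * y⁻¹ := fun a => rfl
    -- the commutator with x
    have hcx : (⁅(⟨y, hy⟩ : ↥(P : Subgroup G)), xP⁆ : ↥(P : Subgroup G)) ∈
        Subgroup.center ↥(P : Subgroup G) := hH.comm_mem _ _
    obtain ⟨k, hk⟩ := center_pow (P : Subgroup G) hH hzZ hzP1 hcx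
    have h0 : α zA = zA := by
      apply Subtype.ext
      rw [hαv]
      have := Subgroup.mem_center_iff.mp hzZ ⟨y, hy⟩
      have h2 : y * z = z * y := congrArg Subtype.val this
      show y * z * y⁻¹ = z
      rw [h2]; group
    have h1 : α xA = zA ^ k * xA := by
      apply Subtype.ext
      rw [hαv]
      have h2 : y * x * y⁻¹ * x⁻¹ = z ^ k := by
        have := congrArg Subtype.val hk
        simpa [commutatorElement_def] using this
      show y * x * y⁻¹ = z ^ k * x
      rw [← h2]; group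
    refine ⟨(k : ZMod p), fun a => ?_⟩
    rw [← hαv]
    congr 1
    have : α = autHom e (E12 (k : ZMod p)) := by
      apply eq_autHom_of_basis e hez hex
      · rw [h0, hez, E12_val]
        ext i; fin_cases i <;> simp [Matrix.mulVec, dotProduct, Fin.sum_univ_two]
      · rw [h1, co_mul, co_pow, hez, hex, E12_val]
        ext i; fin_cases i <;> simp [Matrix.mulVec, dotProduct, Fin.sum_univ_two]
    rw [this]
  -- the torus
  have hInd := ind_torus e h12 h21 t
  obtain ⟨n, hn, b, hact⟩ := exists_normalizer_torus P A e hPA t hInd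
  refine ⟨⟨n, hn⟩, ?_⟩
  set α := (P : Subgroup G).normalizerMonoidHom ⟨n, hn⟩ with hα
  have hαv : ∀ q : ↥(P : Subgroup G), ((α q : ↥(P : Subgroup G)) : G) = n * q * n⁻¹ := fun q => rfl
  set T := ((t : (ZMod p)ˣ) : ZMod p).val with hT
  set T' := ((t⁻¹ : (ZMod p)ˣ) : ZMod p).val with hT'
  set S := (b * ((t⁻¹ : (ZMod p)ˣ) : ZMod p)).val with hS
  have hm0 : autHom e (E12 b * torus t) zA = zA ^ T := by
    apply co_injective e
    rw [co_autHom, co_pow, hez, Units.val_mul, E12_val, torus_val, hT, ZMod.natCast_zmod_val]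
    exact mulVec_aux0 _ _ _
  have hm1 : autHom e (E12 b * torus t) xA = zA ^ S * xA ^ T' := by
    apply co_injective e
    rw [co_autHom, co_mul, co_pow, co_pow, hez, hex, Units.val_mul, E12_val, torus_val, hS, hT',
      ZMod.natCast_zmod_val, ZMod.natCast_zmod_val]
    exact mulVec_aux1 _ _ _
  have hαz0 : α zP = zP ^ T := by
    apply Subtype.ext
    rw [hαv]
    have := hact zA
    rw [hm0] at this
    simpa using this
  have hαz : ∀ z' ∈ Subgroup.center ↥(P : Subgroup G), α z' = z' ^ T := by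
    intro z' hz'
    obtain ⟨k, rfl⟩ := center_pow (P : Subgroup G) hH hzZ hzP1 hz'
    rw [map_pow, hαz0, ← pow_mul, ← pow_mul, mul_comm]
  have hαx : ∃ z₁ ∈ Subgroup.center ↥(P : Subgroup G), α xP = z₁ * xP ^ T' := by
    refine ⟨zP ^ S, (Subgroup.center _).pow_mem hzZ _, ?_⟩
    apply Subtype.ext
    rw [hαv]
    have := hact xA
    rw [hm1] at this
    simpa using this
  exact tor_of_aut hH eV t ht hp5 α hxZ hαz hαx

/-- the representation of the normalizer on the quotient by the centre -/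
noncomputable def rho (eV : Abelianization ↥(P : Subgroup G) ≃* Multiplicative (Fin 2 → ZMod p)) :
    ↥(Subgroup.normalizer ((P : Subgroup G) : Set G)) →* GL (Fin 2) (ZMod p) :=
  (R eV).comp (P : Subgroup G).normalizerMonoidHom

omit hH in
theorem card_range_coprime
    (eV : Abelianization ↥(P : Subgroup G) ≃* Multiplicative (Fin 2 → ZMod p)) :
    (Nat.card (rho P eV).range).Coprime p := by
  set N := Subgroup.normalizer ((P : Subgroup G) : Set G) with hN
  have hle : (P : Subgroup G).subgroupOf N ≤ (rho P eV).ker := by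
    intro g hg
    rw [Subgroup.mem_subgroupOf] at hg
    rw [MonoidHom.mem_ker]
    have : (P : Subgroup G).normalizerMonoidHom g = MulAut.conj ⟨(g : G), hg⟩ := by
      ext q
      rfl
    unfold rho
    rw [MonoidHom.comp_apply, this, R_conj]
  have h1 : (rho P eV).ker.index ∣ ((P : Subgroup G).subgroupOf N).index :=
    Subgroup.index_dvd_of_le hle
  have h2 : ((P : Subgroup G).subgroupOf N).index ∣ (P : Subgroup G).index := by
    have := Subgroup.relIndex_mul_index (Subgroup.le_normalizer : (P : Subgroup G) ≤ N)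
    exact Dvd.intro _ this
  have h3 : ¬ p ∣ (P : Subgroup G).index := P.not_dvd_index
  rw [← Subgroup.index_ker]
  have h4 : ¬ p ∣ (rho P eV).ker.index := fun h => h3 (dvd_trans h (dvd_trans h1 h2))
  exact ((Nat.Prime.coprime_iff_not_dvd hp.out).mpr h4).symm

/-- distinct subgroups of order `p²` give independent points -/
theorem det2_ne_zero_of_ne
    (eV : Abelianization ↥(P : Subgroup G) ≃* Multiplicative (Fin 2 → ZMod p))
    {A B : Subgroup G} (hA : A ≤ (P : Subgroup G)) (hAc : Nat.card A = p ^ 2)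
    (hBc : Nat.card B = p ^ 2)
    (hZB : ∀ z' : ↥(P : Subgroup G), z' ∈ Subgroup.center ↥(P : Subgroup G) → (z' : G) ∈ B)
    {x y : ↥(P : Subgroup G)} (hxA : (x : G) ∈ A) (hyB : (y : G) ∈ B)
    (hx : x ∉ Subgroup.center ↥(P : Subgroup G)) (hy : y ∉ Subgroup.center ↥(P : Subgroup G))
    (hne : A ≠ B) : det2 (kap eV x) (kap eV y) ≠ 0 := by
  intro h0
  apply hne
  have hky : kap eV y ≠ 0 := fun h => hy ((kap_eq_zero_iff eV hH).mp h)
  have hkx : kap eV x ≠ 0 := fun h => hx ((kap_eq_zero_iff eV hH).mp h)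
  obtain ⟨c, hc⟩ := exists_smul_of_det2_eq_zero hky h0
  have hAB : A ≤ B := by
    intro a ha
    set aP : ↥(P : Subgroup G) := ⟨a, hA ha⟩ with haP
    -- a commutes with x
    have hcomm : ⁅x, aP⁆ = 1 := by
      haveI := IsPGroup.isMulCommutative_of_card_eq_prime_sq hAc
      have h1 : (⟨(x : G), hxA⟩ : ↥A) * ⟨a, ha⟩ = ⟨a, ha⟩ * ⟨(x : G), hxA⟩ := mul_comm' _ _
      have h2 : (x : G) * a = a * x := congrArg Subtype.val h1
      rw [commutatorElement_eq_one_iff_commute]
      exact Subtype.ext h2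
    have hd : det2 (kap eV x) (kap eV aP) = 0 := by
      by_contra hd
      exact comm_ne_one hH eV hx hd hcomm
    have hd' : det2 (kap eV aP) (kap eV x) = 0 := by
      have : det2 (kap eV aP) (kap eV x) = - det2 (kap eV x) (kap eV aP) := by unfold det2; ring
      rw [this, hd, neg_zero]
    obtain ⟨c', hc'⟩ := exists_smul_of_det2_eq_zero hkx hd'
    have hka : kap eV aP = (c' * c) • kap eV y := by rw [hc', hc, smul_smul]
    have hz : aP * (y ^ (c' * c).val)⁻¹ ∈ Subgroup.center ↥(P : Subgroup G) := by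
      rw [← kap_eq_zero_iff eV hH, kap_mul, kap_inv, kap_pow, ZMod.natCast_zmod_val, hka,
        add_neg_cancel]
    have h1 := hZB _ hz
    have h2 : a = ((aP * (y ^ (c' * c).val)⁻¹ : ↥(P : Subgroup G)) : G) * (y : G) ^ (c' * c).val := by
      simp [haP]
    rw [h2]
    exact B.mul_mem h1 (B.pow_mem hyB _)
  haveI : Finite ↥B := by
    apply Nat.finite_of_card_ne_zero
    rw [hBc]; exact pow_ne_zero _ hp.out.ne_zero
  exact Subgroup.eq_of_le_of_card_ge hAB (by rw [hAc, hBc])

end main

end Cfsg.Agent.Lib.Helper86.XF
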