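import Mathlib
import Cfsg.Agent.Lib.Helper86.GL2Main

set_option autoImplicit false
set_option linter.style.haveILetI false
set_option linter.unusedSectionVars false

/-!
# Split tori at all points of the projective line force `p ≤ 7`
-/

namespace Cfsg.Agent.Lib.Helper86.GL2

open Matrix Cfsg.Agent.Lib.Helper14.Dk Cfsg.Agent.Lib.Helper86.Lin2
open scoped Pointwise

/-- seven pairwise independent vectors over the field with `13` elements -/
def V7 : Fin 7 → (Fin 2 → ZMod 13) :=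
  ![![1, 0], ![0, 1], ![1, 1], ![1, 2], ![1, 3], ![1, 4], ![1, 5]]

theorem V7_det_aux : ∀ i j : Fin 7, i ≠ j → (V7 i) 0 * (V7 j) 1 - (V7 i) 1 * (V7 j) 0 ≠ 0 := by
  unfold V7
  decide

theorem V7_ne : ∀ i : Fin 7, V7 i ≠ 0 := by
  unfold V7
  decide

theorem arith13 {p : ℕ} (hpr : p.Prime) (h7 : 7 < p) {g : ℕ}
    (hg : g = 2 ∨ g = 3 ∨ g = 4 ∨ g = 5) (hdvd : p - 1 ∣ 3 * g) : p = 13 ∧ g = 4 := by
  rcases hg with rfl | rfl | rfl | rfl
  · have := Nat.le_of_dvd (by norm_num) hdvd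
    omega
  · have := Nat.le_of_dvd (by norm_num) hdvd
    have hp10 : p ≤ 10 := by omega
    interval_cases p
    · exact absurd hpr (by norm_num)
    · exact absurd hpr (by norm_num)
    · exact absurd hpr (by norm_num)
  · have := Nat.le_of_dvd (by norm_num) hdvd
    have hp13 : p ≤ 13 := by omega
    interval_cases p
    · exact absurd hpr (by norm_num)
    · exact absurd hpr (by norm_num)
    · exact absurd hpr (by norm_num)
    · exact absurd hdvd (by norm_num)
    · exact absurd hpr (by norm_num)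
    · exact ⟨rfl, rfl⟩
  · have := Nat.le_of_dvd (by norm_num) hdvd
    have hp16 : p ≤ 16 := by omega
    interval_cases p
    · exact absurd hpr (by norm_num)
    · exact absurd hpr (by norm_num)
    · exact absurd hpr (by norm_num)
    · exact absurd hdvd (by norm_num)
    · exact absurd hpr (by norm_num)
    · exact absurd hdvd (by norm_num)
    · exact absurd hpr (by norm_num)
    · exact absurd hpr (by norm_num)
    · exact absurd hpr (by norm_num)

theorem V7_det [Fact (Nat.Prime 13)] (i j : Fin 7) (h : i ≠ j) : det2 (V7 i) (V7 j) ≠ 0 :=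
  V7_det_aux i j h

variable {p : ℕ} [hp : Fact p.Prime] {F : Type*} [Field F] [Fintype F] [Algebra (ZMod p) F]
  [CharP F p]

local notation "SL2" => Matrix.SpecialLinearGroup (Fin 2) F
local notation "M2" => Matrix (Fin 2) (Fin 2) (ZMod p)

theorem ab_pow_ne {t : (ZMod p)ˣ} (ht : orderOf t = p - 1) {k : ℕ} (hk : 0 < k)
    (hlt : 3 * k < p - 1) :
    ((t⁻¹ : (ZMod p)ˣ) : ZMod p) ^ k ≠ ((t ^ 2 : (ZMod p)ˣ) : ZMod p) ^ k := by
  intro he
  have := dvd_of_pow_eq ht he
  have := Nat.le_of_dvd (by omega) this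
  omega

section

variable (hsq : ∀ a : ZMod p, ∃ l : F, l ^ 2 = algebraMap (ZMod p) F a)
  (W : Subgroup (GL (Fin 2) (ZMod p))) (hW : (Nat.card W).Coprime p)
  (t : (ZMod p)ˣ) (ht : orderOf t = p - 1)
include hsq ht

/-- lift of a torus point -/
theorem exists_lift_tor (h7 : 7 < p) {w : GL (Fin 2) (ZMod p)} (hw : w ∈ W) {v : Fin 2 → ZMod p}
    (hT : Tor t w v) :
    ∃ z : ↥(liftGroup F W), Lift (z : SL2) (w : M2) ∧ z ∉ ZZ (tau (F := F) W) := by
  obtain ⟨u, d⟩ := hT
  obtain ⟨y, l⟩ := exists_lift hsq w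
  refine ⟨⟨y, ⟨w, hw, l⟩⟩, l, ?_⟩
  have hab : ((t⁻¹ : (ZMod p)ˣ) : ZMod p) ≠ ((t ^ 2 : (ZMod p)ˣ) : ZMod p) := by
    have := ab_pow_ne ht (k := 1) (by omega) (by omega)
    rwa [pow_one, pow_one] at this
  rw [mem_ZZ_iff W (y := ⟨y, ⟨w, hw, l⟩⟩) l]
  rintro ⟨c, hc⟩
  exact d.not_scalar hab c hc

include hW

/-- three tori at independent points: only the small cases remain -/
theorem small_cases (h7 : 7 < p)
    {w₁ w₂ w₃ : GL (Fin 2) (ZMod p)} (hw₁ : w₁ ∈ W) (hw₂ : w₂ ∈ W) (hw₃ : w₃ ∈ W)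
    {v₁ v₂ v₃ : Fin 2 → ZMod p} (h₁ : Tor t w₁ v₁) (h₂ : Tor t w₂ v₂) (h₃ : Tor t w₃ v₃)
    (h12 : det2 v₁ v₂ ≠ 0) (h32 : det2 v₃ v₂ ≠ 0) (h13 : det2 v₁ v₃ ≠ 0) :
    IsA4 (ZZ (tau (F := F) W)) (UU (tau (F := F) W)) ∨
      IsS4 (ZZ (tau (F := F) W)) (UU (tau (F := F) W)) ∨
      IsA5 (ZZ (tau (F := F) W)) (UU (tau (F := F) W)) := by
  haveI : Finite W := inferInstance
  obtain ⟨z₁, l₁, hz₁Z⟩ := exists_lift_tor hsq W t ht h7 hw₁ h₁
  obtain ⟨z₂, l₂, -⟩ := exists_lift_tor hsq W t ht h7 hw₂ h₂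
  obtain ⟨z₃, l₃, -⟩ := exists_lift_tor hsq W t ht h7 hw₃ h₃
  obtain ⟨u₁, d₁⟩ := h₁
  obtain ⟨u₂, d₂⟩ := h₂
  obtain ⟨u₃, d₃⟩ := h₃
  have hd := data (F := F) W
  have hno := noUni (F := F) W hW
  have hab1 : ((t⁻¹ : (ZMod p)ˣ) : ZMod p) ≠ ((t ^ 2 : (ZMod p)ˣ) : ZMod p) := by
    have := ab_pow_ne ht (k := 1) (by omega) (by omega)
    rwa [pow_one, pow_one] at this
  rcases hd.main_noU hno with htop | hcyc | hdih | hsmall
  · exfalso; apply hz₁Z; rw [htop]; trivial
  · exfalso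
    obtain ⟨x, hx, -, hM⟩ := hcyc
    have c12 : z₁ * z₂ = z₂ * z₁ := hd.toCT.comm_of_mem hx (by rw [hM]; trivial) (by rw [hM]; trivial)
    have c32 : z₃ * z₂ = z₂ * z₃ := hd.toCT.comm_of_mem hx (by rw [hM]; trivial) (by rw [hM]; trivial)
    have e12 := commute_of_lift W l₁ l₂ c12
    have e32 := commute_of_lift W l₃ l₂ c32
    exact three_commute d₁ d₂ d₃ hab1 e12 e32 h12 h32 h13
  · exfalso
    obtain ⟨x, hx, -, hn, he⟩ := hdih
    have hnorm : Subgroup.normalizer (M x : Set ↥(liftGroup F W)) = ⊤ := Subgroup.index_eq_one.mp hn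
    have hidx : (M x).index = 2 := by
      have : (M x).relIndex (Subgroup.normalizer (M x : Set ↥(liftGroup F W))) = 2 := he
      rw [hnorm, Subgroup.relIndex_top_right] at this
      exact this
    have s₁ := Subgroup.sq_mem_of_index_two hidx z₁
    have s₂ := Subgroup.sq_mem_of_index_two hidx z₂
    have s₃ := Subgroup.sq_mem_of_index_two hidx z₃
    have c12 : z₁ ^ 2 * z₂ ^ 2 = z₂ ^ 2 * z₁ ^ 2 := hd.toCT.comm_of_mem hx s₁ s₂
    have c32 : z₃ ^ 2 * z₂ ^ 2 = z₂ ^ 2 * z₃ ^ 2 := hd.toCT.comm_of_mem hx s₃ s₂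
    have q₁ : Lift ((z₁ ^ 2 : ↥(liftGroup F W)) : SL2) ((w₁ : M2) ^ 2) := by
      simpa using l₁.pow 2
    have q₂ : Lift ((z₂ ^ 2 : ↥(liftGroup F W)) : SL2) ((w₂ : M2) ^ 2) := by
      simpa using l₂.pow 2
    have q₃ : Lift ((z₃ ^ 2 : ↥(liftGroup F W)) : SL2) ((w₃ : M2) ^ 2) := by
      simpa using l₃.pow 2
    have e12 := commute_of_lift W q₁ q₂ c12
    have e32 := commute_of_lift W q₃ q₂ c32
    have hab2 := ab_pow_ne ht (k := 2) (by omega) (by omega)
    exact three_commute (d₁.pow 2) (d₂.pow 2) (d₃.pow 2) hab2 e12 e32 h12 h32 h13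
  · exact hsmall

/-- a torus point in a group all of whose tori are listed -/
theorem tor_invariants {ts : List (ℕ × ℕ)}
    (hT : TorIn (ZZ (tau (F := F) W)) (UU (tau (F := F) W)) ts)
    {w : GL (Fin 2) (ZMod p)} {v : Fin 2 → ZMod p} (hTor : Tor t w v)
    {z : ↥(liftGroup F W)} (l : Lift (z : SL2) (w : M2)) (hzZ : z ∉ ZZ (tau (F := F) W)) :
    ∃ tt ∈ ts, ee z = tt.1 ∧ aa z = Nat.card (ZZ (tau (F := F) W)) * tt.2 ∧ p - 1 ∣ 3 * tt.2 := by
  haveI : Finite W := inferInstance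
  have hno := noUni (F := F) W hW
  obtain ⟨tt, htt, he, ha, hpow⟩ := pow_mem_of_torIn W hT hno hzZ
  refine ⟨tt, htt, he, ha, ?_⟩
  obtain ⟨u, d⟩ := hTor
  have q : Lift ((z ^ tt.2 : ↥(liftGroup F W)) : SL2) ((w : M2) ^ tt.2) := by
    simpa using l.pow tt.2
  rw [mem_ZZ_iff W q] at hpow
  obtain ⟨c, hc⟩ := hpow
  have := (d.pow tt.2).eq_of_scalar hc
  exact dvd_of_pow_eq ht this

/-- the symmetric-group case is impossible for `p = 13` with tori at seven independent points -/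
theorem s4_contra (hp13 : p = 13)
    (hS4 : IsS4 (ZZ (tau (F := F) W)) (UU (tau (F := F) W)))
    (w : Fin 7 → GL (Fin 2) (ZMod p)) (hw : ∀ i, w i ∈ W) (v : Fin 7 → (Fin 2 → ZMod p))
    (hTor : ∀ i, Tor t (w i) (v i)) (hdet : ∀ i j, i ≠ j → det2 (v i) (v j) ≠ 0) : False := by
  classical
  haveI : Finite W := inferInstance
  have hd := data (F := F) W
  have hno := noUni (F := F) W hW
  have h7 : 7 < p := by omega
  obtain ⟨hcard, -, -, hT3, -, hT⟩ := hS4
  set Z := ZZ (tau (F := F) W) with hZdef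
  have hZpos : 0 < Nat.card Z := Nat.card_pos
  choose z l hzZ using fun i => exists_lift_tor hsq W t ht h7 (hw i) (hTor i)
  have hinv : ∀ i, ee (z i) = 2 ∧ aa (z i) = Nat.card Z * 4 := by
    intro i
    obtain ⟨tt, htt, he, ha, hdvd⟩ := tor_invariants hsq W hW t ht hT (hTor i) (l i) (hzZ i)
    have h12 : p - 1 = 12 := by omega
    rw [h12] at hdvd
    simp only [List.mem_cons, List.mem_nil_iff, or_false] at htt
    rcases htt with rfl | rfl | rfl
    · exact absurd hdvd (by norm_num)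
    · exact absurd hdvd (by norm_num)
    · exact ⟨he, ha⟩
  have hnn : ∀ i, nn (z i) = 3 := by
    intro i
    have h1 := nn_mul_ee_mul_aa (z i)
    rw [(hinv i).1, (hinv i).2, hcard] at h1
    have : nn (z i) * (Nat.card Z * 8) = 3 * (Nat.card Z * 8) := by
      rw [← mul_assoc 3] at *
      nlinarith [h1]
    exact Nat.eq_of_mul_eq_mul_right (by omega) this
  -- all the tori are in one class
  have hcls : ∀ i, z i ∈ E Z (z 0) := by
    intro i
    by_contra hni
    obtain ⟨r, hrZ, hrU, her, har⟩ := hT3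
    have hnr : nn r = 4 := by
      have h1 := nn_mul_ee_mul_aa r
      rw [her, har, hcard] at h1
      have : nn r * (Nat.card Z * 6) = 4 * (Nat.card Z * 6) := by nlinarith [h1]
      exact Nat.eq_of_mul_eq_mul_right (by omega) this
    have hr0 : r ∉ E Z (z 0) := by
      intro h
      have := (hd.toCT.invariants (hzZ 0) h).1
      rw [har, (hinv 0).2] at this
      have := Nat.eq_of_mul_eq_mul_left hZpos this
      omega
    have hri : r ∉ E Z (z i) := by
      intro h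
      have := (hd.toCT.invariants (hzZ i) h).1
      rw [har, (hinv i).2] at this
      have := Nat.eq_of_mul_eq_mul_left hZpos this
      omega
    have d1 : Disjoint (E Z (z i)) (E Z (z 0)) := hd.toCT.E_disjoint (hzZ i) (hzZ 0) hni
    have d2 : Disjoint (E Z r) (E Z (z 0)) := hd.toCT.E_disjoint hrZ (hzZ 0) hr0
    have d3 : Disjoint (E Z r) (E Z (z i)) := hd.toCT.E_disjoint hrZ (hzZ i) hri
    have n0 : (E Z (z 0)).ncard = 9 * Nat.card Z := by
      rw [hd.toCT.ncard_E (hzZ 0)]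
      show nn (z 0) * (aa (z 0) - Nat.card Z) = _
      rw [hnn 0, (hinv 0).2]
      have : Nat.card Z * 4 - Nat.card Z = 3 * Nat.card Z := by omega
      rw [this]; ring
    have ni : (E Z (z i)).ncard = 9 * Nat.card Z := by
      rw [hd.toCT.ncard_E (hzZ i)]
      show nn (z i) * (aa (z i) - Nat.card Z) = _
      rw [hnn i, (hinv i).2]
      have : Nat.card Z * 4 - Nat.card Z = 3 * Nat.card Z := by omega
      rw [this]; ring
    have nr : (E Z r).ncard = 8 * Nat.card Z := by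
      rw [hd.toCT.ncard_E hrZ]
      show nn r * (aa r - Nat.card Z) = _
      rw [hnr, har]
      have : Nat.card Z * 3 - Nat.card Z = 2 * Nat.card Z := by omega
      rw [this]; ring
    have hsub : E Z r ∪ (E Z (z i) ∪ E Z (z 0)) ⊆
        ((⊤ : Subgroup ↥(liftGroup F W)) : Set ↥(liftGroup F W)) \ (Z : Set ↥(liftGroup F W)) := by
      intro a ha
      refine ⟨trivial, ?_⟩
      rcases ha with ha | ha | ha
      · exact ha.1
      · exact ha.1
      · exact ha.1
    have hle := Set.ncard_le_ncard hsub (Set.toFinite _)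
    rw [card_diff_subgroup (le_top : Z ≤ ⊤), Subgroup.card_top, hcard,
      Set.ncard_union_eq (Set.disjoint_union_right.mpr ⟨d3, d2⟩) (Set.toFinite _) (Set.toFinite _),
      Set.ncard_union_eq d1 (Set.toFinite _) (Set.toFinite _), n0, ni, nr] at hle
    omega
  -- the tori are conjugate
  have hmem : ∀ i, M (z i) ∈ cls (M (z 0)) := by
    intro i
    obtain ⟨-, g, hg⟩ := (hd.toCT.mem_E_iff_M (hzZ 0)).mp (hcls i)
    refine ⟨g⁻¹, ?_⟩
    show MulAut.conj g⁻¹ • M (z 0) = M (z i)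
    rw [← hg, ← conj_smul_M, map_inv, inv_smul_smul]
  have hfin : (cls (M (z 0))).Finite := Set.toFinite _
  have hcard3 : hfin.toFinset.card = 3 := by
    rw [← Set.ncard_eq_toFinset_card _ hfin, ncard_cls]
    exact hnn 0
  obtain ⟨y, -, hy⟩ := Finset.exists_lt_card_fiber_of_mul_lt_card_of_maps_to
    (s := (Finset.univ : Finset (Fin 7))) (t := hfin.toFinset) (f := fun i : Fin 7 => M (z i))
    (n := 2) (fun i _ => by simpa using hmem i) (by rw [hcard3]; simp)
  obtain ⟨a, ha, b, hb, c, hc, hab, hac, hbc⟩ := Finset.two_lt_card.mp hy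
  simp only [Finset.mem_filter, Finset.mem_univ, true_and] at ha hb hc
  have cab : z a * z b = z b * z a := by
    apply mem_M.mp
    rw [ha, ← hb]
    exact self_mem_M _
  have ccb : z c * z b = z b * z c := by
    apply mem_M.mp
    rw [hc, ← hb]
    exact self_mem_M _
  have eab := commute_of_lift W (l a) (l b) cab
  have ecb := commute_of_lift W (l c) (l b) ccb
  obtain ⟨ua, da⟩ := hTor a
  obtain ⟨ub, db⟩ := hTor b
  obtain ⟨uc, dc⟩ := hTor c
  have hab1 : ((t⁻¹ : (ZMod p)ˣ) : ZMod p) ≠ ((t ^ 2 : (ZMod p)ˣ) : ZMod p) := by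
    have := ab_pow_ne ht (k := 1) (by omega) (by omega)
    rwa [pow_one, pow_one] at this
  exact three_commute da db dc hab1 eab ecb (hdet a b hab) (hdet c b hbc.symm) (hdet a c hac)

/-- **Split tori at all points in a `p'`-subgroup of `GL₂(p)` force `p ≤ 7`.** -/
theorem bound7
    (hall : ∀ v : Fin 2 → ZMod p, v ≠ 0 → ∃ w ∈ W, Tor t w v) : p ≤ 7 := by
  by_contra hp7
  push Not at hp7
  haveI : Finite W := inferInstance
  have hv1 : (![1, 0] : Fin 2 → ZMod p) ≠ 0 := by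
    intro h; have := congrFun h 0; simp at this
  have hv2 : (![0, 1] : Fin 2 → ZMod p) ≠ 0 := by
    intro h; have := congrFun h 1; simp at this
  have hv3 : (![1, 1] : Fin 2 → ZMod p) ≠ 0 := by
    intro h; have := congrFun h 0; simp at this
  obtain ⟨w₁, hw₁, h₁⟩ := hall _ hv1
  obtain ⟨w₂, hw₂, h₂⟩ := hall _ hv2
  obtain ⟨w₃, hw₃, h₃⟩ := hall _ hv3
  have hsmall := small_cases hsq W hW t ht hp7 hw₁ hw₂ hw₃ h₁ h₂ h₃
    (by simp [det2]) (by simp [det2]) (by simp [det2])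
  obtain ⟨z₁, l₁, hz₁Z⟩ := exists_lift_tor hsq W t ht hp7 hw₁ h₁
  have key : p = 13 ∧ IsS4 (ZZ (tau (F := F) W)) (UU (tau (F := F) W)) := by
    rcases hsmall with hA4 | hS4 | hA5
    · exfalso
      obtain ⟨-, h | h⟩ := hA4
      · obtain ⟨tt, htt, -, -, hdvd⟩ := tor_invariants hsq W hW t ht h.2.2.2 h₁ l₁ hz₁Z
        simp only [List.mem_cons, List.mem_nil_iff, or_false] at htt
        rcases htt with rfl | rfl
        · have := (arith13 hp.out hp7 (by simp) hdvd).2
          omega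
        · have := (arith13 hp.out hp7 (by simp) hdvd).2
          omega
      · obtain ⟨tt, htt, -, -, hdvd⟩ := tor_invariants hsq W hW t ht h.2.2 h₁ l₁ hz₁Z
        simp only [List.mem_cons, List.mem_nil_iff, or_false] at htt
        rcases htt with rfl
        have := (arith13 hp.out hp7 (by simp) hdvd).2
        omega
    · obtain ⟨tt, htt, -, -, hdvd⟩ := tor_invariants hsq W hW t ht hS4.2.2.2.2.2 h₁ l₁ hz₁Z
      simp only [List.mem_cons, List.mem_nil_iff, or_false] at htt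
      rcases htt with rfl | rfl | rfl
      · exact ⟨(arith13 hp.out hp7 (by simp) hdvd).1, hS4⟩
      · exact ⟨(arith13 hp.out hp7 (by simp) hdvd).1, hS4⟩
      · exact ⟨(arith13 hp.out hp7 (by simp) hdvd).1, hS4⟩
    · exfalso
      obtain ⟨tt, htt, -, -, hdvd⟩ := tor_invariants hsq W hW t ht hA5.2.2.2.2.2 h₁ l₁ hz₁Z
      simp only [List.mem_cons, List.mem_nil_iff, or_false] at htt
      rcases htt with rfl | rfl | rfl
      · have := (arith13 hp.out hp7 (by simp) hdvd).2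
        omega
      · have := (arith13 hp.out hp7 (by simp) hdvd).2
        omega
      · have := (arith13 hp.out hp7 (by simp) hdvd).2
        omega
  obtain ⟨hp13, hS4⟩ := key
  subst hp13
  have h7pts : ∀ i : Fin 7, ∃ w ∈ W, Tor t w (V7 i) := fun i => hall (V7 i) (V7_ne i)
  choose w hw hTor using h7pts
  exact s4_contra hsq W hW t ht rfl hS4 w hw V7 hTor (fun i j h => V7_det i j h)

end

end Cfsg.Agent.Lib.Helper86.GL2
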