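import Mathlib
import Cfsg.Agent.Lib.Helper86.ExtraFusion2
import Cfsg.Agent.Lib.Helper86.GL2Seven
import Cfsg.Agent.Lib.Helper20.SylowFusion

set_option autoImplicit false
set_option linter.style.haveILetI false
set_option linter.unusedSectionVars false

/-!
# Extraspecial Sylow subgroups of order `p³` all of whose nonidentity elements are fused
-/

namespace Cfsg.Agent.Lib.Helper86.XF

open Matrix Cfsg.Agent.Lib.Helper86.Coord2 Cfsg.Agent.Lib.Helper86.Lin2 Cfsg.Agent.Lib.Helper86.GL2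
  Cfsg.Agent.Lib.Helper86.Extra3
open scoped commutatorElement

variable {p : ℕ} [hp : Fact p.Prime] {G : Type*} [Group G]

theorem Ind.pow {A : Subgroup G} {α : MulAut ↥A} (hα : Ind A α) (k : ℕ) : Ind A (α ^ k) := by
  induction k with
  | zero => rw [pow_zero]; exact Ind.one A
  | succ k ih => rw [pow_succ]; exact ih.mul hα

/-- from one nontrivial upper elementary matrix to all of them -/
theorem ind_E12_all {A : Subgroup G} (e : ↥A ≃* Multiplicative (Fin 2 → ZMod p)) {b₀ : ZMod p}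
    (hb₀ : b₀ ≠ 0) (h : Ind A (autHom e (E12 b₀))) (b : ZMod p) : Ind A (autHom e (E12 b)) := by
  have := h.pow (b / b₀).val
  rw [← map_pow, E12_pow, ZMod.natCast_zmod_val, div_mul_cancel₀ b hb₀] at this
  exact this

theorem ind_E21_all {A : Subgroup G} (e : ↥A ≃* Multiplicative (Fin 2 → ZMod p)) {c₀ : ZMod p}
    (hc₀ : c₀ ≠ 0) (h : Ind A (autHom e (E21 c₀))) (c : ZMod p) : Ind A (autHom e (E21 c)) := by
  have := h.pow (c / c₀).val
  rw [← map_pow, E21_pow, ZMod.natCast_zmod_val, div_mul_cancel₀ c hc₀] at this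
  exact this

section sub

variable (P : Subgroup G) (hH : Hyp p ↥P)
include hH

/-- the centralizer in `P` of a noncentral element, as a subgroup of order `p²` -/
theorem exists_A {x : ↥P} (hx : x ∉ Subgroup.center ↥P) :
    ∃ A : Subgroup G, A ≤ P ∧ Nat.card A = p ^ 2 ∧ (x : G) ∈ A := by
  haveI := hH.finite
  set C : Subgroup ↥P := Subgroup.centralizer {x} with hC
  have hZC : Subgroup.center ↥P ≤ C := Subgroup.center_le_centralizer _
  have hxC : x ∈ C := by
    rw [hC, Subgroup.mem_centralizer_iff]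
    intro y hy
    rw [Set.mem_singleton_iff] at hy
    rw [hy]
  have hCtop : C ≠ ⊤ := by
    intro htop
    apply hx
    rw [Subgroup.mem_center_iff]
    intro g
    have : g ∈ C := by rw [htop]; trivial
    rw [hC, Subgroup.mem_centralizer_iff] at this
    exact (this x rfl).symm
  have h2 : Nat.card C ∣ p ^ 3 := by rw [← hH.card]; exact Subgroup.card_subgroup_dvd_card C
  obtain ⟨k, hk, hCk⟩ := (Nat.dvd_prime_pow hp.out).mp h2
  have hk3 : k ≠ 3 := by
    intro h3
    apply hCtop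
    exact Subgroup.eq_top_of_card_eq C (by rw [hCk, h3, hH.card])
  have hlt : p < Nat.card C := by
    by_contra hle
    push Not at hle
    have : Subgroup.center ↥P = C :=
      Subgroup.eq_of_le_of_card_ge hZC (by rw [hH.cardZ]; exact hle)
    apply hx
    rw [this]; exact hxC
  have hk2 : k = 2 := by
    have h1 : 1 < p := hp.out.one_lt
    rw [hCk] at hlt
    have : 1 < k := by
      by_contra hk1
      push Not at hk1
      have h5 : p ^ k ≤ p ^ 1 := Nat.pow_le_pow_right hp.out.pos hk1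
      have h6 : p ^ 1 = p := pow_one p
      omega
    omega
  refine ⟨C.map P.subtype, Subgroup.map_subtype_le C, ?_, ?_⟩
  · rw [Subgroup.card_map_of_injective P.subtype_injective, hCk, hk2]
  · exact ⟨x, hxC, rfl⟩

end sub

section main

variable [Finite G] (P : Sylow p G) (hH : Hyp p ↥(P : Subgroup G))
include hH

/-- `P` acts on a subgroup `A ≥ Z` of order `p²` by upper unitriangular matrices -/
theorem P_le_KK (A : Subgroup G) (hAP : A ≤ (P : Subgroup G)) (z x : G) (hzA : z ∈ A)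
    (hxA : x ∈ A)
    (hzZ : (⟨z, hAP hzA⟩ : ↥(P : Subgroup G)) ∈ Subgroup.center ↥(P : Subgroup G))
    (hZA : ∀ z' : ↥(P : Subgroup G), z' ∈ Subgroup.center ↥(P : Subgroup G) → (z' : G) ∈ A)
    (e : ↥A ≃* Multiplicative (Fin 2 → ZMod p)) (hez : co e ⟨z, hzA⟩ = ![1, 0])
    (hex : co e ⟨x, hxA⟩ = ![0, 1]) : (P : Subgroup G) ≤ KK A e := by
  set zA : ↥A := ⟨z, hzA⟩ with hzAdef
  set xA : ↥A := ⟨x, hxA⟩ with hxAdef
  set zP : ↥(P : Subgroup G) := ⟨z, hAP hzA⟩ with hzPdef
  set xP : ↥(P : Subgroup G) := ⟨x, hAP hxA⟩ with hxPdef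
  have hzA1 : zA ≠ 1 := by
    intro h1
    have := (co_eq_zero_iff e).mpr h1
    rw [hez] at this
    have := congrFun this 0
    simp at this
  have hzP1 : zP ≠ 1 := by
    intro h1
    apply hzA1
    have : z = 1 := congrArg Subtype.val h1
    exact Subtype.ext this
  have hnorm : ∀ y ∈ (P : Subgroup G), ∀ a ∈ A, y * a * y⁻¹ ∈ A := by
    intro y hy a ha
    have h1 : (⁅(⟨y, hy⟩ : ↥(P : Subgroup G)), ⟨a, hAP ha⟩⁆ : ↥(P : Subgroup G)) ∈
        Subgroup.center ↥(P : Subgroup G) := hH.comm_mem _ _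
    have h2 := hZA _ h1
    have h3 : y * a * y⁻¹ = ((⁅(⟨y, hy⟩ : ↥(P : Subgroup G)), ⟨a, hAP ha⟩⁆ :
        ↥(P : Subgroup G)) : G) * a := by
      simp only [commutatorElement_def, Subgroup.coe_mul, Subgroup.coe_inv]
      group
    rw [h3]
    exact A.mul_mem h2 ha
  intro y hy
  have hyn : y ∈ Subgroup.normalizer (A : Set G) := by
    rw [Subgroup.mem_normalizer_iff]
    intro a
    constructor
    · exact hnorm y hy a
    · intro ha
      have := hnorm y⁻¹ ((P : Subgroup G).inv_mem hy) _ ha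
      have e1 : y⁻¹ * (y * a * y⁻¹) * y⁻¹⁻¹ = a := by group
      rwa [e1] at this
  set α : MulAut ↥A := A.normalizerMonoidHom ⟨y, hyn⟩ with hα
  have hαv : ∀ a : ↥A, ((α a : ↥A) : G) = y * a * y⁻¹ := fun a => rfl
  have hcx : (⁅(⟨y, hy⟩ : ↥(P : Subgroup G)), xP⁆ : ↥(P : Subgroup G)) ∈
      Subgroup.center ↥(P : Subgroup G) := hH.comm_mem _ _
  obtain ⟨k, hk⟩ := center_pow (P : Subgroup G) hH hzZ hzP1 hcx
  have h0 : α zA = zA := by
    apply Subtype.ext
    rw [hαv]
    have := Subgroup.mem_center_iff.mp hzZ ⟨y, hy⟩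
    have h2 : y * z = z * y := congrArg Subtype.val this
    show y * z * y⁻¹ = z
    rw [h2]; group
  have h1 : α xA = zA ^ k * xA := by
    apply Subtype.ext
    rw [hαv]
    have h2 : y * x * y⁻¹ * x⁻¹ = z ^ k := by
      have := congrArg Subtype.val hk
      simpa [commutatorElement_def] using this
    show y * x * y⁻¹ = z ^ k * x
    rw [← h2]; group
  refine ⟨(k : ZMod p), fun a => ?_⟩
  rw [← hαv]
  congr 1
  have : α = autHom e (E12 (k : ZMod p)) := by
    apply eq_autHom_of_basis e hez hex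
    · rw [h0, hez, E12_val]
      ext i; fin_cases i <;> simp [Matrix.mulVec, dotProduct, Fin.sum_univ_two]
    · rw [h1, co_mul, co_pow, hez, hex, E12_val]
      ext i; fin_cases i <;> simp [Matrix.mulVec, dotProduct, Fin.sum_univ_two]
  rw [this]

/-- all upper elementary matrices are induced -/
theorem ind_E12_of_P (A : Subgroup G) (hAP : A ≤ (P : Subgroup G)) (z x : G) (hzA : z ∈ A)
    (hxA : x ∈ A)
    (hzZ : (⟨z, hAP hzA⟩ : ↥(P : Subgroup G)) ∈ Subgroup.center ↥(P : Subgroup G))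
    (hxZ : (⟨x, hAP hxA⟩ : ↥(P : Subgroup G)) ∉ Subgroup.center ↥(P : Subgroup G))
    (hZA : ∀ z' : ↥(P : Subgroup G), z' ∈ Subgroup.center ↥(P : Subgroup G) → (z' : G) ∈ A)
    (e : ↥A ≃* Multiplicative (Fin 2 → ZMod p)) (hez : co e ⟨z, hzA⟩ = ![1, 0])
    (hex : co e ⟨x, hxA⟩ = ![0, 1]) (b : ZMod p) : Ind A (autHom e (E12 b)) := by
  have hPK := P_le_KK P hH A hAP z x hzA hxA hzZ hZA e hez hex
  -- an element of P not commuting with x
  obtain ⟨y, hy⟩ : ∃ y : ↥(P : Subgroup G), y * ⟨x, hAP hxA⟩ ≠ ⟨x, hAP hxA⟩ * y := by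
    by_contra hcon
    push Not at hcon
    exact hxZ (Subgroup.mem_center_iff.mpr hcon)
  obtain ⟨b₀, hb₀⟩ := hPK y.2
  have hb₀0 : b₀ ≠ 0 := by
    intro h0
    apply hy
    apply Subtype.ext
    have := hb₀ ⟨x, hxA⟩
    rw [h0, E12_zero, map_one] at this
    have h2 : (y : G) * x * (y : G)⁻¹ = x := this
    show (y : G) * x = x * (y : G)
    calc (y : G) * x = ((y : G) * x * (y : G)⁻¹) * (y : G) := by group
      _ = x * (y : G) := by rw [h2]
  exact ind_E12_all e hb₀0 ⟨(y : G), fun a => (hb₀ a).symm⟩ b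

/-- all lower elementary matrices are induced, when `z` and `x` are conjugate in `G` -/
theorem ind_E21_of_conj (A : Subgroup G) (hAP : A ≤ (P : Subgroup G)) (hAc : Nat.card A = p ^ 2)
    (z x : G) (hzA : z ∈ A) (hxA : x ∈ A)
    (hzZ : (⟨z, hAP hzA⟩ : ↥(P : Subgroup G)) ∈ Subgroup.center ↥(P : Subgroup G))
    (e : ↥A ≃* Multiplicative (Fin 2 → ZMod p)) (hez : co e ⟨z, hzA⟩ = ![1, 0])
    (hex : co e ⟨x, hxA⟩ = ![0, 1]) (hconj : ∃ g : G, g * z * g⁻¹ = x) (c : ZMod p) :
    Ind A (autHom e (E21 c)) := by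
  haveI : Finite ↥A := inferInstance
  set zA : ↥A := ⟨z, hzA⟩ with hzAdef
  set xA : ↥A := ⟨x, hxA⟩ with hxAdef
  set zP : ↥(P : Subgroup G) := ⟨z, hAP hzA⟩ with hzPdef
  have hzA1 : zA ≠ 1 := by
    intro h1
    have := (co_eq_zero_iff e).mpr h1
    rw [hez] at this
    have := congrFun this 0
    simp at this
  have hzP1 : zP ≠ 1 := by
    intro h1
    apply hzA1
    have : z = 1 := congrArg Subtype.val h1
    exact Subtype.ext this
  have hcommA : ∀ a ∈ A, ∀ b ∈ A, a * b = b * a := by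
    intro a ha b hb
    haveI := IsPGroup.isMulCommutative_of_card_eq_prime_sq hAc
    have h1 : (⟨a, ha⟩ : ↥A) * ⟨b, hb⟩ = ⟨b, hb⟩ * ⟨a, ha⟩ := mul_comm' _ _
    exact congrArg Subtype.val h1
  obtain ⟨g₀, hg₀⟩ := hconj
  -- the conjugate Sylow subgroup centralizes x
  have hS : ((g₀ • P : Sylow p G) : Subgroup G) ≤ Subgroup.centralizer {x} := by
    intro s hs
    rw [Sylow.smul_def, Sylow.pointwise_smul_def, Subgroup.mem_pointwise_smul_iff_inv_smul_mem,
      MulAut.smul_def, ← map_inv, MulAut.conj_apply, inv_inv] at hs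
    rw [Subgroup.mem_centralizer_iff]
    intro y hy
    rw [Set.mem_singleton_iff] at hy
    rw [hy]
    have h1 := Subgroup.mem_center_iff.mp hzZ ⟨g₀⁻¹ * s * g₀, hs⟩
    have h2 : g₀⁻¹ * s * g₀ * z = z * (g₀⁻¹ * s * g₀) := congrArg Subtype.val h1
    rw [← hg₀]
    calc g₀ * z * g₀⁻¹ * s = g₀ * (z * (g₀⁻¹ * s * g₀)) * g₀⁻¹ := by group
      _ = g₀ * (g₀⁻¹ * s * g₀ * z) * g₀⁻¹ := by rw [h2]
      _ = s * (g₀ * z * g₀⁻¹) := by group
  have hAM : A ≤ Subgroup.centralizer {x} := by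
    intro a ha
    rw [Subgroup.mem_centralizer_iff]
    intro y hy
    rw [Set.mem_singleton_iff] at hy
    rw [hy]
    exact hcommA x hxA a ha
  have hAp : IsPGroup p A := IsPGroup.of_card hAc
  obtain ⟨c₁, hc₁, hc₁A⟩ :=
    Cfsg.Agent.Lib.Helper20.sylow_conj_into (g₀ • P) (Subgroup.centralizer {x}) hS A hAp hAM
  set g' := c₁⁻¹ * g₀ with hg'
  have hg'z : g' * z * g'⁻¹ = x := by
    have h1 : c₁ * x = x * c₁ := by
      have := Subgroup.mem_centralizer_iff.mp hc₁ x rfl
      exact this.symm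
    rw [hg']
    calc c₁⁻¹ * g₀ * z * (c₁⁻¹ * g₀)⁻¹ = c₁⁻¹ * (g₀ * z * g₀⁻¹) * c₁ := by group
      _ = c₁⁻¹ * (x * c₁) := by rw [hg₀]; group
      _ = x := by rw [← h1]; group
  have hg'A : ∀ a ∈ A, g'⁻¹ * a * g' ∈ (P : Subgroup G) := by
    intro a ha
    have := hc₁A a ha
    rw [Sylow.smul_def, Sylow.pointwise_smul_def, Subgroup.mem_pointwise_smul_iff_inv_smul_mem,
      MulAut.smul_def, ← map_inv, MulAut.conj_apply, inv_inv] at this
    have e1 : g'⁻¹ * a * g' = g₀⁻¹ * (c₁ * a * c₁⁻¹) * g₀ := by rw [hg']; group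
    rw [e1]; exact this
  -- the preimage of z
  set a₀ := g'⁻¹ * z * g' with ha₀
  have ha₀P : a₀ ∈ (P : Subgroup G) := hg'A z hzA
  have ha₀Z : (⟨a₀, ha₀P⟩ : ↥(P : Subgroup G)) ∉ Subgroup.center ↥(P : Subgroup G) := by
    intro hmem
    obtain ⟨k, hk⟩ := center_pow (P : Subgroup G) hH hzZ hzP1 hmem
    have h1 : a₀ = z ^ k := by
      have := congrArg Subtype.val hk
      simpa using this
    have h2 : z = x ^ k := by
      calc z = g' * a₀ * g'⁻¹ := by rw [ha₀]; group
        _ = g' * z ^ k * g'⁻¹ := by rw [h1]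
        _ = (g' * z * g'⁻¹) ^ k := by rw [conj_pow]
        _ = x ^ k := by rw [hg'z]
    have h3 : zA = xA ^ k := Subtype.ext (by simpa using h2)
    have h4 := congrArg (co e) h3
    rw [co_pow, hez, hex] at h4
    have := congrFun h4 0
    simp at this
  obtain ⟨y, hy⟩ : ∃ y : ↥(P : Subgroup G), y * ⟨a₀, ha₀P⟩ ≠ ⟨a₀, ha₀P⟩ * y := by
    by_contra hcon
    push Not at hcon
    exact ha₀Z (Subgroup.mem_center_iff.mpr hcon)
  have hc₀ : (⁅y, (⟨a₀, ha₀P⟩ : ↥(P : Subgroup G))⁆ : ↥(P : Subgroup G)) ∈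
      Subgroup.center ↥(P : Subgroup G) := hH.comm_mem _ _
  obtain ⟨k, hk⟩ := center_pow (P : Subgroup G) hH hzZ hzP1 hc₀
  have hk' : (y : G) * a₀ * (y : G)⁻¹ * a₀⁻¹ = z ^ k := by
    have := congrArg Subtype.val hk
    simpa [commutatorElement_def] using this
  have hzk1 : z ^ k ≠ 1 := by
    intro h1
    apply hy
    apply Subtype.ext
    show (y : G) * a₀ = a₀ * (y : G)
    rw [h1] at hk'
    calc (y : G) * a₀ = ((y : G) * a₀ * (y : G)⁻¹ * a₀⁻¹) * a₀ * (y : G) := by group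
      _ = a₀ * (y : G) := by rw [hk', one_mul]
  have hk0 : (k : ZMod p) ≠ 0 := by
    intro h0
    apply hzk1
    have hdvd : p ∣ k := (ZMod.natCast_eq_zero_iff k p).mp h0
    obtain ⟨m, rfl⟩ := hdvd
    have hzp : z ^ p = 1 := by
      have := congrArg Subtype.val (hH.exp zP)
      simpa using this
    rw [pow_mul, hzp, one_pow]
  -- the inducing element
  set y' := g' * (y : G) * g'⁻¹ with hy'
  have hy'z : y' * z * y'⁻¹ = x ^ k * z := by
    have e1 : y' * z * y'⁻¹ = g' * ((y : G) * a₀ * (y : G)⁻¹) * g'⁻¹ := by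
      rw [hy', ha₀]; group
    have e2 : (y : G) * a₀ * (y : G)⁻¹ = z ^ k * a₀ := by
      rw [← hk']; group
    rw [e1, e2]
    calc g' * (z ^ k * a₀) * g'⁻¹ = (g' * z ^ k * g'⁻¹) * (g' * a₀ * g'⁻¹) := by group
      _ = (g' * z * g'⁻¹) ^ k * z := by
        rw [conj_pow]; congr 1; rw [ha₀]; group
      _ = x ^ k * z := by rw [hg'z]
  have hy'x : y' * x * y'⁻¹ = x := by
    have e0 : g'⁻¹ * x * g' = z := by rw [← hg'z]; group
    have h1 := Subgroup.mem_center_iff.mp hzZ y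
    have h2 : (y : G) * z = z * (y : G) := congrArg Subtype.val h1
    calc y' * x * y'⁻¹ = g' * ((y : G) * (g'⁻¹ * x * g') * (y : G)⁻¹) * g'⁻¹ := by rw [hy']; group
      _ = g' * ((y : G) * z * (y : G)⁻¹) * g'⁻¹ := by rw [e0]
      _ = g' * z * g'⁻¹ := by rw [h2]; group
      _ = x := hg'z
  have hy'n : y' ∈ Subgroup.normalizer (A : Set G) := by
    apply Subgroup.mem_normalizer_fintype
    intro a ha
    have ha' : a ∈ A := ha
    have hdec := eq_of_co e hez hex ⟨a, ha'⟩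
    have hdec' : a = z ^ (co e ⟨a, ha'⟩ 0).val * x ^ (co e ⟨a, ha'⟩ 1).val := by
      have := congrArg Subtype.val hdec
      simpa using this
    have : y' * a * y'⁻¹ = (y' * z * y'⁻¹) ^ (co e ⟨a, ha'⟩ 0).val *
        (y' * x * y'⁻¹) ^ (co e ⟨a, ha'⟩ 1).val := by
      conv_lhs => rw [hdec']
      rw [conj_pow, conj_pow]; group
    show y' * a * y'⁻¹ ∈ A
    rw [this, hy'z, hy'x]
    exact A.mul_mem (A.pow_mem (A.mul_mem (A.pow_mem hxA _) hzA) _) (A.pow_mem hxA _)
  set α : MulAut ↥A := A.normalizerMonoidHom ⟨y', hy'n⟩ with hα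
  have hαv : ∀ a : ↥A, ((α a : ↥A) : G) = y' * a * y'⁻¹ := fun a => rfl
  have h0 : α zA = xA ^ k * zA := by
    apply Subtype.ext
    rw [hαv]
    show y' * z * y'⁻¹ = _
    rw [hy'z]; simp [hxAdef, hzAdef]
  have h1 : α xA = xA := by
    apply Subtype.ext
    rw [hαv]
    exact hy'x
  have hαeq : α = autHom e (E21 (k : ZMod p)) := by
    apply eq_autHom_of_basis e hez hex
    · rw [h0, co_mul, co_pow, hez, hex, E21_val]
      ext i; fin_cases i <;> simp [Matrix.mulVec, dotProduct, Fin.sum_univ_two]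
    · rw [h1, hex, E21_val]
      ext i; fin_cases i <;> simp [Matrix.mulVec, dotProduct, Fin.sum_univ_two]
  have hind : Ind A (autHom e (E21 (k : ZMod p))) := ⟨y', fun a => by rw [← hαeq, hαv]⟩
  exact ind_E21_all e hk0 hind c

end main

/-- prime field version of `bound7` -/
theorem bound7' (hp2 : p ≠ 2)
    (W : Subgroup (GL (Fin 2) (ZMod p))) (hW : (Nat.card W).Coprime p)
    (t : (ZMod p)ˣ) (ht : orderOf t = p - 1)
    (hall : ∀ v : Fin 2 → ZMod p, v ≠ 0 → ∃ w ∈ W, Tor t w v) : p ≤ 7 := by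
  classical
  letI : Fintype (GaloisField p 2) := Fintype.ofFinite _
  exact bound7 (F := GaloisField p 2) (exists_sqrt hp2) W hW t ht hall

section point

variable [Finite G] (P : Sylow p G) (hH : Hyp p ↥(P : Subgroup G))
include hH

/-- **Split torus at every point**, when all nonidentity elements of `P` are fused. -/
theorem tor_of_point (hfr : frattini ↥(P : Subgroup G) = Subgroup.center ↥(P : Subgroup G))
    (eV : Abelianization ↥(P : Subgroup G) ≃* Multiplicative (Fin 2 → ZMod p))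
    (t : (ZMod p)ˣ) (ht : orderOf t = p - 1) (hp5 : 5 ≤ p)
    (hconj : ∀ x y : ↥(P : Subgroup G), x ≠ 1 → y ≠ 1 → ∃ g : G, g * (x : G) * g⁻¹ = (y : G))
    (xP : ↥(P : Subgroup G)) (hxZ : xP ∉ Subgroup.center ↥(P : Subgroup G)) :
    ∃ n : ↥(Subgroup.normalizer ((P : Subgroup G) : Set G)), Tor t (rho P eV n) (kap eV xP) := by
  have hpp : p.Prime := hp.out
  obtain ⟨zP, hzZ, hz1⟩ : ∃ z : ↥(P : Subgroup G), z ∈ Subgroup.center ↥(P : Subgroup G) ∧ z ≠ 1 := by
    by_contra hcon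
    push Not at hcon
    have : Nat.card (Subgroup.center ↥(P : Subgroup G)) ≤ 1 := by
      rw [Finite.card_le_one_iff_subsingleton]
      refine ⟨fun a b => ?_⟩
      apply Subtype.ext
      rw [hcon a.1 a.2, hcon b.1 b.2]
    rw [hH.cardZ] at this
    have := hpp.one_lt
    omega
  obtain ⟨A, hAP, hAc, hxA⟩ := exists_A (P : Subgroup G) hH hxZ
  have hZA : ∀ z' : ↥(P : Subgroup G), z' ∈ Subgroup.center ↥(P : Subgroup G) →
      (z' : G) ∈ A := fun z' hz' => center_le (P : Subgroup G) hH hfr hAP hAc hz'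
  have hzA : (zP : G) ∈ A := hZA zP hzZ
  haveI := IsPGroup.isMulCommutative_of_card_eq_prime_sq hAc
  haveI : Finite ↥A := by
    apply Nat.finite_of_card_ne_zero
    rw [hAc]; exact pow_ne_zero _ hpp.ne_zero
  have hxP1 : xP ≠ 1 := by
    intro h1
    apply hxZ
    rw [h1]; exact (Subgroup.center _).one_mem
  have hxZ' : (⟨(xP : G), hAP hxA⟩ : ↥(P : Subgroup G)) ∉ Subgroup.center ↥(P : Subgroup G) := hxZ
  obtain ⟨e, hez, hex⟩ := Cfsg.Agent.Lib.Helper86.Coord2.exists_coords hAc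
      (⟨(zP : G), hzA⟩ : ↥A) ⟨(xP : G), hxA⟩
      (by
        apply Subtype.ext
        have := congrArg Subtype.val (hH.exp zP)
        simpa using this)
      (by
        apply Subtype.ext
        have := congrArg Subtype.val (hH.exp xP)
        simpa using this)
      (mul_comm' _ _)
      (by
        intro h1
        apply hz1
        apply Subtype.ext
        have := congrArg Subtype.val h1
        simpa using this)
      (by
        intro hmem
        obtain ⟨k, hk⟩ := Subgroup.mem_zpowers_iff.mp hmem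
        apply hxZ
        have h1 : xP = zP ^ k := by
          apply Subtype.ext
          have := congrArg Subtype.val hk
          simpa using this.symm
        rw [h1]
        exact (Subgroup.center _).zpow_mem hzZ k)
  have h12 : ∀ b, Ind A (autHom e (E12 b)) :=
    ind_E12_of_P P hH A hAP (zP : G) (xP : G) hzA hxA hzZ hxZ' hZA e hez hex
  have h21 : ∀ c, Ind A (autHom e (E21 c)) :=
    ind_E21_of_conj P hH A hAP hAc (zP : G) (xP : G) hzA hxA hzZ e hez hex (hconj zP xP hz1 hxP1)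
  exact tor_of_A P hH eV t ht hp5 A hAP (zP : G) (xP : G) hzA hxA hzZ hxZ' hZA e hez hex h12 h21

end point

end Cfsg.Agent.Lib.Helper86.XF
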