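import Cfsg.Agent.Lib.Helper86.FLCORECOMM

/-! # FL hive (helper47, S2863): leaf CORE-CONJ `coreSetup_cj` lives in `FLCORECOMM.lean`
(next to `core_comm_mem`); this file only re-exports it. -/
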