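import Mathlib

set_option autoImplicit false
set_option linter.style.haveILetI false
set_option linter.unusedSectionVars false

/-!
# A cyclic transitive linear group normalised by an element of prime order

If `T` is an endomorphism of a finite abelian group `V` whose powers act transitively on the
nonzero elements of `V`, and `S` is an endomorphism with `S ^ s = 1`, `s` prime, normalising
`⟨T⟩` and commuting with no nonidentity power of `T`, then `|V| = 2 ^ s`
(provided `|V| > 2`).  The subring `A` generated by `T` is a finite field, conjugation by `S`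
is an automorphism of it with fixed field `{0, 1}`, and Artin's theorem gives the order.
-/

namespace Cfsg.Agent.Lib.Helper86.FieldLemma

open Module

section additive

variable {V : Type*} [AddCommGroup V]

theorem finite_end [Finite V] : Finite (AddMonoid.End V) :=
  Finite.of_injective (fun f : AddMonoid.End V => (f : V → V)) DFunLike.coe_injective

/-- elements of the subring generated by `T` commute with powers of `T` -/
theorem comm_pow (T : AddMonoid.End V) (a : AddMonoid.End V)
    (ha : a ∈ Subring.closure ({T} : Set (AddMonoid.End V))) (i : ℕ) : a * T ^ i = T ^ i * a := by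
  have h1 : Subring.closure ({T} : Set (AddMonoid.End V)) ≤
      Subring.centralizer ({T} : Set (AddMonoid.End V)) := by
    rw [Subring.closure_le]
    intro x hx
    rw [Set.mem_singleton_iff] at hx
    subst hx
    rw [SetLike.mem_coe, Subring.mem_centralizer_iff]
    intro g hg
    rw [Set.mem_singleton_iff] at hg
    rw [hg]
  have h2 := h1 ha
  rw [Subring.mem_centralizer_iff] at h2
  have h3 : T * a = a * T := h2 T (Set.mem_singleton T)
  have h4 : Commute a T := h3.symm
  exact (h4.pow_right i).eq

theorem pow_mem (T : AddMonoid.End V) (i : ℕ) :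
    T ^ i ∈ Subring.closure ({T} : Set (AddMonoid.End V)) :=
  Subring.pow_mem _ (Subring.subset_closure (Set.mem_singleton T)) i

/-- an element of the subring generated by `T` killing a nonzero vector is zero -/
theorem eq_zero_of_apply_eq_zero (T : AddMonoid.End V)
    (htr : ∀ v w : V, v ≠ 0 → w ≠ 0 → ∃ i : ℕ, (T ^ i) v = w)
    (a : AddMonoid.End V) (ha : a ∈ Subring.closure ({T} : Set (AddMonoid.End V)))
    (v : V) (hv : v ≠ 0) (hav : a v = 0) : a = 0 := by
  ext w
  by_cases hw : w = 0
  · rw [hw, map_zero, map_zero]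
  · obtain ⟨i, hi⟩ := htr v w hv hw
    rw [← hi]
    have h1 : a ((T ^ i) v) = (a * T ^ i) v := rfl
    rw [h1, comm_pow T a ha i]
    show (T ^ i) (a v) = 0
    rw [hav, map_zero]

/-- nonzero elements of the subring generated by `T` are powers of `T` -/
theorem eq_pow_of_ne_zero (T : AddMonoid.End V)
    (htr : ∀ v w : V, v ≠ 0 → w ≠ 0 → ∃ i : ℕ, (T ^ i) v = w)
    (a : AddMonoid.End V) (ha : a ∈ Subring.closure ({T} : Set (AddMonoid.End V)))
    (ha0 : a ≠ 0) (v : V) (hv : v ≠ 0) : ∃ i : ℕ, a = T ^ i := by
  have hav : a v ≠ 0 := fun h => ha0 (eq_zero_of_apply_eq_zero T htr a ha v hv h)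
  obtain ⟨i, hi⟩ := htr v (a v) hv hav
  refine ⟨i, ?_⟩
  have h1 : a - T ^ i = 0 := by
    apply eq_zero_of_apply_eq_zero T htr _ (Subring.sub_mem _ ha (pow_mem T i)) v hv
    show a v - (T ^ i) v = 0
    rw [hi, sub_self]
  exact sub_eq_zero.mp h1

end additive

/-- Artin: a finite field with an automorphism `τ` with `τ ^ s = 1`, `s` prime, whose fixed
points are `0` and `1` only, has `2 ^ s` elements, if it has more than two. -/
theorem artin_card (F : Type*) [Field F] [Finite F] (τ : F ≃+* F) (s : ℕ) (hs : s.Prime)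
    (hτ : τ ^ s = 1) (hfix : ∀ a : F, τ a = a → a = 0 ∨ a = 1) (hF : 2 < Nat.card F) :
    Nat.card F = 2 ^ s := by
  classical
  haveI : Finite (F ≃+* F) :=
    Finite.of_injective (fun e : F ≃+* F => (e : F → F)) DFunLike.coe_injective
  let G' : Subgroup (RingAut F) := Subgroup.zpowers τ
  haveI : Fintype G' := Fintype.ofFinite G'
  haveI : FaithfulSMul G' F := by
    refine ⟨fun {g g'} h => ?_⟩
    apply Subtype.ext
    apply RingEquiv.ext
    intro a
    have := h a
    rwa [Subgroup.smul_def, Subgroup.smul_def, RingAut.smul_def, RingAut.smul_def] at this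
  have h1 := FixedPoints.finrank_eq_card G' F
  have h2 : Nat.card F = Nat.card (FixedPoints.subfield G' F) ^
      finrank (FixedPoints.subfield G' F) F := Module.natCard_eq_pow_finrank
  have h3 : Nat.card (FixedPoints.subfield G' F) = 2 := by
    rw [Nat.card_eq_two_iff]
    refine ⟨0, 1, ?_, ?_⟩
    · intro h
      have := congrArg Subtype.val h
      exact zero_ne_one this
    · rw [Set.eq_univ_iff_forall]
      intro a
      have ha : τ (a : F) = (a : F) := by
        have := a.2 ⟨τ, Subgroup.mem_zpowers τ⟩
        rwa [Subgroup.smul_def, RingAut.smul_def] at this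
      rcases hfix _ ha with h | h
      · left
        exact Subtype.ext h
      · right
        rw [Set.mem_singleton_iff]
        exact Subtype.ext h
  have h4 : Fintype.card G' = orderOf τ := by
    rw [← Nat.card_eq_fintype_card]
    exact Nat.card_zpowers τ
  have h5 : orderOf τ ∣ s := orderOf_dvd_of_pow_eq_one hτ
  rw [h3, h1, h4] at h2
  rcases (Nat.dvd_prime hs).mp h5 with h | h
  · rw [h, pow_one] at h2
    omega
  · rw [h] at h2
    exact h2

/-- the same for a finite commutative ring without zero divisors -/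
theorem artin_ring (R : Type*) [Ring R] [Finite R] [Nontrivial R]
    (hcomm : ∀ a b : R, a * b = b * a) (hnzd : ∀ a b : R, a * b = 0 → a = 0 ∨ b = 0)
    (τ : R ≃+* R) (s : ℕ) (hs : s.Prime)
    (hτ : τ ^ s = 1) (hfix : ∀ a : R, τ a = a → a = 0 ∨ a = 1) (hR : 2 < Nat.card R) :
    Nat.card R = 2 ^ s := by
  classical
  letI : CommRing R := { ‹Ring R› with mul_comm := hcomm }
  haveI : NoZeroDivisors R := ⟨fun {a b} h => hnzd a b h⟩
  haveI : IsDomain R := NoZeroDivisors.to_isDomain R
  haveI : Fintype R := Fintype.ofFinite R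
  letI : Field R := Fintype.fieldOfDomain R
  exact artin_card R τ s hs hτ hfix hR

theorem ringAut_pow_apply {R : Type*} [Ring R] (τ : RingAut R) (n : ℕ) (a : R) :
    (τ ^ n) a = τ^[n] a := by
  induction n generalizing a with
  | zero => rfl
  | succ n ih =>
    rw [pow_succ, RingAut.mul_apply, ih, Function.iterate_succ_apply]

theorem main_add {V : Type*} [AddCommGroup V] [Finite V] (T S : AddMonoid.End V) (s : ℕ)
    (hs : s.Prime)
    (htr : ∀ v w : V, v ≠ 0 → w ≠ 0 → ∃ i : ℕ, (T ^ i) v = w)
    (hS : S ^ s = 1) (j : ℕ) (hST : S * T = T ^ j * S)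
    (hfix : ∀ i : ℕ, S * T ^ i = T ^ i * S → T ^ i = 1)
    (hV : 2 < Nat.card V) : Nat.card V = 2 ^ s := by
  classical
  haveI : Finite (AddMonoid.End V) := finite_end
  haveI : Nontrivial V := Finite.one_lt_card_iff_nontrivial.mp (by omega)
  obtain ⟨v₀, hv₀⟩ := exists_ne (0 : V)
  obtain ⟨S', hSS', hS'S⟩ : ∃ S' : AddMonoid.End V, S * S' = 1 ∧ S' * S = 1 := by
    have h1 : s - 1 + 1 = s := Nat.sub_add_cancel hs.one_le
    refine ⟨S ^ (s - 1), ?_, ?_⟩
    · rw [← pow_succ', h1, hS]
    · rw [← pow_succ, h1, hS]
  have hcan : ∀ x : AddMonoid.End V, S' * (S * x) = x := fun x => by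
    rw [← mul_assoc, hS'S, one_mul]
  let κ : AddMonoid.End V →+* AddMonoid.End V :=
    { toFun := fun a => S * a * S'
      map_one' := by rw [mul_one, hSS']
      map_mul' := fun a b => by simp only [mul_assoc, hcan]
      map_zero' := by rw [mul_zero, zero_mul]
      map_add' := fun a b => by rw [mul_add, add_mul] }
  have hκ : ∀ a, κ a = S * a * S' := fun a => rfl
  set A : Subring (AddMonoid.End V) := Subring.closure {T} with hA
  have hκA : ∀ a ∈ A, κ a ∈ A := by
    have h1 : A ≤ A.comap κ := by
      rw [hA, Subring.closure_le]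
      intro x hx
      rw [Set.mem_singleton_iff] at hx
      subst hx
      rw [SetLike.mem_coe, Subring.mem_comap, hκ, hST, mul_assoc, hSS', mul_one]
      exact pow_mem x j
    intro a ha
    exact h1 ha
  let τ₀ : A →+* A := κ.restrict A A hκA
  have hτ₀ : ∀ a : A, ((τ₀ a : A) : AddMonoid.End V) = S * (a : AddMonoid.End V) * S' :=
    fun a => rfl
  have hτ₀inj : Function.Injective τ₀ := by
    intro a b hab
    apply Subtype.ext
    have h1 := congrArg (fun x : A => (x : AddMonoid.End V)) hab
    simp only [hτ₀] at h1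
    have h2 := congrArg (fun x => S' * x * S) h1
    simp only [mul_assoc, hcan, hS'S, mul_one] at h2
    exact h2
  have hτ₀bij : Function.Bijective τ₀ := ⟨hτ₀inj, Finite.injective_iff_surjective.mp hτ₀inj⟩
  let τ : A ≃+* A := RingEquiv.ofBijective τ₀ hτ₀bij
  have hτ : ∀ a : A, ((τ a : A) : AddMonoid.End V) = S * (a : AddMonoid.End V) * S' :=
    fun a => rfl
  have hτit : ∀ (n : ℕ) (a : A), ((τ^[n] a : A) : AddMonoid.End V) =
      S ^ n * (a : AddMonoid.End V) * S' ^ n := by
    intro n
    induction n with
    | zero => intro a; simp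
    | succ n ih =>
      intro a
      rw [Function.iterate_succ_apply', hτ, ih, pow_succ', pow_succ]
      simp only [mul_assoc]
  have hS's : S' ^ s = 1 := by
    have h1 : S' ^ s = S' ^ s * (S ^ s) := by rw [hS, mul_one]
    have h2 : ∀ n : ℕ, S' ^ n * S ^ n = 1 := by
      intro n
      induction n with
      | zero => simp
      | succ n ih =>
        rw [pow_succ, pow_succ', mul_assoc, hcan, ih]
    rw [h1, h2]
  have hτs : τ ^ s = 1 := by
    apply RingEquiv.ext
    intro a
    rw [ringAut_pow_apply]
    apply Subtype.ext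
    rw [hτit, hS, hS's, one_mul, mul_one]
    rfl
  have hmemA : ∀ a : A, (a : AddMonoid.End V) ∈ Subring.closure ({T} : Set (AddMonoid.End V)) :=
    fun a => a.2
  have hcomm : ∀ a b : A, a * b = b * a := by
    intro a b
    apply Subtype.ext
    show (a : AddMonoid.End V) * (b : AddMonoid.End V) = b * a
    by_cases hb : (b : AddMonoid.End V) = 0
    · rw [hb, mul_zero, zero_mul]
    · obtain ⟨i, hi⟩ := eq_pow_of_ne_zero T htr _ (hmemA b) hb v₀ hv₀
      rw [hi]
      exact comm_pow T _ (hmemA a) i
  have hnzd : ∀ a b : A, a * b = 0 → a = 0 ∨ b = 0 := by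
    intro a b hab
    by_cases hb : b = 0
    · right; exact hb
    left
    have hb' : (b : AddMonoid.End V) ≠ 0 := fun h => hb (Subtype.ext h)
    have hv : ∃ v : V, (b : AddMonoid.End V) v ≠ 0 := by
      by_contra hcon
      push Not at hcon
      apply hb'
      ext v
      exact hcon v
    obtain ⟨v, hv⟩ := hv
    apply Subtype.ext
    apply eq_zero_of_apply_eq_zero T htr _ (hmemA a) _ hv
    have h1 := congrArg (fun x : A => (x : AddMonoid.End V) v) hab
    exact h1
  haveI : Nontrivial A := by
    refine ⟨⟨0, 1, ?_⟩⟩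
    intro h
    have h1 := congrArg (fun x : A => (x : AddMonoid.End V) v₀) h
    exact hv₀ h1.symm
  have hfixA : ∀ a : A, τ a = a → a = 0 ∨ a = 1 := by
    intro a ha
    by_cases ha0 : a = 0
    · left; exact ha0
    right
    have ha0' : (a : AddMonoid.End V) ≠ 0 := fun h => ha0 (Subtype.ext h)
    obtain ⟨i, hi⟩ := eq_pow_of_ne_zero T htr _ (hmemA a) ha0' v₀ hv₀
    have h1 := congrArg (fun x : A => (x : AddMonoid.End V)) ha
    simp only [hτ] at h1
    have h2 : S * (a : AddMonoid.End V) = (a : AddMonoid.End V) * S := by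
      have := congrArg (fun x => x * S) h1
      simp only [mul_assoc, hS'S, mul_one] at this
      exact this
    rw [hi] at h2
    have h3 := hfix i h2
    apply Subtype.ext
    rw [hi, h3]
    rfl
  have hcard : Nat.card A = Nat.card V := by
    apply Nat.card_eq_of_bijective (fun a : A => (a : AddMonoid.End V) v₀)
    constructor
    · intro a b hab
      apply Subtype.ext
      have h1 : (a : AddMonoid.End V) - b = 0 := by
        apply eq_zero_of_apply_eq_zero T htr _ (Subring.sub_mem _ (hmemA a) (hmemA b)) v₀ hv₀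
        show (a : AddMonoid.End V) v₀ - (b : AddMonoid.End V) v₀ = 0
        exact sub_eq_zero.mpr hab
      exact sub_eq_zero.mp h1
    · intro w
      by_cases hw : w = 0
      · exact ⟨0, by rw [hw]; rfl⟩
      · obtain ⟨i, hi⟩ := htr v₀ w hv₀ hw
        exact ⟨⟨T ^ i, pow_mem T i⟩, hi⟩
  rw [← hcard]
  exact artin_ring A hcomm hnzd τ s hs hτs hfixA (by rw [hcard]; exact hV)


/-- the monoid hom from automorphisms to additive endomorphisms -/
def toAddEnd (V : Type*) [CommGroup V] : MulAut V →* AddMonoid.End (Additive V) where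
  toFun f := MonoidHom.toAdditive f.toMonoidHom
  map_one' := rfl
  map_mul' _ _ := rfl

theorem toAddEnd_apply {V : Type*} [CommGroup V] (f : MulAut V) (v : Additive V) :
    toAddEnd V f v = Additive.ofMul (f v.toMul) := rfl

theorem toAddEnd_injective {V : Type*} [CommGroup V] : Function.Injective (toAddEnd V) := by
  intro f g h
  apply MulEquiv.ext
  intro v
  have h1 := congrArg (fun e : AddMonoid.End (Additive V) => (e (Additive.ofMul v)).toMul) h
  exact h1

/-- multiplicative version -/
theorem main_mul {V : Type*} [CommGroup V] [Finite V] (T S : MulAut V) (s : ℕ) (hs : s.Prime)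
    (htr : ∀ v w : V, v ≠ 1 → w ≠ 1 → ∃ i : ℕ, (T ^ i) v = w)
    (hS : S ^ s = 1) (j : ℕ) (hST : S * T = T ^ j * S)
    (hfix : ∀ i : ℕ, S * T ^ i = T ^ i * S → T ^ i = 1)
    (hV : 2 < Nat.card V) : Nat.card V = 2 ^ s := by
  haveI : Finite (Additive V) := ‹Finite V›
  have hcard : Nat.card (Additive V) = Nat.card V := rfl
  rw [← hcard]
  apply main_add (toAddEnd V T) (toAddEnd V S) s hs ?_ ?_ j ?_ ?_ (by rw [hcard]; exact hV)
  · intro v w hv hw
    obtain ⟨i, hi⟩ := htr v.toMul w.toMul (fun h => hv (by rw [← ofMul_toMul v, h]; rfl))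
      (fun h => hw (by rw [← ofMul_toMul w, h]; rfl))
    refine ⟨i, ?_⟩
    rw [← map_pow, toAddEnd_apply, hi]
    rfl
  · rw [← map_pow, hS, map_one]
  · rw [← map_pow, ← map_mul, ← map_mul, hST]
  · intro i hi
    rw [← map_pow, ← map_mul, ← map_mul] at hi
    rw [← map_pow, hfix i (toAddEnd_injective hi), map_one]

end Cfsg.Agent.Lib.Helper86.FieldLemma
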