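import Mathlib.LinearAlgebra.Matrix.GeneralLinearGroup.Card
import Mathlib.LinearAlgebra.Matrix.GeneralLinearGroup.FinTwo
import Mathlib.GroupTheory.Sylow
import Mathlib.Algebra.CharP.Basic
import Mathlib.FieldTheory.Finite.Basic

set_option autoImplicit false

namespace Cfsg.Agent.Lib.Helper86.GL2

open Matrix Matrix.GeneralLinearGroup

variable {F : Type*} [Field F]


/-- the unitriangular element -/
abbrev uE (x : F) : GL (Fin 2) F := upperRightHom x

theorem uE_val (x : F) : (uE x : Matrix (Fin 2) (Fin 2) F) = !![1, x; 0, 1] := rfl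

theorem mul_entry (g h : GL (Fin 2) F) (i j : Fin 2) :
    (g * h).val i j = g.val i 0 * h.val 0 j + g.val i 1 * h.val 1 j := by
  simp [Matrix.mul_apply, Fin.sum_univ_two]

theorem ext2 {g h : GL (Fin 2) F} (h00 : g.val 0 0 = h.val 0 0) (h01 : g.val 0 1 = h.val 0 1)
    (h10 : g.val 1 0 = h.val 1 0) (h11 : g.val 1 1 = h.val 1 1) : g = h := by
  apply Units.ext
  ext i j
  fin_cases i <;> fin_cases j <;> assumption

theorem det_eq (g : GL (Fin 2) F) : g.val 0 0 * g.val 1 1 - g.val 0 1 * g.val 1 0 ≠ 0 := by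
  have := Matrix.GeneralLinearGroup.det_ne_zero g
  rwa [Matrix.det_fin_two] at this

/-- the unitriangular subgroup -/
def U : Subgroup (GL (Fin 2) F) := (upperRightHom (R := F)).toMonoidHom.range

theorem mem_U {g : GL (Fin 2) F} : g ∈ U ↔ ∃ x : F, uE x = g := by
  constructor
  · rintro ⟨x, rfl⟩; exact ⟨Multiplicative.toAdd x, rfl⟩
  · rintro ⟨x, rfl⟩; exact ⟨Multiplicative.ofAdd x, rfl⟩

theorem mem_U_iff {g : GL (Fin 2) F} :
    g ∈ U ↔ g.val 0 0 = 1 ∧ g.val 1 0 = 0 ∧ g.val 1 1 = 1 := by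
  rw [mem_U]
  constructor
  · rintro ⟨x, rfl⟩; simp [uE_val]
  · rintro ⟨h1, h2, h3⟩
    refine ⟨g.val 0 1, ?_⟩
    apply ext2 <;> simp [uE_val, h1, h2, h3]

/-- the Borel subgroup -/
def B : Subgroup (GL (Fin 2) F) where
  carrier := {g | g.val 1 0 = 0}
  one_mem' := by simp
  mul_mem' := by
    intro g h hg hh
    simp only [Set.mem_ofPred_eq] at *
    rw [mul_entry, hg, hh]; ring
  inv_mem' := by
    intro g hg
    simp only [Set.mem_ofPred_eq] at *
    have h1 := mul_entry g g⁻¹ 1 0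
    rw [mul_inv_cancel, hg] at h1
    simp at h1
    have hd := det_eq g
    rw [hg] at hd
    rcases h1 with h1 | h1
    · rw [h1] at hd; simp at hd
    · simpa using h1

theorem mem_B {g : GL (Fin 2) F} : g ∈ B ↔ g.val 1 0 = 0 := Iff.rfl

theorem conj_key (k : GL (Fin 2) F) (s t : F) (h : k * uE s = uE t * k) (hs : s ≠ 0) :
    k.val 1 0 = 0 := by
  have h1 := congrArg (fun g : GL (Fin 2) F => g.val 1 1) h
  simp only [mul_entry, uE_val] at h1
  simp at h1
  rcases h1 with h1 | h1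
  · exact h1
  · exact absurd h1 hs

theorem conj_B (k : GL (Fin 2) F) (hk : k ∈ B) (s : F) :
    k * uE s = uE (k.val 0 0 * s / k.val 1 1) * k := by
  have hk' : k.val 1 0 = 0 := hk
  have hd := det_eq k
  rw [hk'] at hd
  have h11 : k.val 1 1 ≠ 0 := by
    intro h; rw [h] at hd; simp at hd
  apply ext2 <;> simp only [mul_entry, uE_val] <;> simp [hk']
  field_simp
  ring

theorem normalizer_U : Subgroup.normalizer ((U : Subgroup (GL (Fin 2) F)) : Set (GL (Fin 2) F)) = B := by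
  ext k
  rw [Subgroup.mem_normalizer_iff, mem_B]
  constructor
  · intro h
    have h1 : k * uE 1 * k⁻¹ ∈ U := (h (uE 1)).mp (mem_U.mpr ⟨1, rfl⟩)
    obtain ⟨t, ht⟩ := mem_U.mp h1
    have h2 : k * uE 1 = uE t * k := by rw [ht]; group
    exact conj_key k 1 t h2 one_ne_zero
  · intro hk g
    have hkB : k ∈ B := hk
    constructor
    · rintro hg
      obtain ⟨s, rfl⟩ := mem_U.mp hg
      rw [conj_B k hkB s]
      rw [mul_inv_cancel_right]
      exact mem_U.mpr ⟨_, rfl⟩
    · intro hg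
      obtain ⟨t, ht⟩ := mem_U.mp hg
      have hk' : k⁻¹ ∈ B := B.inv_mem hkB
      have h3 : g = k⁻¹ * uE t * k := by rw [ht]; group
      rw [h3, conj_B k⁻¹ hk' t]
      simp only [inv_mul_cancel_right]
      exact mem_U.mpr ⟨_, rfl⟩

theorem card_U : Nat.card (U : Subgroup (GL (Fin 2) F)) = Nat.card F := by
  have hinj : Function.Injective (upperRightHom (R := F)).toMonoidHom := by
    intro a b h
    have := injective_upperRightHom (R := F) (a₁ := Multiplicative.toAdd a) (a₂ := Multiplicative.toAdd b) h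
    exact this
  unfold U
  rw [← Nat.card_congr (MonoidHom.ofInjective hinj).toEquiv]
  exact Nat.card_congr Multiplicative.toAdd

/-- upper triangular element -/
def bE (a d : Fˣ) (b : F) : GL (Fin 2) F :=
  Matrix.GeneralLinearGroup.mkOfDetNeZero !![(a : F), b; 0, (d : F)] (by simp [Matrix.det_fin_two])

theorem bE_val (a d : Fˣ) (b : F) :
    (bE a d b : Matrix (Fin 2) (Fin 2) F) = !![(a : F), b; 0, (d : F)] := rfl

def equivB : (B : Subgroup (GL (Fin 2) F)) ≃ Fˣ × Fˣ × F where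
  toFun g := (Units.mk0 (g.1.val 0 0) (by
      have hd := det_eq g.1
      have h10 : g.1.val 1 0 = 0 := g.2
      rw [h10] at hd
      intro h; rw [h] at hd; simp at hd),
    Units.mk0 (g.1.val 1 1) (by
      have hd := det_eq g.1
      have h10 : g.1.val 1 0 = 0 := g.2
      rw [h10] at hd
      intro h; rw [h] at hd; simp at hd), g.1.val 0 1)
  invFun x := ⟨bE x.1 x.2.1 x.2.2, by rw [mem_B, bE_val]; simp⟩
  left_inv g := by
    apply Subtype.ext
    have h10 : g.1.val 1 0 = 0 := g.2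
    apply ext2 <;> simp [bE_val, h10]
  right_inv x := by
    obtain ⟨a, d, b⟩ := x
    simp [bE_val]

theorem card_B [Fintype F] : Nat.card (B : Subgroup (GL (Fin 2) F)) = (Nat.card F - 1) * ((Nat.card F - 1) * Nat.card F) := by
  rw [Nat.card_congr equivB, Nat.card_prod, Nat.card_prod, Nat.card_units]

theorem card_GL2 [Fintype F] : Nat.card (GL (Fin 2) F) = (Nat.card F ^ 2 - 1) * (Nat.card F ^ 2 - Nat.card F) := by
  rw [Matrix.card_GL_field, Fin.prod_univ_two]
  simp [Nat.card_eq_fintype_card]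

theorem ti_key (k : GL (Fin 2) F) (hk : k ∉ B) (u : GL (Fin 2) F) (hu : u ∈ U)
    (h : k * u * k⁻¹ ∈ U) : u = 1 := by
  obtain ⟨s, rfl⟩ := mem_U.mp hu
  obtain ⟨t, ht⟩ := mem_U.mp h
  have h2 : k * uE s = uE t * k := by rw [ht]; group
  by_cases hs : s = 0
  · rw [hs]; exact AddChar.map_zero_eq_one _
  · exact absurd (mem_B.mpr (conj_key k s t h2 hs)) hk

theorem mem_centralizer_uE (s : F) (hs : s ≠ 0) (k : GL (Fin 2) F) :
    k ∈ Subgroup.centralizer ({uE s} : Set (GL (Fin 2) F)) ↔ k.val 1 0 = 0 ∧ k.val 0 0 = k.val 1 1 := by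
  rw [Subgroup.mem_centralizer_singleton_iff]
  constructor
  · intro h
    have h1 := congrArg (fun g : GL (Fin 2) F => g.val 1 1) h
    have h2 := congrArg (fun g : GL (Fin 2) F => g.val 0 1) h
    simp only [mul_entry, uE_val] at h1 h2
    simp at h1 h2
    have h10 : k.val 1 0 = 0 := by
      rcases h1 with h1 | h1
      · exact h1
      · exact absurd h1 hs
    refine ⟨h10, ?_⟩
    have : s * (k.val 0 0 - k.val 1 1) = 0 := by linear_combination h2
    rcases mul_eq_zero.mp this with h | h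
    · exact absurd h hs
    · exact sub_eq_zero.mp h
  · rintro ⟨h1, h2⟩
    apply ext2 <;> simp only [mul_entry, uE_val] <;> simp [h1, h2]
    ring

def cE (a : Fˣ) (b : F) : GL (Fin 2) F :=
  Matrix.GeneralLinearGroup.mkOfDetNeZero !![(a : F), b; 0, (a : F)] (by simp [Matrix.det_fin_two])

theorem cE_val (a : Fˣ) (b : F) :
    (cE a b : Matrix (Fin 2) (Fin 2) F) = !![(a : F), b; 0, (a : F)] := rfl

def equivC (s : F) (hs : s ≠ 0) :
    (Subgroup.centralizer ({uE s} : Set (GL (Fin 2) F))) ≃ Fˣ × F where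
  toFun g := (Units.mk0 (g.1.val 0 0) (by
      have hd := det_eq g.1
      obtain ⟨h10, h00⟩ := (mem_centralizer_uE s hs g.1).mp g.2
      rw [h10, ← h00] at hd
      intro h; rw [h] at hd; simp at hd), g.1.val 0 1)
  invFun x := ⟨cE x.1 x.2, by rw [mem_centralizer_uE s hs, cE_val]; simp⟩
  left_inv g := by
    apply Subtype.ext
    obtain ⟨h10, h00⟩ := (mem_centralizer_uE s hs g.1).mp g.2
    apply ext2 <;> simp [cE_val, h10, h00]
  right_inv x := by
    obtain ⟨a, b⟩ := x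
    simp [cE_val]

theorem card_centralizer_uE [Fintype F] (s : F) (hs : s ≠ 0) :
    Nat.card (Subgroup.centralizer ({uE s} : Set (GL (Fin 2) F))) = (Nat.card F - 1) * Nat.card F := by
  rw [Nat.card_congr (equivC s hs), Nat.card_prod, Nat.card_units]

theorem card_centralizer_conj {G : Type*} [Group G] (g u : G) :
    Nat.card (Subgroup.centralizer ({g * u * g⁻¹} : Set G)) =
      Nat.card (Subgroup.centralizer ({u} : Set G)) := by
  refine Nat.card_congr
    { toFun := fun x => ⟨g⁻¹ * x.1 * g, ?_⟩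
      invFun := fun y => ⟨g * y.1 * g⁻¹, ?_⟩
      left_inv := fun x => by apply Subtype.ext; simp [mul_assoc]
      right_inv := fun y => by apply Subtype.ext; simp [mul_assoc] }
  · have hx := Subgroup.mem_centralizer_singleton_iff.mp x.2
    rw [Subgroup.mem_centralizer_singleton_iff]
    have e1 : g⁻¹ * x.1 * g * u = g⁻¹ * (x.1 * (g * u * g⁻¹)) * g := by group
    have e2 : u * (g⁻¹ * x.1 * g) = g⁻¹ * ((g * u * g⁻¹) * x.1) * g := by group
    rw [e1, e2, hx]
  · have hy := Subgroup.mem_centralizer_singleton_iff.mp y.2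
    rw [Subgroup.mem_centralizer_singleton_iff]
    have e1 : g * y.1 * g⁻¹ * (g * u * g⁻¹) = g * (y.1 * u) * g⁻¹ := by group
    have e2 : g * u * g⁻¹ * (g * y.1 * g⁻¹) = g * (u * y.1) * g⁻¹ := by group
    rw [e1, e2, hy]

section finite
variable [Fintype F] (p : ℕ) [Fact p.Prime] [CharP F p]

theorem exists_r : ∃ r : ℕ, 1 ≤ r ∧ Nat.card F = r + 1 := by
  have h : 1 < Nat.card F := Finite.one_lt_card
  exact ⟨Nat.card F - 1, by omega, by omega⟩

theorem p_dvd_q : p ∣ Nat.card F := by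
  obtain ⟨n, -, hn⟩ := FiniteField.card F p
  rw [Nat.card_eq_fintype_card, hn]
  exact dvd_pow_self p n.ne_zero

theorem isPGroup_U : IsPGroup p (U : Subgroup (GL (Fin 2) F)) := by
  obtain ⟨n, -, hn⟩ := FiniteField.card F p
  apply IsPGroup.of_card (n := n)
  rw [card_U, Nat.card_eq_fintype_card, hn]

theorem index_U : ∃ r : ℕ, 1 ≤ r ∧ Nat.card F = r + 1 ∧
    (U : Subgroup (GL (Fin 2) F)).index = (r ^ 2 + 2 * r) * r := by
  obtain ⟨r, hr1, hr⟩ := exists_r (F := F)
  refine ⟨r, hr1, hr, ?_⟩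
  have h := (U : Subgroup (GL (Fin 2) F)).index_mul_card
  rw [card_U, card_GL2, hr] at h
  have e1 : (r + 1) ^ 2 - 1 = r ^ 2 + 2 * r := by
    have : (r + 1) ^ 2 = r ^ 2 + 2 * r + 1 := by ring
    omega
  have e2 : (r + 1) ^ 2 - (r + 1) = (r + 1) * r := by
    have : (r + 1) ^ 2 = (r + 1) * r + (r + 1) := by ring
    omega
  rw [e1, e2] at h
  have h2 : (U : Subgroup (GL (Fin 2) F)).index * (r + 1) = ((r ^ 2 + 2 * r) * r) * (r + 1) := by
    rw [h]; ring
  exact Nat.eq_of_mul_eq_mul_right (Nat.succ_pos r) h2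

theorem not_dvd_index_U : ¬ p ∣ (U : Subgroup (GL (Fin 2) F)).index := by
  have hp : p.Prime := Fact.out
  obtain ⟨r, hr1, hr, hidx⟩ := index_U (F := F)
  have hpq := p_dvd_q (F := F) p
  rw [hr] at hpq
  rw [hidx]
  intro hdvd
  have e : (r ^ 2 + 2 * r) * r = r * r * (r + 2) := by ring
  rw [e] at hdvd
  have h1 : ¬ p ∣ r := by
    intro h
    have := (Nat.dvd_add_right h).mp hpq
    exact hp.one_lt.ne' (Nat.dvd_one.mp this)
  have h2 : ¬ p ∣ r + 2 := by
    intro h
    have h3 : p ∣ (r + 2) - (r + 1) := Nat.dvd_sub h hpq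
    have h4 : (r + 2) - (r + 1) = 1 := by omega
    rw [h4] at h3
    exact hp.one_lt.ne' (Nat.dvd_one.mp h3)
  rcases (Nat.Prime.dvd_mul hp).mp hdvd with h | h
  · rcases (Nat.Prime.dvd_mul hp).mp h with h | h <;> exact h1 h
  · exact h2 h

/-- `U` as a Sylow subgroup. -/
noncomputable def USylow : Sylow p (GL (Fin 2) F) := (isPGroup_U p).toSylow (not_dvd_index_U p)

theorem USylow_coe : ((USylow p : Sylow p (GL (Fin 2) F)) : Subgroup (GL (Fin 2) F)) = U :=
  IsPGroup.toSylow_coe _ _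

theorem index_B : (B : Subgroup (GL (Fin 2) F)).index = Nat.card F + 1 := by
  obtain ⟨r, hr1, hr⟩ := exists_r (F := F)
  have h := (B : Subgroup (GL (Fin 2) F)).index_mul_card
  rw [card_B, card_GL2, hr] at h
  have e1 : (r + 1) ^ 2 - 1 = r ^ 2 + 2 * r := by
    have : (r + 1) ^ 2 = r ^ 2 + 2 * r + 1 := by ring
    omega
  have e2 : (r + 1) ^ 2 - (r + 1) = (r + 1) * r := by
    have : (r + 1) ^ 2 = (r + 1) * r + (r + 1) := by ring
    omega
  rw [e1, e2, Nat.add_sub_cancel] at h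
  have h2 : (B : Subgroup (GL (Fin 2) F)).index * (r * (r * (r + 1))) = (r + 2) * (r * (r * (r + 1))) := by
    rw [h]; ring
  have hpos : 0 < r * (r * (r + 1)) := by positivity
  rw [hr]
  exact Nat.eq_of_mul_eq_mul_right hpos h2

theorem card_sylow : Nat.card (Sylow p (GL (Fin 2) F)) = Nat.card F + 1 := by
  have h1 : Nat.card (Sylow p (GL (Fin 2) F)) =
      (Subgroup.normalizer (((USylow p : Sylow p (GL (Fin 2) F)) : Subgroup (GL (Fin 2) F)) :
        Set (GL (Fin 2) F))).index := Sylow.card_eq_index_normalizer (USylow p)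
  rw [h1, USylow_coe, normalizer_U, index_B]

theorem card_normalizer_sylow (P : Sylow p (GL (Fin 2) F)) :
    Nat.card (Subgroup.normalizer ((P : Subgroup (GL (Fin 2) F)) : Set (GL (Fin 2) F))) =
      Nat.card F * (Nat.card F - 1) ^ 2 := by
  have h1 : Nat.card (Sylow p (GL (Fin 2) F)) =
      (Subgroup.normalizer ((P : Subgroup (GL (Fin 2) F)) :
        Set (GL (Fin 2) F))).index := Sylow.card_eq_index_normalizer P
  rw [card_sylow] at h1
  have h2 := (Subgroup.normalizer ((P : Subgroup (GL (Fin 2) F)) : Set (GL (Fin 2) F))).card_mul_index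
  rw [← h1, card_GL2] at h2
  obtain ⟨r, hr1, hr⟩ := exists_r (F := F)
  rw [hr] at h2 ⊢
  have e1 : (r + 1) ^ 2 - 1 = r ^ 2 + 2 * r := by
    have : (r + 1) ^ 2 = r ^ 2 + 2 * r + 1 := by ring
    omega
  have e2 : (r + 1) ^ 2 - (r + 1) = (r + 1) * r := by
    have : (r + 1) ^ 2 = (r + 1) * r + (r + 1) := by ring
    omega
  rw [e1, e2] at h2
  rw [Nat.add_sub_cancel]
  have h3 : Nat.card (Subgroup.normalizer ((P : Subgroup (GL (Fin 2) F)) : Set (GL (Fin 2) F))) * (r + 1 + 1) = ((r + 1) * r ^ 2) * (r + 1 + 1) := by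
    rw [h2]; ring
  exact Nat.eq_of_mul_eq_mul_right (by positivity) h3

theorem mem_smul_USylow {g x : GL (Fin 2) F} :
    x ∈ ((g • (USylow p : Sylow p (GL (Fin 2) F)) : Sylow p (GL (Fin 2) F)) : Subgroup (GL (Fin 2) F)) ↔
      g⁻¹ * x * g ∈ (U : Subgroup (GL (Fin 2) F)) := by
  rw [Sylow.coe_subgroup_smul, USylow_coe, Subgroup.mem_pointwise_smul_iff_inv_smul_mem]
  simp [MulAut.smul_def]

theorem sylow_inf_eq_bot (P Q : Sylow p (GL (Fin 2) F)) (h : P ≠ Q) :
    (P : Subgroup (GL (Fin 2) F)) ⊓ (Q : Subgroup (GL (Fin 2) F)) = ⊥ := by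
  obtain ⟨g, hg⟩ := MulAction.exists_smul_eq (GL (Fin 2) F) (USylow p) P
  obtain ⟨k, hk⟩ := MulAction.exists_smul_eq (GL (Fin 2) F) (USylow p) Q
  rw [eq_bot_iff]
  intro x hx
  rw [Subgroup.mem_inf, ← hg, ← hk, mem_smul_USylow, mem_smul_USylow] at hx
  obtain ⟨hx1, hx2⟩ := hx
  rw [Subgroup.mem_bot]
  have hnot : k⁻¹ * g ∉ (B : Subgroup (GL (Fin 2) F)) := by
    intro hB
    rw [← normalizer_U, ← USylow_coe p] at hB
    have h1 : (k⁻¹ * g) • (USylow p : Sylow p (GL (Fin 2) F)) = USylow p :=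
      Sylow.smul_eq_iff_mem_normalizer.mpr hB
    apply h
    rw [← hg, ← hk]
    calc g • (USylow p : Sylow p (GL (Fin 2) F)) = k • ((k⁻¹ * g) • USylow p) := by
          rw [smul_smul]; congr 1; group
      _ = k • USylow p := by rw [h1]
  have h3 : (k⁻¹ * g) * (g⁻¹ * x * g) * (k⁻¹ * g)⁻¹ ∈ (U : Subgroup (GL (Fin 2) F)) := by
    have : (k⁻¹ * g) * (g⁻¹ * x * g) * (k⁻¹ * g)⁻¹ = k⁻¹ * x * k := by group
    rw [this]; exact hx2
  have h4 := ti_key (k⁻¹ * g) hnot _ hx1 h3
  have : x = g * (g⁻¹ * x * g) * g⁻¹ := by group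
  rw [this, h4]; group


end finite

end Cfsg.Agent.Lib.Helper86.GL2
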