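import Mathlib

set_option autoImplicit false
set_option linter.style.haveILetI false
set_option linter.unusedSectionVars false

/-! Automorphisms of an internal semidirect product `P ⋊ ⟨x⟩` built from an automorphism of `P`
and a power map on `⟨x⟩`. -/

namespace Cfsg.Agent.Lib.Helper86.SemiAut

open Subgroup

variable {G : Type*} [Group G] [Finite G]

theorem commute_zpowers (x : G) (a b : zpowers x) : a * b = b * a := by
  apply Subtype.ext
  obtain ⟨i, hi⟩ := mem_zpowers_iff.mp a.2
  obtain ⟨j, hj⟩ := mem_zpowers_iff.mp b.2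
  simp only [Subgroup.coe_mul, ← hi, ← hj, ← zpow_add, add_comm]

/-- The `k`-th power map on the cyclic group `⟨x⟩`. -/
def powHom (x : G) (k : ℕ) : zpowers x →* zpowers x where
  toFun y := y ^ k
  map_one' := one_pow k
  map_mul' a b := (show Commute a b from commute_zpowers x a b).mul_pow k

/-- The `k`-th power automorphism of the cyclic group `⟨x⟩` when `k` is coprime to its order. -/
noncomputable def powEquiv (x : G) (k : ℕ) (hk : (orderOf x).Coprime k) : zpowers x ≃* zpowers x :=
  MulEquiv.ofBijective (powHom x k) (by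
    have hinj : Function.Injective (powHom x k) := by
      rw [injective_iff_map_eq_one]
      intro y hy
      have h1 : y ^ k = 1 := hy
      have h2 : orderOf y ∣ k := orderOf_dvd_of_pow_eq_one h1
      have h3 : orderOf y ∣ orderOf x := by
        have := orderOf_dvd_natCard y
        rwa [Nat.card_zpowers] at this
      have h4 : orderOf y = 1 := Nat.eq_one_of_dvd_coprimes hk h3 h2
      exact orderOf_eq_one_iff.mp h4
    exact ⟨hinj, Finite.surjective_of_injective hinj⟩)

theorem powEquiv_apply (x : G) (k : ℕ) (hk : (orderOf x).Coprime k) (y : zpowers x) :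
    powEquiv x k hk y = y ^ k := rfl

theorem exists_aut (P : Subgroup G) [hPn : P.Normal] (x : G) (hc : P.IsComplement' (zpowers x))
    (A : P ≃* P) (k : ℕ) (hk : (orderOf x).Coprime k)
    (hA : ∀ v : P, ((A ⟨x * v * x⁻¹, hPn.conj_mem v v.2 x⟩ : P) : G) = x ^ k * (A v : G) * (x ^ k)⁻¹) :
    ∃ α : MulAut G, α x = x ^ k ∧ ∀ v : P, α (v : G) = (A v : G) := by
  -- the conjugation formula for all elements of `⟨x⟩`
  have hAn : ∀ n : ℕ, ∀ v : P, ((A ⟨x ^ n * v * (x ^ n)⁻¹, hPn.conj_mem v v.2 (x ^ n)⟩ : P) : G) =
      (x ^ n) ^ k * (A v : G) * ((x ^ n) ^ k)⁻¹ := by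
    intro n
    induction n with
    | zero =>
      intro v
      simp
    | succ n ih =>
      intro v
      have h1 : (⟨x ^ (n + 1) * v * (x ^ (n + 1))⁻¹, hPn.conj_mem v v.2 (x ^ (n + 1))⟩ : P) =
          ⟨x * (⟨x ^ n * v * (x ^ n)⁻¹, hPn.conj_mem v v.2 (x ^ n)⟩ : P) * x⁻¹,
            hPn.conj_mem _ (hPn.conj_mem v v.2 (x ^ n)) x⟩ := by
        apply Subtype.ext
        simp only [pow_succ']
        group
      rw [h1, hA, ih]
      have h2 : (x ^ (n + 1)) ^ k = x ^ k * (x ^ n) ^ k := by
        rw [← pow_mul, ← pow_mul, ← pow_add]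
        congr 1
        ring
      rw [h2]
      group
  set e := SemidirectProduct.mulEquivSubgroup hc with he
  have hcoe : ∀ (g : zpowers x) (v : P),
      (((P.normalizerMonoidHom ((inclusion (P.normalizer_eq_top ▸ le_top)) g)) v : P) : G) =
        (g : G) * (v : G) * (g : G)⁻¹ := by
    intro g v
    simp
  have hcond : ∀ g : zpowers x,
      (((P.normalizerMonoidHom).comp (inclusion (P.normalizer_eq_top ▸ le_top))) g).trans A =
        A.trans (((P.normalizerMonoidHom).comp (inclusion (P.normalizer_eq_top ▸ le_top)))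
          (powEquiv x k hk g)) := by
    intro g
    obtain ⟨n, hn⟩ := mem_powers_iff_mem_zpowers.mpr g.2
    apply MulEquiv.ext
    intro v
    apply Subtype.ext
    have h1 : (g : G) = x ^ n := hn.symm
    have h2 := hAn n v
    have h3 : (P.normalizerMonoidHom ((inclusion (P.normalizer_eq_top ▸ le_top)) g)) v =
        ⟨x ^ n * v * (x ^ n)⁻¹, hPn.conj_mem v v.2 (x ^ n)⟩ := by
      apply Subtype.ext
      rw [hcoe, h1]
    simp only [MulEquiv.trans_apply, MonoidHom.coe_comp, Function.comp_apply]
    rw [h3, h2, hcoe, powEquiv_apply, Subgroup.coe_pow, h1]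
  refine ⟨e.symm.trans ((SemidirectProduct.congr A (powEquiv x k hk) hcond).trans e), ?_, ?_⟩
  · have h1 : e.symm x = SemidirectProduct.inr ⟨x, mem_zpowers x⟩ := by
      rw [MulEquiv.symm_apply_eq, he]
      simp
    simp only [MulEquiv.trans_apply, h1]
    rw [he]
    have h2 : (SemidirectProduct.congr A (powEquiv x k hk) hcond)
        (SemidirectProduct.inr ⟨x, mem_zpowers x⟩) =
        SemidirectProduct.inr ((⟨x, mem_zpowers x⟩ : zpowers x) ^ k) := by
      apply SemidirectProduct.ext
      · simp only [SemidirectProduct.congr_apply_left, SemidirectProduct.left_inr, map_one]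
      · simp only [SemidirectProduct.congr_apply_right, SemidirectProduct.right_inr,
          powEquiv_apply]
    rw [h2]
    simp
  · intro v
    have h1 : e.symm (v : G) = SemidirectProduct.inl v := by
      rw [MulEquiv.symm_apply_eq, he]
      simp
    simp only [MulEquiv.trans_apply, h1]
    rw [he]
    simp [SemidirectProduct.congr]

end Cfsg.Agent.Lib.Helper86.SemiAut
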