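import Cfsg.Agent.Lib.Helper86.Bridge
import Cfsg.Agent.Lib.Helper86.SemiAut

set_option autoImplicit false
set_option linter.style.haveILetI false
set_option linter.unusedSectionVars false

/-! Laffey–MacHale: groups of mixed order whose automorphism group has three orbits. -/

namespace Cfsg.Agent.Lib.Helper86.LM

open Subgroup
open scoped IsMulCommutative

variable {G : Type*} [Group G] [Finite G]

/-- If `y` acts fixed-point-freely on the normal subgroup `P`, then every element of the coset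
`P y` is `P`-conjugate to `y`. -/
theorem exists_conj_of_fpf (P : Subgroup G) [hPn : P.Normal] (y : G)
    (hy : ∀ u ∈ P, y * u * y⁻¹ = u → u = 1) (v : G) (hv : v ∈ P) :
    ∃ u ∈ P, u * y * u⁻¹ = v * y := by
  let f : P → P := fun u =>
    ⟨u * (y * u⁻¹ * y⁻¹), P.mul_mem u.2 (hPn.conj_mem _ (P.inv_mem u.2) y)⟩
  have hinj : Function.Injective f := by
    intro u u' h
    have h1 : (u : G) * (y * (u : G)⁻¹ * y⁻¹) = u' * (y * (u' : G)⁻¹ * y⁻¹) :=
      congrArg Subtype.val h
    have h2 : y * ((u' : G)⁻¹ * u) * y⁻¹ = (u' : G)⁻¹ * u := by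
      calc y * ((u' : G)⁻¹ * u) * y⁻¹
          = (u' : G)⁻¹ * (u' * (y * (u' : G)⁻¹ * y⁻¹)) * (y * u * y⁻¹) := by group
        _ = (u' : G)⁻¹ * (u * (y * (u : G)⁻¹ * y⁻¹)) * (y * u * y⁻¹) := by rw [h1]
        _ = (u' : G)⁻¹ * u := by group
    have h3 := hy _ (P.mul_mem (P.inv_mem u'.2) u.2) h2
    apply Subtype.ext
    have h4 : (u : G) = u' * ((u' : G)⁻¹ * u) := by group
    rw [h4, h3, mul_one]
  obtain ⟨u, hu⟩ := Finite.surjective_of_injective hinj ⟨v, hv⟩
  refine ⟨u, u.2, ?_⟩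
  have h1 : (u : G) * (y * (u : G)⁻¹ * y⁻¹) = v := congrArg Subtype.val hu
  rw [← h1]
  group

theorem exists_decomp (P : Subgroup G) (x : G) (hc : P.IsComplement' (zpowers x)) (g : G) :
    ∃ v ∈ P, ∃ k : ℕ, g = v * x ^ k := by
  obtain ⟨⟨v, y⟩, h⟩ := hc.2 g
  obtain ⟨k, hk⟩ := mem_powers_iff_mem_zpowers.mpr y.2
  refine ⟨v, v.2, k, ?_⟩
  rw [← h]
  show (v : G) * y = v * x ^ k
  rw [← hk]

theorem card_quotient_eq_three {α : Type*} (s : Setoid α) (a b c : α)
    (hab : ¬ s a b) (hac : ¬ s a c) (hbc : ¬ s b c)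
    (hall : ∀ g, s g a ∨ s g b ∨ s g c) : Nat.card (Quotient s) = 3 := by
  classical
  have hall' : ∀ x : Quotient s, x = ⟦a⟧ ∨ x = ⟦b⟧ ∨ x = ⟦c⟧ := by
    intro x
    induction x using Quotient.inductionOn with
    | _ g =>
      rcases hall g with h | h | h
      · exact Or.inl (Quotient.sound h)
      · exact Or.inr (Or.inl (Quotient.sound h))
      · exact Or.inr (Or.inr (Quotient.sound h))
  haveI : Finite (Quotient s) := by
    apply Finite.of_surjective (fun i : Fin 3 => (![⟦a⟧, ⟦b⟧, ⟦c⟧] : Fin 3 → Quotient s) i)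
    intro x
    rcases hall' x with h | h | h
    · exact ⟨0, h.symm⟩
    · exact ⟨1, h.symm⟩
    · exact ⟨2, h.symm⟩
  haveI := Fintype.ofFinite (Quotient s)
  rw [Nat.card_eq_fintype_card, ← Finset.card_univ, Finset.card_eq_three]
  refine ⟨⟦a⟧, ⟦b⟧, ⟦c⟧, fun h => hab (Quotient.exact h), fun h => hac (Quotient.exact h),
    fun h => hbc (Quotient.exact h), ?_⟩
  ext x
  simp only [Finset.mem_univ, Finset.mem_insert, Finset.mem_singleton, true_iff]
  exact hall' x

theorem exists_of_card_quotient_eq_three {α : Type*} (s : Setoid α)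
    (h3 : Nat.card (Quotient s) = 3) (a b c : α)
    (hab : ¬ s a b) (hac : ¬ s a c) (hbc : ¬ s b c) (g : α) : s g a ∨ s g b ∨ s g c := by
  classical
  haveI : Finite (Quotient s) := Nat.finite_of_card_ne_zero (by omega)
  haveI := Fintype.ofFinite (Quotient s)
  have h1 : ({⟦a⟧, ⟦b⟧, ⟦c⟧} : Finset (Quotient s)) = Finset.univ := by
    apply Finset.eq_univ_of_card
    rw [← Nat.card_eq_fintype_card, h3]
    rw [Finset.card_eq_three]
    exact ⟨⟦a⟧, ⟦b⟧, ⟦c⟧, fun h => hab (Quotient.exact h), fun h => hac (Quotient.exact h),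
      fun h => hbc (Quotient.exact h), rfl⟩
  have h2 : (⟦g⟧ : Quotient s) ∈ ({⟦a⟧, ⟦b⟧, ⟦c⟧} : Finset (Quotient s)) := by
    rw [h1]; exact Finset.mem_univ _
  simp only [Finset.mem_insert, Finset.mem_singleton] at h2
  rcases h2 with h | h | h
  · exact Or.inl (Quotient.exact h)
  · exact Or.inr (Or.inl (Quotient.exact h))
  · exact Or.inr (Or.inr (Quotient.exact h))

theorem orbitRel_iff (g h : G) :
    (MulAction.orbitRel (MulAut G) G) g h ↔ ∃ α : MulAut G, α h = g := by
  rw [MulAction.orbitRel_apply, MulAction.mem_orbit_iff]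
  rfl

theorem bwd {p q n : ℕ} [hp : Fact p.Prime] [hq : Fact q.Prime] (hpq : p ≠ q) (hn : 1 ≤ n)
    (hcard : Nat.card G = p ^ n * q)
    (P : Subgroup G) [hPn : P.Normal] [hPc : IsMulCommutative P] (hPcard : Nat.card P = p ^ n)
    (hexp : ∀ a ∈ P, a ^ p = 1)
    (hord : orderOf ((p : ℕ) : ZMod q) = q - 1)
    (hfpf : ∀ x y : G, orderOf x = q → orderOf y = p → x * y * x⁻¹ ≠ y) :
    Nat.card (MulAction.orbitRel.Quotient (MulAut G) G) = 3 := by
  -- x of order q
  obtain ⟨x, hx⟩ := exists_prime_orderOf_dvd_card' (G := G) q (by rw [hcard]; exact dvd_mul_left q _)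
  have hzcard : Nat.card (zpowers x) = q := by rw [Nat.card_zpowers, hx]
  have hcop : (p ^ n).Coprime q :=
    Nat.Coprime.pow_left n ((Nat.coprime_primes hp.out hq.out).mpr hpq)
  have hc : P.IsComplement' (zpowers x) :=
    isComplement'_of_coprime (by rw [hPcard, hzcard, hcard]) (by rw [hPcard, hzcard]; exact hcop)
  have hexp' : ∀ a : P, a ^ p = 1 := fun a => Subtype.ext (by simpa using hexp a a.2)
  have hordP : ∀ a ∈ P, a ≠ 1 → orderOf a = p :=
    fun a ha ha1 => orderOf_eq_prime (hexp a ha) ha1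
  have hcopk : ∀ k, 0 < k → k < q → (orderOf x).Coprime k := by
    intro k hk0 hkq
    rw [hx]
    exact (Nat.Prime.coprime_iff_not_dvd hq.out).mpr (Nat.not_dvd_of_pos_of_lt hk0 hkq)
  have hxk : ∀ k, 0 < k → k < q → orderOf (x ^ k) = q := by
    intro k hk0 hkq
    rw [(hcopk k hk0 hkq).orderOf_pow, hx]
  have hfpfk : ∀ k, 0 < k → k < q → ∀ a : P,
      (MulAut.conjNormal (x ^ k) : MulAut P) a = a → a = 1 := by
    intro k hk0 hkq a ha
    by_contra ha1
    have h1 : ((MulAut.conjNormal (x ^ k) : MulAut P) a : G) = a := congrArg Subtype.val ha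
    rw [MulAut.conjNormal_apply] at h1
    exact hfpf (x ^ k) a (hxk k hk0 hkq) (hordP a a.2 (fun h => ha1 (Subtype.ext h))) h1
  have hpowq : ∀ k, (MulAut.conjNormal (x ^ k) : MulAut P) ^ q = 1 := by
    intro k
    rw [← map_pow, ← pow_mul, mul_comm, pow_mul, ← hx, pow_orderOf_eq_one, one_pow, map_one]
  have hq1 : 1 < q := hq.out.one_lt
  have hpowq1 : (MulAut.conjNormal x : MulAut P) ^ q = 1 := by simpa using hpowq 1
  have hfpf1 : ∀ a : P, (MulAut.conjNormal x : MulAut P) a = a → a = 1 := by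
    simpa using hfpfk 1 Nat.one_pos hq1
  -- key automorphisms
  have key1 : ∀ k, 0 < k → k < q → ∃ α : MulAut G, α x = x ^ k := by
    intro k hk0 hkq
    obtain ⟨B, hB⟩ := Bridge.exists_mulEquiv_intertwining hpq hord hexp'
      (MulAut.conjNormal x) (MulAut.conjNormal (x ^ k)) hpowq1 hfpf1 (hpowq k) (hfpfk k hk0 hkq)
    obtain ⟨α, hα, -⟩ := SemiAut.exists_aut P x hc B k (hcopk k hk0 hkq) (fun v => by
      have h1 := congrArg Subtype.val (hB v)
      rw [MulAut.conjNormal_apply] at h1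
      rw [← h1]
      congr 2)
    exact ⟨α, hα⟩
  have key2 : ∀ v w : P, v ≠ 1 → w ≠ 1 → ∃ α : MulAut G, α (v : G) = w := by
    intro v w hv hw
    obtain ⟨B, hB, hBv⟩ := Bridge.exists_mulEquiv_commuting hpq hord hexp'
      (MulAut.conjNormal x) hpowq1 hfpf1 v w hv hw
    obtain ⟨α, -, hα⟩ := SemiAut.exists_aut P x hc B 1 (by simp) (fun u => by
      have h1 := congrArg Subtype.val (hB u)
      rw [MulAut.conjNormal_apply] at h1
      rw [pow_one, ← h1]
      congr 2)
    exact ⟨α, by rw [hα, hBv]⟩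
  -- a nonidentity element of P
  obtain ⟨a, ha1⟩ : ∃ a : P, a ≠ 1 := by
    haveI : Nontrivial P := by
      rw [← Finite.one_lt_card_iff_nontrivial, hPcard]
      exact Nat.one_lt_pow (by omega) hp.out.one_lt
    exact exists_ne 1
  have ha1' : (a : G) ≠ 1 := fun h => ha1 (Subtype.ext h)
  have hx1 : x ≠ 1 := by
    intro h
    rw [h, orderOf_one] at hx
    omega
  have hxP : x ∉ P := by
    intro h
    have h1 : x ^ p = 1 := hexp x h
    have h2 : q ∣ p := hx ▸ orderOf_dvd_of_pow_eq_one h1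
    exact hpq ((Nat.prime_dvd_prime_iff_eq hq.out hp.out).mp h2).symm
  -- the three orbits
  show Nat.card (Quotient (MulAction.orbitRel (MulAut G) G)) = 3
  apply card_quotient_eq_three _ (1 : G) (a : G) x
  · rw [orbitRel_iff]
    rintro ⟨α, hα⟩
    exact ha1' (by simpa using hα)
  · rw [orbitRel_iff]
    rintro ⟨α, hα⟩
    exact hx1 (by simpa using hα)
  · rw [orbitRel_iff]
    rintro ⟨α, hα⟩
    apply hxP
    have h1 : orderOf (α x) = orderOf x := MulEquiv.orderOf_eq α x
    rw [hα, hx, hordP a a.2 ha1'] at h1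
    exact absurd h1 hpq
  · intro g
    simp only [orbitRel_iff]
    by_cases hgP : g ∈ P
    · by_cases hg1 : g = 1
      · exact Or.inl ⟨1, by simp [hg1]⟩
      · right; left
        exact key2 a ⟨g, hgP⟩ ha1 (fun h => hg1 (congrArg Subtype.val h))
    · right; right
      obtain ⟨v, hv, k, hk⟩ := exists_decomp P x hc g
      have hk' : g = v * x ^ (k % q) := by
        rw [hk, ← hx, pow_mod_orderOf]
      have hk0 : 0 < k % q := by
        rcases Nat.eq_zero_or_pos (k % q) with h | h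
        · exfalso
          apply hgP
          rw [hk', h, pow_zero, mul_one]
          exact hv
        · exact h
      have hkq : k % q < q := Nat.mod_lt _ hq.out.pos
      obtain ⟨α, hα⟩ := key1 (k % q) hk0 hkq
      obtain ⟨u, hu, huv⟩ := exists_conj_of_fpf P (x ^ (k % q)) (fun u hu h => by
        have := hfpfk (k % q) hk0 hkq ⟨u, hu⟩ (Subtype.ext (by
          rw [MulAut.conjNormal_apply]; exact h))
        exact congrArg Subtype.val this) v hv
      refine ⟨MulAut.conj u * α, ?_⟩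
      rw [MulAut.mul_apply, hα, MulAut.conj_apply, huv, hk']

end Cfsg.Agent.Lib.Helper86.LM
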