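import Cfsg.Agent.Lib.Helper86.LM
import Cfsg.Agent.Lib.Helper3.Burnside
import Cfsg.Agent.S0040

set_option autoImplicit false
set_option linter.style.haveILetI false
set_option linter.unusedSectionVars false

/-! Laffey–MacHale, forward direction. -/

namespace Cfsg.Agent.Lib.Helper86.LM

open Subgroup
open scoped IsMulCommutative

variable {G : Type*} [Group G] [Finite G]

/-- Restriction of automorphisms to a characteristic subgroup. -/
def restrictAut (D : Subgroup G) (hD : ∀ β : MulAut G, ∀ g ∈ D, β g ∈ D) (α : MulAut G) :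
    D ≃* D where
  toFun a := ⟨α a, hD α a a.2⟩
  invFun a := ⟨α⁻¹ a, hD α⁻¹ a a.2⟩
  left_inv a := Subtype.ext (by simp)
  right_inv a := Subtype.ext (by simp)
  map_mul' a b := Subtype.ext (by simp)

theorem coe_restrictAut (D : Subgroup G) (hD : ∀ β : MulAut G, ∀ g ∈ D, β g ∈ D) (α : MulAut G)
    (a : D) : ((restrictAut D hD α a : D) : G) = α a := rfl

theorem fwd_orders (h3 : Nat.card (MulAction.orbitRel.Quotient (MulAut G) G) = 3)
    (hnpp : ¬ IsPrimePow (Nat.card G)) (hnt : Nat.card G ≠ 1) :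
    ∃ p q : ℕ, p.Prime ∧ q.Prime ∧ p ≠ q ∧ (∃ a : G, orderOf a = p) ∧ (∃ b : G, orderOf b = q) ∧
      (∀ g : G, orderOf g = 1 ∨ orderOf g = p ∨ orderOf g = q) ∧
      (∀ g h : G, orderOf g = orderOf h → ∃ α : MulAut G, α g = h) := by
  have hpos : Nat.card G ≠ 0 := Nat.card_pos.ne'
  set p := (Nat.card G).minFac with hp_def
  have hp : p.Prime := Nat.minFac_prime hnt
  have hpd : p ∣ Nat.card G := Nat.minFac_dvd _
  obtain ⟨q, hq, hqd, hqp⟩ : ∃ q : ℕ, q.Prime ∧ q ∣ Nat.card G ∧ q ≠ p := by
    by_contra hcon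
    push Not at hcon
    have h1 := Nat.eq_prime_pow_of_unique_prime_dvd hpos (fun {d} hd hdvd => hcon d hd hdvd)
    apply hnpp
    rw [h1]
    apply hp.isPrimePow.pow
    intro h0
    rw [h0, pow_zero] at h1
    exact hnt h1
  haveI : Fact p.Prime := ⟨hp⟩
  haveI : Fact q.Prime := ⟨hq⟩
  obtain ⟨a, ha⟩ := exists_prime_orderOf_dvd_card' (G := G) p hpd
  obtain ⟨b, hb⟩ := exists_prime_orderOf_dvd_card' (G := G) q hqd
  have hinv : ∀ (α : MulAut G) (g : G), orderOf (α g) = orderOf g := fun α g =>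
    MulEquiv.orderOf_eq α g
  have h3' : Nat.card (Quotient (MulAction.orbitRel (MulAut G) G)) = 3 := h3
  have hrel := exists_of_card_quotient_eq_three _ h3' (1 : G) a b
    (by
      rw [orbitRel_iff]; rintro ⟨α, hα⟩
      have := hinv α a
      rw [hα, orderOf_one, ha] at this
      exact hp.one_lt.ne this)
    (by
      rw [orbitRel_iff]; rintro ⟨α, hα⟩
      have := hinv α b
      rw [hα, orderOf_one, hb] at this
      exact hq.one_lt.ne this)
    (by
      rw [orbitRel_iff]; rintro ⟨α, hα⟩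
      have := hinv α b
      rw [hα, ha, hb] at this
      exact hqp this.symm)
  simp only [orbitRel_iff] at hrel
  have key : ∀ g : G, ∃ α : MulAut G,
      α (if orderOf g = 1 then 1 else if orderOf g = p then a else b) = g := by
    intro g
    rcases hrel g with ⟨α, hα⟩ | ⟨α, hα⟩ | ⟨α, hα⟩
    · have h1 : orderOf g = 1 := by rw [← hα, hinv, orderOf_one]
      exact ⟨α, by rw [if_pos h1]; exact hα⟩
    · have h1 : orderOf g = p := by rw [← hα, hinv, ha]
      have h2 : orderOf g ≠ 1 := by rw [h1]; exact hp.one_lt.ne'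
      exact ⟨α, by rw [if_neg h2, if_pos h1]; exact hα⟩
    · have h1 : orderOf g = q := by rw [← hα, hinv, hb]
      have h2 : orderOf g ≠ 1 := by rw [h1]; exact hq.one_lt.ne'
      have h4 : orderOf g ≠ p := by rw [h1]; exact hqp
      exact ⟨α, by rw [if_neg h2, if_neg h4]; exact hα⟩
  refine ⟨p, q, hp, hq, hqp.symm, ⟨a, ha⟩, ⟨b, hb⟩, ?_, ?_⟩
  · intro g
    rcases hrel g with ⟨α, hα⟩ | ⟨α, hα⟩ | ⟨α, hα⟩
    · left; rw [← hα, hinv, orderOf_one]
    · right; left; rw [← hα, hinv, ha]
    · right; right; rw [← hα, hinv, hb]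
  · intro g h hgh
    obtain ⟨α₁, h₁⟩ := key g
    obtain ⟨α₂, h₂⟩ := key h
    rw [← hgh] at h₂
    refine ⟨α₂ * α₁⁻¹, ?_⟩
    rw [MulAut.mul_apply]
    conv_lhs => rw [← h₁]
    rw [MulAut.inv_apply_self, h₂]

theorem card_eq_of_two_primes {r s : ℕ} (hr : r.Prime) (hs : s.Prime) (hrs : r ≠ s) (N : ℕ)
    (hN : N ≠ 0) (hr' : r ∣ N) (hs' : s ∣ N) (h : ∀ t : ℕ, t.Prime → t ∣ N → t = r ∨ t = s) :
    N = r ^ N.factorization r * s ^ N.factorization s := by
  have h1 : N.primeFactors = {r, s} := by
    ext t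
    simp only [Nat.mem_primeFactors, Finset.mem_insert, Finset.mem_singleton]
    constructor
    · rintro ⟨ht, htd, -⟩
      exact h t ht htd
    · rintro (rfl | rfl)
      · exact ⟨hr, hr', hN⟩
      · exact ⟨hs, hs', hN⟩
  have h2 := Nat.prod_factorization_pow_eq_self hN
  rw [Finsupp.prod, Nat.support_factorization, h1, Finset.prod_pair hrs] at h2
  exact h2.symm

theorem no_commute {r s : ℕ} (hr : r.Prime) (hs : s.Prime) (hrs : r ≠ s)
    (hord : ∀ g : G, orderOf g = 1 ∨ orderOf g = r ∨ orderOf g = s) (x y : G)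
    (hx : orderOf x = s) (hy : orderOf y = r) : ¬ Commute x y := by
  intro hxy
  have hcop : (orderOf x).Coprime (orderOf y) := by
    rw [hx, hy]; exact (Nat.coprime_primes hs hr).mpr hrs.symm
  have h1 := hxy.orderOf_mul_eq_mul_orderOf_of_coprime hcop
  rw [hx, hy] at h1
  have hr1 := hr.one_lt
  have hs1 := hs.one_lt
  rcases hord (x * y) with h | h | h
  · rw [h] at h1
    have : s ∣ 1 := ⟨r, h1⟩
    exact hs.one_lt.ne' (Nat.dvd_one.mp this)
  · rw [h] at h1
    have : s = 1 := by
      have h2 : 1 * r = s * r := by rw [one_mul]; exact h1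
      exact (Nat.eq_of_mul_eq_mul_right hr.pos h2).symm
    omega
  · rw [h] at h1
    have : r = 1 := by
      have h2 : s * 1 = s * r := by rw [mul_one]; exact h1
      exact (Nat.eq_of_mul_eq_mul_left hs.pos h2).symm
    omega

theorem fwd_core {r s : ℕ} [hr : Fact r.Prime] [hs : Fact s.Prime] (hrs : r ≠ s)
    (hord : ∀ g : G, orderOf g = 1 ∨ orderOf g = r ∨ orderOf g = s)
    (htrans : ∀ g h : G, orderOf g = orderOf h → ∃ α : MulAut G, α g = h)
    (D : Subgroup G) (hDchar : ∀ α : MulAut G, ∀ g ∈ D, α g ∈ D) (hDtop : D ≠ ⊤)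
    (d : G) (hdD : d ∈ D) (hdr : orderOf d = r) (b : G) (hbs : orderOf b = s) :
    ∃ n : ℕ, 1 ≤ n ∧ Nat.card G = r ^ n * s ∧
      (∀ P : Sylow r G, (P : Subgroup G).Normal ∧ IsMulCommutative (P : Subgroup G) ∧
        ∀ a ∈ (P : Subgroup G), a ^ r = 1) ∧
      orderOf ((r : ℕ) : ZMod s) = s - 1 ∧
      ∀ x y : G, orderOf x = s → orderOf y = r → x * y * x⁻¹ ≠ y := by
  have hr1 : 1 < r := hr.out.one_lt
  have hs1 : 1 < s := hs.out.one_lt
  -- (1) description of D
  have hDiff : ∀ g, g ∈ D ↔ orderOf g = 1 ∨ orderOf g = r := by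
    intro g
    constructor
    · intro hg
      rcases hord g with h | h | h
      · exact Or.inl h
      · exact Or.inr h
      · exfalso
        apply hDtop
        rw [eq_top_iff]
        intro y _
        rcases hord y with h1 | h1 | h1
        · rw [orderOf_eq_one_iff.mp h1]; exact D.one_mem
        · obtain ⟨α, hα⟩ := htrans d y (hdr.trans h1.symm)
          rw [← hα]; exact hDchar α d hdD
        · obtain ⟨α, hα⟩ := htrans g y (h.trans h1.symm)
          rw [← hα]; exact hDchar α g hg
    · rintro (h | h)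
      · rw [orderOf_eq_one_iff.mp h]; exact D.one_mem
      · obtain ⟨α, hα⟩ := htrans d g (hdr.trans h.symm)
        rw [← hα]; exact hDchar α d hdD
  -- (2) normal
  haveI hDn : D.Normal := ⟨fun g hg h => by simpa using hDchar (MulAut.conj h) g hg⟩
  -- (3) exponent
  have hDexp : ∀ g ∈ D, g ^ r = 1 := by
    intro g hg
    rcases (hDiff g).mp hg with h | h
    · rw [orderOf_eq_one_iff.mp h, one_pow]
    · rw [← h, pow_orderOf_eq_one]
  have hDp : IsPGroup r D := fun g => ⟨1, by
    rw [pow_one]; exact Subtype.ext (by simpa using hDexp g g.2)⟩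
  have hd1 : d ≠ 1 := by
    intro h; rw [h, orderOf_one] at hdr; omega
  have hDne : D ≠ ⊥ := by
    intro h; rw [h, mem_bot] at hdD; exact hd1 hdD
  have hnocomm := no_commute hr.out hs.out hrs hord
  -- (5) every Sylow r-subgroup equals D
  have hprimepow : ∀ (t u : ℕ), t.Prime → u.Prime → t ≠ u → ∀ k, u ≠ t ^ k := by
    intro t u ht hu htu k h
    have hk : k ≠ 0 := by
      intro h0; rw [h0, pow_zero] at h; exact hu.one_lt.ne' h
    have h1 : t ∣ u := by rw [h]; exact dvd_pow_self t hk
    exact htu ((Nat.prime_dvd_prime_iff_eq ht hu).mp h1)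
  have hSyl : ∀ S : Sylow r G, (S : Subgroup G) = D := by
    intro S
    have hle : (S : Subgroup G) ≤ D := by
      intro g hg
      obtain ⟨k, hk⟩ := (IsPGroup.iff_orderOf.mp S.isPGroup') ⟨g, hg⟩
      rw [Subgroup.orderOf_mk] at hk
      rw [hDiff]
      rcases hord g with h | h | h
      · exact Or.inl h
      · exact Or.inr h
      · exfalso
        rw [h] at hk
        exact hprimepow r s hr.out hs.out hrs k hk
    exact (S.is_maximal' hDp hle).symm
  -- (6) D is abelian
  have hcomm : ∀ w ∈ D, ∀ y ∈ D, w * y = y * w := by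
    haveI : Nontrivial D := (Subgroup.nontrivial_iff_ne_bot D).mpr hDne
    haveI := hDp.center_nontrivial
    obtain ⟨z, hz1⟩ := exists_ne (1 : Subgroup.center D)
    have hzc : ∀ y : D, y * (z : D) = (z : D) * y := fun y => Subgroup.mem_center_iff.mp z.2 y
    have hzD : ((z : D) : G) ∈ D := (z : D).2
    have hz1' : ((z : D) : G) ≠ 1 := by
      intro h
      apply hz1
      apply Subtype.ext
      apply Subtype.ext
      exact h
    have hzr : orderOf ((z : D) : G) = r := by
      rcases (hDiff _).mp hzD with h | h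
      · exact absurd (orderOf_eq_one_iff.mp h) hz1'
      · exact h
    intro w hw y hy
    by_cases hw1 : w = 1
    · rw [hw1, one_mul, mul_one]
    have hwr : orderOf w = r := by
      rcases (hDiff _).mp hw with h | h
      · exact absurd (orderOf_eq_one_iff.mp h) hw1
      · exact h
    obtain ⟨α, hα⟩ := htrans ((z : D) : G) w (hzr.trans hwr.symm)
    have hy' : α⁻¹ y ∈ D := hDchar α⁻¹ y hy
    have h1 := congrArg Subtype.val (hzc ⟨α⁻¹ y, hy'⟩)
    simp only [Subgroup.coe_mul] at h1
    have h2 := congrArg α h1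
    rw [map_mul, map_mul, hα, MulAut.apply_inv_self] at h2
    exact h2.symm
  haveI hDc : IsMulCommutative D := ⟨⟨fun a b => Subtype.ext (hcomm a a.2 b b.2)⟩⟩
  -- (7) a Sylow s-subgroup
  let Q : Sylow s G := default
  have hQord : ∀ g ∈ (Q : Subgroup G), orderOf g = 1 ∨ orderOf g = s := by
    intro g hg
    obtain ⟨k, hk⟩ := (IsPGroup.iff_orderOf.mp Q.isPGroup') ⟨g, hg⟩
    rw [Subgroup.orderOf_mk] at hk
    rcases hord g with h | h | h
    · exact Or.inl h
    · exfalso
      rw [h] at hk
      exact hprimepow s r hs.out hr.out hrs.symm k hk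
    · exact Or.inr h
  -- (8) cardinalities
  have hpos : Nat.card G ≠ 0 := Nat.card_pos.ne'
  have hrd : r ∣ Nat.card G := hdr ▸ orderOf_dvd_natCard d
  have hsd : s ∣ Nat.card G := hbs ▸ orderOf_dvd_natCard b
  have hcardG := card_eq_of_two_primes hr.out hs.out hrs (Nat.card G) hpos hrd hsd (by
    intro t ht htd
    haveI : Fact t.Prime := ⟨ht⟩
    obtain ⟨c, hc⟩ := exists_prime_orderOf_dvd_card' (G := G) t htd
    rcases hord c with h | h | h
    · rw [hc] at h; exact absurd h ht.one_lt.ne'
    · rw [hc] at h; exact Or.inl h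
    · rw [hc] at h; exact Or.inr h)
  set fr := (Nat.card G).factorization r with hfr
  set fs := (Nat.card G).factorization s with hfs
  have hDcard : Nat.card D = r ^ fr := by
    have h1 := Sylow.card_eq_multiplicity (default : Sylow r G)
    rw [← hSyl default]
    exact h1
  have hQcard : Nat.card (Q : Subgroup G) = s ^ fs := Sylow.card_eq_multiplicity Q
  have hfr1 : 1 ≤ fr := by
    rcases Nat.eq_zero_or_pos fr with h | h
    · exfalso
      rw [h, pow_zero] at hDcard
      exact hDne ((Subgroup.card_eq_one).mp hDcard)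
    · exact h
  have hfs1 : 1 ≤ fs := by
    have : 0 < fs := (hs.out.factorization_pos_of_dvd hpos hsd)
    exact this
  have hcoprs : (r ^ fr).Coprime (s ^ fs) :=
    Nat.Coprime.pow _ _ ((Nat.coprime_primes hr.out hs.out).mpr hrs)
  -- (9) complement
  have hcD : D.IsComplement' (Q : Subgroup G) :=
    isComplement'_of_coprime (by rw [hDcard, hQcard, ← hcardG]) (by rw [hDcard, hQcard]; exact hcoprs)
  -- (10) Frobenius complement structure
  have hfpfQ : ∀ h ∈ (Q : Subgroup G), h ≠ 1 → D ⊓ Subgroup.centralizer {h} = ⊥ := by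
    intro h hh hh1
    rw [eq_bot_iff]
    rintro y ⟨hyD, hyC⟩
    rw [mem_bot]
    by_contra hy1
    have hyr : orderOf y = r := by
      rcases (hDiff y).mp hyD with h' | h'
      · exact absurd (orderOf_eq_one_iff.mp h') hy1
      · exact h'
    have hhs : orderOf h = s := by
      rcases hQord h hh with h' | h'
      · exact absurd (orderOf_eq_one_iff.mp h') hh1
      · exact h'
    have hcm : Commute h y := by
      have := Subgroup.mem_centralizer_iff.mp hyC h (Set.mem_singleton h)
      exact this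
    exact hnocomm h y hhs hyr hcm
  have hQs : Nat.card (Q : Subgroup G) = s := by
    let P' : Sylow s (Q : Subgroup G) := default
    have hP'top : (⊤ : Subgroup (Q : Subgroup G)) = (P' : Subgroup (Q : Subgroup G)) :=
      P'.is_maximal' (Q.isPGroup'.to_subgroup ⊤) le_top
    have hP'card : Nat.card (P' : Subgroup (Q : Subgroup G)) = Nat.card (Q : Subgroup G) := by
      rw [← hP'top, Subgroup.card_top]
    have hP'ord : ∀ y : (P' : Subgroup (Q : Subgroup G)), orderOf y = 1 ∨ orderOf y = s := by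
      intro y
      have h1 : orderOf (((y : (Q : Subgroup G)) : G)) = orderOf y := by
        rw [Subgroup.orderOf_coe, Subgroup.orderOf_coe]
      rw [← h1]
      exact hQord _ (y : (Q : Subgroup G)).2
    have hQne1 : Nat.card (Q : Subgroup G) ≠ 1 := by
      rw [hQcard]
      exact (Nat.one_lt_pow (by omega) hs1).ne'
    rcases Cfsg.Agent.S0040.result D (Q : Subgroup G) hcD hDne hfpfQ s P' with hcyc | ⟨n, ⟨e⟩⟩
    · obtain ⟨g, hg⟩ := IsCyclic.exists_generator (α := (P' : Subgroup (Q : Subgroup G)))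
      have h1 := orderOf_eq_card_of_forall_mem_zpowers hg
      rw [hP'card] at h1
      rcases hP'ord g with h | h
      · rw [h] at h1; exact absurd h1.symm hQne1
      · rw [h] at h1; exact h1.symm
    · exfalso
      have h1 : orderOf (e.symm (QuaternionGroup.xa 0)) = 4 := by
        rw [MulEquiv.orderOf_eq, QuaternionGroup.orderOf_xa]
      rcases hP'ord (e.symm (QuaternionGroup.xa 0)) with h | h
      · rw [h] at h1; omega
      · rw [h] at h1
        have : ¬ (4 : ℕ).Prime := by decide
        exact this (h1 ▸ hs.out)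
  have hcardG' : Nat.card G = r ^ fr * s := by
    rw [hcardG, ← hQcard, hQs]
  -- (14) primitive root
  have hbcard : Nat.card (zpowers b) = s := by rw [Nat.card_zpowers, hbs]
  have hcoprs' : (r ^ fr).Coprime s :=
    Nat.Coprime.pow_left _ ((Nat.coprime_primes hr.out hs.out).mpr hrs)
  have hc : D.IsComplement' (zpowers b) :=
    isComplement'_of_coprime (by rw [hDcard, hbcard, hcardG'])
      (by rw [hDcard, hbcard]; exact hcoprs')
  have hexp' : ∀ a : D, a ^ r = 1 := fun a => Subtype.ext (by simpa using hDexp a a.2)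
  have hcopk : ∀ k, 0 < k → k < s → (orderOf b).Coprime k := by
    intro k hk0 hks
    rw [hbs]
    exact (Nat.Prime.coprime_iff_not_dvd hs.out).mpr (Nat.not_dvd_of_pos_of_lt hk0 hks)
  have hbk : ∀ k, 0 < k → k < s → orderOf (b ^ k) = s := by
    intro k hk0 hks
    rw [(hcopk k hk0 hks).orderOf_pow, hbs]
  have hfpfk : ∀ k, 0 < k → k < s → ∀ u ∈ D, b ^ k * u * (b ^ k)⁻¹ = u → u = 1 := by
    intro k hk0 hks u hu h
    by_contra hu1
    have hur : orderOf u = r := by
      rcases (hDiff u).mp hu with h' | h'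
      · exact absurd (orderOf_eq_one_iff.mp h') hu1
      · exact h'
    apply hnocomm (b ^ k) u (hbk k hk0 hks) hur
    show b ^ k * u = u * b ^ k
    calc b ^ k * u = b ^ k * u * (b ^ k)⁻¹ * b ^ k := by group
      _ = u * b ^ k := by rw [h]
  have hpowq : (MulAut.conjNormal b : MulAut D) ^ s = 1 := by
    rw [← map_pow, ← hbs, pow_orderOf_eq_one, map_one]
  have hfpf1 : ∀ a : D, (MulAut.conjNormal b : MulAut D) a = a → a = 1 := by
    intro a ha
    have h1 : ((MulAut.conjNormal b : MulAut D) a : G) = a := congrArg Subtype.val ha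
    rw [MulAut.conjNormal_apply] at h1
    have h2 := hfpfk 1 Nat.one_pos hs1 a a.2 (by rw [pow_one]; exact h1)
    exact Subtype.ext h2
  have hDr : ∀ v : D, v ≠ 1 → orderOf (v : G) = r := by
    intro v hv
    rcases (hDiff v).mp v.2 with h' | h'
    · exact absurd (Subtype.ext (orderOf_eq_one_iff.mp h')) hv
    · exact h'
  have hprim : orderOf ((r : ℕ) : ZMod s) = s - 1 := by
    haveI : Nontrivial D := (Subgroup.nontrivial_iff_ne_bot D).mpr hDne
    apply Bridge.orderOf_eq_of_transitive' hrs hexp' (MulAut.conjNormal b : MulAut D) hpowq hfpf1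
    · intro v w hv hw
      obtain ⟨α, hα⟩ := htrans v w ((hDr v hv).trans (hDr w hw).symm)
      obtain ⟨v', hv', k, hk⟩ := exists_decomp D b hc (α b)
      have hk' : α b = v' * b ^ (k % s) := by rw [hk, ← hbs, pow_mod_orderOf]
      have hαb : orderOf (α b) = s := by rw [MulEquiv.orderOf_eq, hbs]
      have hk0 : 0 < k % s := by
        rcases Nat.eq_zero_or_pos (k % s) with h | h
        · exfalso
          rw [h, pow_zero, mul_one] at hk'
          have h2 := (hDiff (α b)).mp (hk' ▸ hv')
          rw [hαb] at h2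
          rcases h2 with h' | h'
          · omega
          · exact hrs h'.symm
        · exact h
      have hks : k % s < s := Nat.mod_lt _ hs.out.pos
      obtain ⟨u, hu, huv⟩ := exists_conj_of_fpf D (b ^ (k % s)) (hfpfk (k % s) hk0 hks) v' hv'
      have hβb : (MulAut.conj u⁻¹ * α) b = b ^ (k % s) := by
        rw [MulAut.mul_apply, MulAut.conj_apply, hk', ← huv]
        group
      have hβv : (MulAut.conj u⁻¹ * α) (v : G) = w := by
        rw [MulAut.mul_apply, hα, MulAut.conj_apply, inv_inv,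
          hcomm u⁻¹ (D.inv_mem hu) w w.2]
        group
      obtain ⟨β, hβb, hβv⟩ : ∃ β : MulAut G, β b = b ^ (k % s) ∧ β (v : G) = w :=
        ⟨_, hβb, hβv⟩
      refine ⟨restrictAut D hDchar β, k % s, ?_, ?_⟩
      · intro a
        apply Subtype.ext
        rw [← map_pow, MulAut.conjNormal_apply, coe_restrictAut, coe_restrictAut,
          MulAut.conjNormal_apply, map_mul, map_mul, map_inv, hβb]
      · apply Subtype.ext
        rw [coe_restrictAut]
        exact hβv
    · intro k hk0 hks
      obtain ⟨α, hα⟩ := htrans b (b ^ k) (hbs.trans (hbk k hk0 hks).symm)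
      refine ⟨restrictAut D hDchar α, fun a => ?_⟩
      apply Subtype.ext
      rw [← map_pow, MulAut.conjNormal_apply, coe_restrictAut, coe_restrictAut,
        MulAut.conjNormal_apply, map_mul, map_mul, map_inv, hα]
  refine ⟨fr, hfr1, hcardG', ?_, hprim, ?_⟩
  · intro P
    rw [hSyl P]
    exact ⟨hDn, hDc, hDexp⟩
  · intro x y hx hy h
    apply hnocomm x y hx hy
    show x * y = y * x
    calc x * y = x * y * x⁻¹ * x := by group
      _ = y * x := by rw [h]

theorem fwd (h3 : Nat.card (MulAction.orbitRel.Quotient (MulAut G) G) = 3)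
    (hnpp : ¬ IsPrimePow (Nat.card G)) (hnt : Nat.card G ≠ 1) :
    ∃ (p q n : ℕ) (_ : Fact p.Prime) (_ : Fact q.Prime), p ≠ q ∧ 1 ≤ n ∧
      Nat.card G = p ^ n * q ∧
      (∀ P : Sylow p G, (P : Subgroup G).Normal ∧ IsMulCommutative (P : Subgroup G) ∧
        ∀ a ∈ (P : Subgroup G), a ^ p = 1) ∧
      orderOf ((p : ℕ) : ZMod q) = q - 1 ∧
      ∀ x y : G, orderOf x = q → orderOf y = p → x * y * x⁻¹ ≠ y := by
  obtain ⟨p, q, hp, hq, hpq, ⟨a, ha⟩, ⟨b, hb⟩, hord, htrans⟩ := fwd_orders h3 hnpp hnt
  haveI : Fact p.Prime := ⟨hp⟩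
  haveI : Fact q.Prime := ⟨hq⟩
  have hpos : 0 < Nat.card G := Nat.card_pos
  haveI : Nontrivial G := Finite.one_lt_card_iff_nontrivial.mp (by omega)
  haveI hsolv : Group.IsSolvable G :=
    Cfsg.Agent.Lib.Helper3.isSolvable_of_two_primes_aux p q hp hq (Nat.card G) G rfl (by
      intro t ht htd
      haveI : Fact t.Prime := ⟨ht⟩
      obtain ⟨c, hc⟩ := exists_prime_orderOf_dvd_card' (G := G) t htd
      rcases hord c with h | h | h
      · rw [hc] at h; exact absurd h ht.one_lt.ne'
      · rw [hc] at h; exact Or.inl h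
      · rw [hc] at h; exact Or.inr h)
  have hDtop : commutator G ≠ ⊤ := (Group.IsSolvable.commutator_lt_top_of_nontrivial G).ne
  have hDchar : ∀ α : MulAut G, ∀ g ∈ commutator G, α g ∈ commutator G := by
    intro α g hg
    exact (Subgroup.characteristic_iff_map_le.mp inferInstance α) (Subgroup.mem_map_of_mem _ hg)
  have hDbot : commutator G ≠ ⊥ := by
    intro h
    rw [_root_.commutator_def, Subgroup.commutator_eq_bot_iff_le_centralizer] at h
    have h1 := Subgroup.mem_centralizer_iff.mp (h (Subgroup.mem_top a)) b (Subgroup.mem_top b)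
    exact no_commute hp hq hpq hord b a hb ha h1
  obtain ⟨⟨d, hdD⟩, hd1⟩ := (Subgroup.ne_bot_iff_exists_ne_one).mp hDbot
  have hd1' : d ≠ 1 := fun h => hd1 (Subtype.ext h)
  rcases hord d with h | h | h
  · exact absurd (orderOf_eq_one_iff.mp h) hd1'
  · obtain ⟨n, hn, hcard, hS, hprim, hfpf⟩ :=
      fwd_core hpq hord htrans (commutator G) hDchar hDtop d hdD h b hb
    exact ⟨p, q, n, ⟨hp⟩, ⟨hq⟩, hpq, hn, hcard, hS, hprim, hfpf⟩
  · have hord' : ∀ g : G, orderOf g = 1 ∨ orderOf g = q ∨ orderOf g = p := by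
      intro g
      rcases hord g with h' | h' | h'
      · exact Or.inl h'
      · exact Or.inr (Or.inr h')
      · exact Or.inr (Or.inl h')
    obtain ⟨n, hn, hcard, hS, hprim, hfpf⟩ :=
      fwd_core hpq.symm hord' htrans (commutator G) hDchar hDtop d hdD h a ha
    exact ⟨q, p, n, ⟨hq⟩, ⟨hp⟩, hpq.symm, hn, hcard, hS, hprim, hfpf⟩

end Cfsg.Agent.Lib.Helper86.LM
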