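import Mathlib
import Cfsg.Agent.Lib.Helper2.Tate5
import Cfsg.Agent.Lib.Helper2.PResidual2

set_option autoImplicit false

/-!
Fusion in a Sylow `p`-subgroup `P` of class at most two lying in a subgroup `M` that acts on `P`
by inner automorphisms of `P` and is the normalizer of each of its nontrivial normal subgroups:
`P` controls its own fusion, so `O^p(G)` has order prime to `p`.
-/

namespace Cfsg.Agent.Lib.Helper86.NilpMax

open scoped commutatorElement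

section

variable {G : Type*} [Group G] {p : ℕ} [hp : Fact p.Prime] (M : Subgroup G) (P : Sylow p G)

/-- The centre of `P` as a subgroup of the ambient group. -/
def zen : Subgroup G := (P : Subgroup G) ⊓ Subgroup.centralizer ((P : Subgroup G) : Set G)

/-- The hypotheses. -/
structure Hyp : Prop where
  hPM : (P : Subgroup G) ≤ M
  hP1 : (P : Subgroup G) ≠ ⊥
  hF1 : ∀ Q : Subgroup G, Q ≠ ⊥ → Q ≤ M → M ≤ Subgroup.normalizer (Q : Set G) →
    Subgroup.normalizer (Q : Set G) ≤ M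
  hInn : ∀ m ∈ M, ∃ u ∈ (P : Subgroup G), ∀ x ∈ (P : Subgroup G), m⁻¹ * x * m = u⁻¹ * x * u
  hcl : ∀ a ∈ (P : Subgroup G), ∀ b ∈ (P : Subgroup G), ∀ c ∈ (P : Subgroup G),
    ⁅a, b⁆ * c = c * ⁅a, b⁆

variable {M P}

theorem zen_le : zen P ≤ (P : Subgroup G) := inf_le_left

theorem zen_comm {z x : G} (hz : z ∈ zen P) (hx : x ∈ (P : Subgroup G)) : x * z = z * x :=
  (Subgroup.mem_centralizer_iff.mp hz.2) x hx

theorem comm_mem_zen (h : Hyp M P) {a b : G} (ha : a ∈ (P : Subgroup G))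
    (hb : b ∈ (P : Subgroup G)) : ⁅a, b⁆ ∈ zen P := by
  refine Subgroup.mem_inf.mpr ⟨?_, ?_⟩
  · rw [commutatorElement_def]
    exact Subgroup.mul_mem _ (Subgroup.mul_mem _ (Subgroup.mul_mem _ ha hb)
      (Subgroup.inv_mem _ ha)) (Subgroup.inv_mem _ hb)
  · rw [Subgroup.mem_centralizer_iff]
    intro c hc
    exact (h.hcl a ha b hb c hc).symm

theorem conj_zen (h : Hyp M P) {z m : G} (hz : z ∈ zen P) (hm : m ∈ M) : m⁻¹ * z * m = z := by
  obtain ⟨u, hu, hux⟩ := h.hInn m hm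
  rw [hux z hz.1, mul_assoc, ← zen_comm hz hu, inv_mul_cancel_left]

/-- `P`-conjugation preserves subgroups of `P` containing the centre. -/
theorem conjP_mem (h : Hyp M P) {Q : Subgroup G} (hZQ : zen P ≤ Q) {q u : G} (hq : q ∈ Q)
    (hqP : q ∈ (P : Subgroup G)) (hu : u ∈ (P : Subgroup G)) : u⁻¹ * q * u ∈ Q := by
  have e : u⁻¹ * q * u = q * ⁅q⁻¹, u⁻¹⁆ := by
    rw [commutatorElement_def]; group
  rw [e]
  exact Q.mul_mem hq (hZQ (comm_mem_zen h (Subgroup.inv_mem _ hqP) (Subgroup.inv_mem _ hu)))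

theorem le_normalizer_of_zen_le (h : Hyp M P) {Q : Subgroup G} (hQP : Q ≤ (P : Subgroup G))
    (hZQ : zen P ≤ Q) : M ≤ Subgroup.normalizer (Q : Set G) := by
  intro m hm
  rw [Subgroup.mem_normalizer_iff]
  intro x
  constructor
  · intro hx
    obtain ⟨u, hu, hux⟩ := h.hInn m⁻¹ (M.inv_mem hm)
    have := hux x (hQP hx)
    rw [inv_inv] at this
    rw [this]
    exact conjP_mem h hZQ hx (hQP hx) hu
  · intro hx
    obtain ⟨u, hu, hux⟩ := h.hInn m hm
    have := hux _ (hQP hx)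
    have e : m⁻¹ * (m * x * m⁻¹) * m = x := by group
    rw [e] at this
    rw [this]
    exact conjP_mem h hZQ hx (hQP hx) hu

theorem normalizer_eq_of_zen_le (h : Hyp M P) {Q : Subgroup G} (hQP : Q ≤ (P : Subgroup G))
    (hZQ : zen P ≤ Q) (hQ1 : Q ≠ ⊥) : Subgroup.normalizer (Q : Set G) = M :=
  le_antisymm (h.hF1 Q hQ1 (hQP.trans h.hPM) (le_normalizer_of_zen_le h hQP hZQ))
    (le_normalizer_of_zen_le h hQP hZQ)

theorem M_le_normalizer_P (h : Hyp M P) : M ≤ Subgroup.normalizer ((P : Subgroup G) : Set G) :=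
  le_normalizer_of_zen_le h le_rfl zen_le

theorem normalizer_M_le (h : Hyp M P) : Subgroup.normalizer (M : Set G) ≤ M := by
  apply h.hF1 M _ le_rfl Subgroup.le_normalizer
  intro hM
  apply h.hP1
  rw [eq_bot_iff, ← hM]
  exact h.hPM

theorem centralizer_le (h : Hyp M P) {z : G} (hz : z ∈ zen P) (hz1 : z ≠ 1) :
    Subgroup.centralizer ({z} : Set G) ≤ M := by
  have hcomm : ∀ m ∈ M, Commute m z := by
    intro m hm
    have := conj_zen h hz hm
    show m * z = z * m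
    calc m * z = m * (m⁻¹ * z * m) := by rw [this]
      _ = z * m := by group
  have h1 : Subgroup.zpowers z ≠ ⊥ := by
    rwa [Ne, Subgroup.zpowers_eq_bot]
  have h2 : Subgroup.zpowers z ≤ M := by
    rw [Subgroup.zpowers_le]
    exact h.hPM hz.1
  have h3 : ∀ g : G, Commute g z → g ∈ Subgroup.normalizer ((Subgroup.zpowers z : Subgroup G) : Set G) := by
    intro g hg
    apply Subgroup.centralizer_le_normalizer
    rw [Subgroup.mem_centralizer_iff]
    rintro y hy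
    obtain ⟨k, rfl⟩ := Subgroup.mem_zpowers_iff.mp hy
    exact ((hg.zpow_right k).eq).symm
  have h4 := h.hF1 _ h1 h2 (fun m hm => h3 m (hcomm m hm))
  intro g hg
  apply h4
  apply h3
  exact ((Subgroup.mem_centralizer_iff.mp hg) z rfl).symm

/-- `p`-elements of `M` lie in `P`. -/
theorem pelem_mem (h : Hyp M P) {x : G} (hxM : x ∈ M) (hx : ∃ k : ℕ, x ^ p ^ k = 1) :
    x ∈ (P : Subgroup G) := by
  obtain ⟨k, hk⟩ := hx
  have h1 : IsPGroup p (Subgroup.zpowers x) := by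
    rintro ⟨y, hy⟩
    obtain ⟨n, rfl⟩ := Subgroup.mem_zpowers_iff.mp hy
    refine ⟨k, ?_⟩
    apply Subtype.ext
    show (x ^ n) ^ p ^ k = 1
    rw [← zpow_natCast, ← zpow_mul, mul_comm, zpow_mul, zpow_natCast, hk, one_zpow]
  have h2 : Subgroup.zpowers x ≤ Subgroup.normalizer ((P : Subgroup G) : Set G) := by
    rw [Subgroup.zpowers_le]
    exact M_le_normalizer_P h hxM
  have h3 : IsPGroup p ((Subgroup.zpowers x ⊔ (P : Subgroup G) : Subgroup G)) :=
    IsPGroup.to_sup_of_normal_right' h1 P.2 h2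
  have h4 := P.is_maximal' h3 le_sup_right
  rw [← h4]
  exact (le_sup_left : Subgroup.zpowers x ≤ _) (Subgroup.mem_zpowers x)

theorem pelem_of_mem {x : G} (hx : x ∈ (P : Subgroup G)) : ∃ k : ℕ, x ^ p ^ k = 1 := by
  obtain ⟨k, hk⟩ := P.2 ⟨x, hx⟩
  exact ⟨k, congrArg Subtype.val hk⟩

theorem F4a (h : Hyp M P) {z : G} (hz : z ∈ zen P) (hz1 : z ≠ 1) {g : G}
    (hg : g⁻¹ * z * g ∈ (P : Subgroup G)) : ∀ y ∈ zen P, g * y * g⁻¹ ∈ (P : Subgroup G) := by
  intro y hy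
  have hc : (g⁻¹ * z * g) * y = y * (g⁻¹ * z * g) := zen_comm hy hg
  have hcz : g * y * g⁻¹ ∈ Subgroup.centralizer ({z} : Set G) := by
    rw [Subgroup.mem_centralizer_iff]
    intro z' hz'
    rw [Set.mem_singleton_iff.mp hz']
    calc z * (g * y * g⁻¹) = g * ((g⁻¹ * z * g) * y) * g⁻¹ := by group
      _ = g * (y * (g⁻¹ * z * g)) * g⁻¹ := by rw [hc]
      _ = g * y * g⁻¹ * z := by group
  apply pelem_mem h (centralizer_le h hz hz1 hcz)
  obtain ⟨k, hk⟩ := pelem_of_mem hy.1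
  exact ⟨k, by rw [conj_pow, hk]; group⟩

theorem F4h (h : Hyp M P) {z : G} (hz : z ∈ zen P) (hz1 : z ≠ 1) {g : G}
    (hg : g⁻¹ * z * g ∈ (P : Subgroup G)) : ∀ m ∈ M, g * m * g⁻¹ ∈ M := by
  have h1 := F4a h hz hz1 hg
  have hg' : g⁻¹⁻¹ * z * g⁻¹ ∈ (P : Subgroup G) := by
    rw [inv_inv]; exact h1 z hz
  have h2 := F4a h hz hz1 hg'
  set A : Subgroup G := zen P ⊔ (zen P).map (MulAut.conj g⁻¹).toMonoidHom with hA
  set B : Subgroup G := A.map (MulAut.conj g).toMonoidHom with hB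
  have hAP : A ≤ (P : Subgroup G) := by
    apply sup_le zen_le
    rintro _ ⟨y, hy, rfl⟩
    exact h2 y hy
  have hZA : zen P ≤ A := le_sup_left
  have hBP : B ≤ (P : Subgroup G) := by
    rw [hB, Subgroup.map_le_iff_le_comap]
    apply sup_le
    · intro y hy
      exact h1 y hy
    · rintro _ ⟨y, hy, rfl⟩
      show g * (g⁻¹ * y * g⁻¹⁻¹) * g⁻¹ ∈ (P : Subgroup G)
      have e : g * (g⁻¹ * y * g⁻¹⁻¹) * g⁻¹ = y := by group
      rw [e]; exact hy.1
  have hZB : zen P ≤ B := by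
    intro y hy
    refine ⟨g⁻¹ * y * g⁻¹⁻¹, ?_, ?_⟩
    · exact (le_sup_right : _ ≤ A) ⟨y, hy, rfl⟩
    · show g * (g⁻¹ * y * g⁻¹⁻¹) * g⁻¹ = y
      group
  have hA1 : A ≠ ⊥ := by
    intro hh
    apply hz1
    have : z ∈ A := hZA hz
    rw [hh] at this
    exact Subgroup.mem_bot.mp this
  have hB1 : B ≠ ⊥ := by
    intro hh
    apply hz1
    have : z ∈ B := hZB hz
    rw [hh] at this
    exact Subgroup.mem_bot.mp this
  have hNA := normalizer_eq_of_zen_le h hAP hZA hA1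
  have hNB := normalizer_eq_of_zen_le h hBP hZB hB1
  intro m hm
  have h3 : m ∈ Subgroup.normalizer (A : Set G) := by rw [hNA]; exact hm
  have h4 := Subgroup.le_normalizer_map (MulAut.conj g).toMonoidHom
    (Subgroup.mem_map_of_mem _ h3)
  rw [← hB, hNB] at h4
  exact h4

theorem F4 (h : Hyp M P) {z : G} (hz : z ∈ zen P) (hz1 : z ≠ 1) {g : G}
    (hg : g⁻¹ * z * g ∈ (P : Subgroup G)) : g ∈ M := by
  have h1 := F4a h hz hz1 hg
  have hg' : g⁻¹⁻¹ * z * g⁻¹ ∈ (P : Subgroup G) := by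
    rw [inv_inv]; exact h1 z hz
  have ha := F4h h hz hz1 hg
  have hb := F4h h hz hz1 hg'
  apply normalizer_M_le h
  rw [Subgroup.mem_normalizer_iff]
  intro x
  constructor
  · exact ha x
  · intro hx
    have := hb _ hx
    have e : g⁻¹ * (g * x * g⁻¹) * g⁻¹⁻¹ = x := by group
    rwa [e] at this

theorem exists_zen_ne_one [Finite G] (h : Hyp M P) : ∃ z ∈ zen P, z ≠ 1 := by
  haveI : Nontrivial (P : Subgroup G) := (Subgroup.nontrivial_iff_ne_bot _).mpr h.hP1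
  haveI := IsPGroup.center_nontrivial P.2
  obtain ⟨z, hz⟩ := exists_ne (1 : Subgroup.center (P : Subgroup G))
  refine ⟨((z : (P : Subgroup G)) : G), Subgroup.mem_inf.mpr ⟨(z : (P : Subgroup G)).2, ?_⟩, ?_⟩
  · rw [Subgroup.mem_centralizer_iff]
    intro x hx
    have := (Subgroup.mem_center_iff.mp z.2) ⟨x, hx⟩
    exact congrArg Subtype.val this
  · intro hh
    apply hz
    apply Subtype.ext
    apply Subtype.ext
    exact hh

theorem F5 [Finite G] (h : Hyp M P) {T : Subgroup G} (hT : IsPGroup p T) (hZT : zen P ≤ T) :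
    T ≤ (P : Subgroup G) := by
  obtain ⟨z, hz, hz1⟩ := exists_zen_ne_one h
  obtain ⟨Q, hQ⟩ := hT.exists_le_sylow
  obtain ⟨a, rfl⟩ := MulAction.exists_smul_eq G P Q
  have h1 : z ∈ ((a • P : Sylow p G) : Subgroup G) := hQ (hZT hz)
  rw [Sylow.coe_subgroup_smul, Subgroup.mem_pointwise_smul_iff_inv_smul_mem] at h1
  have h2 : a⁻¹ * z * a ∈ (P : Subgroup G) := by
    have e : (MulAut.conj a)⁻¹ • z = a⁻¹ * z * a := by
      rw [← map_inv, MulAut.smul_def, MulAut.conj_apply, inv_inv]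
    rwa [e] at h1
  have h3 : a ∈ M := F4 h hz hz1 h2
  have h4 : a • P = P := Sylow.smul_eq_iff_mem_normalizer.mpr (M_le_normalizer_P h h3)
  rw [h4] at hQ
  exact hQ

theorem F6 [Finite G] (h : Hyp M P) {x : G} (hx : x ∈ (P : Subgroup G)) {g : G}
    (hg : g⁻¹ * x * g ∈ (P : Subgroup G)) : ∃ m ∈ M, g⁻¹ * x * g = m⁻¹ * x * m := by
  obtain ⟨z, hz, hz1⟩ := exists_zen_ne_one h
  set C : Subgroup G := Subgroup.centralizer ({x} : Set G) with hC
  have hZC : zen P ≤ C := by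
    intro y hy
    rw [hC, Subgroup.mem_centralizer_iff]
    intro x' hx'
    rw [Set.mem_singleton_iff.mp hx']
    exact zen_comm hy hx
  have hp1 : IsPGroup p ((zen P).subgroupOf C) := by
    have : IsPGroup p (zen P) := P.2.to_le zen_le
    exact this.comap_subtype
  obtain ⟨S, hS⟩ := hp1.exists_le_sylow
  have hT : IsPGroup p ((S : Subgroup C).map C.subtype) := S.2.map _
  have hZT : zen P ≤ (S : Subgroup C).map C.subtype := by
    intro y hy
    exact ⟨⟨y, hZC hy⟩, hS (Subgroup.mem_subgroupOf.mpr hy), rfl⟩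
  have hTP := F5 h hT hZT
  -- the conjugate centre
  have hZ2C : ∀ y ∈ zen P, g * y * g⁻¹ ∈ C := by
    intro y hy
    have hc : (g⁻¹ * x * g) * y = y * (g⁻¹ * x * g) := zen_comm hy hg
    rw [hC, Subgroup.mem_centralizer_iff]
    intro x' hx'
    rw [Set.mem_singleton_iff.mp hx']
    calc x * (g * y * g⁻¹) = g * ((g⁻¹ * x * g) * y) * g⁻¹ := by group
      _ = g * (y * (g⁻¹ * x * g)) * g⁻¹ := by rw [hc]
      _ = g * y * g⁻¹ * x := by group
  have hp2 : IsPGroup p (((zen P).map (MulAut.conj g).toMonoidHom).subgroupOf C) := by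
    have : IsPGroup p ((zen P).map (MulAut.conj g).toMonoidHom) := (P.2.to_le zen_le).map _
    exact this.comap_subtype
  obtain ⟨S', hS'⟩ := hp2.exists_le_sylow
  obtain ⟨c, rfl⟩ := MulAction.exists_smul_eq C S S'
  have h1 : (⟨g * z * g⁻¹, hZ2C z hz⟩ : C) ∈ ((c • S : Sylow p C) : Subgroup C) := by
    apply hS'
    rw [Subgroup.mem_subgroupOf]
    exact ⟨z, hz, rfl⟩
  rw [Sylow.coe_subgroup_smul, Subgroup.mem_pointwise_smul_iff_inv_smul_mem] at h1
  have e : (MulAut.conj c)⁻¹ • (⟨g * z * g⁻¹, hZ2C z hz⟩ : C)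
      = c⁻¹ * (⟨g * z * g⁻¹, hZ2C z hz⟩ : C) * c := by
    rw [← map_inv, MulAut.smul_def, MulAut.conj_apply, inv_inv]
  rw [e] at h1
  have h2 : ((c : G))⁻¹ * (g * z * g⁻¹) * (c : G) ∈ (P : Subgroup G) := by
    apply hTP
    exact ⟨_, h1, rfl⟩
  have h3 : (g⁻¹ * (c : G))⁻¹ * z * (g⁻¹ * (c : G)) ∈ (P : Subgroup G) := by
    have e2 : (g⁻¹ * (c : G))⁻¹ * z * (g⁻¹ * (c : G)) = ((c : G))⁻¹ * (g * z * g⁻¹) * (c : G) := by
      group
    rw [e2]; exact h2
  have h4 : g⁻¹ * (c : G) ∈ M := F4 h hz hz1 h3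
  refine ⟨(g⁻¹ * (c : G))⁻¹, M.inv_mem h4, ?_⟩
  have hcx : (c : G) * x = x * (c : G) := by
    have := (Subgroup.mem_centralizer_iff.mp c.2) x rfl
    exact this.symm
  rw [inv_inv]
  calc g⁻¹ * x * g = g⁻¹ * (x * (c : G)) * (c : G)⁻¹ * g := by group
    _ = g⁻¹ * ((c : G) * x) * (c : G)⁻¹ * g := by rw [hcx]
    _ = g⁻¹ * (c : G) * x * (g⁻¹ * (c : G))⁻¹ := by group

theorem focal_le [Finite G] (h : Hyp M P) :
    (P : Subgroup G).focalSubgroup ≤ ⁅(P : Subgroup G), (P : Subgroup G)⁆ := by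
  rw [Subgroup.focalSubgroup_def, Subgroup.closure_le]
  rintro g ⟨hgP, x, hx, u, rfl⟩
  have hxinv : x⁻¹ ∈ (P : Subgroup G) := Subgroup.inv_mem _ hx
  have h2 : u⁻¹⁻¹ * x⁻¹ * u⁻¹ ∈ (P : Subgroup G) := by
    have e : u⁻¹⁻¹ * x⁻¹ * u⁻¹ = x⁻¹ * ⁅x, u⁆ := by
      rw [commutatorElement_def]; group
    rw [e]
    exact Subgroup.mul_mem _ hxinv hgP
  obtain ⟨m, hm, hm2⟩ := F6 h hxinv h2
  obtain ⟨s, hs, hs2⟩ := h.hInn m hm
  rw [hs2 _ hxinv] at hm2
  have e2 : ⁅x, u⁆ = ⁅x, s⁻¹⁆ := by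
    rw [commutatorElement_def, commutatorElement_def]
    calc x * u * x⁻¹ * u⁻¹ = x * (u⁻¹⁻¹ * x⁻¹ * u⁻¹) := by group
      _ = x * (s⁻¹ * x⁻¹ * s) := by rw [hm2]
      _ = x * s⁻¹ * x⁻¹ * s⁻¹⁻¹ := by group
  rw [SetLike.mem_coe, e2]
  exact Subgroup.commutator_mem_commutator hx (Subgroup.inv_mem _ hs)

end

universe u

theorem not_dvd_card_pResidual {G : Type u} [Group G] [Finite G] {p : ℕ} [hp : Fact p.Prime]
    {M : Subgroup G} {P : Sylow p G} (h : Hyp M P) :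
    ¬ p ∣ Nat.card (Cfsg.pResidual p G) := by
  haveI := Cfsg.Agent.Lib.Helper2.pResidual_normal (G := G) p
  apply Cfsg.Agent.Lib.Helper2.not_dvd_card_pResidual_of_hom_kill P (Cfsg.pResidual p G)
    (Cfsg.Agent.Lib.Helper2.sylow_sup_pResidual P)
  intro μ k hk
  have h1 : (k : G) ∈ (P : Subgroup G).focalSubgroup :=
    Cfsg.Agent.Lib.Helper2.sylow_inf_pResidual_le_focalSubgroup P ⟨k.2, hk⟩
  have h2 : (k : G) ∈ ⁅(P : Subgroup G), (P : Subgroup G)⁆ := focal_le h h1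
  rw [← Subgroup.map_subtype_commutator] at h2
  obtain ⟨k', hk', hkk⟩ := h2
  have : k' = k := Subtype.ext hkk
  subst this
  have h3 : commutator (P : Subgroup G) ≤ μ.ker := Abelianization.commutator_subset_ker μ
  exact h3 hk'

end Cfsg.Agent.Lib.Helper86.NilpMax
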