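import Cfsg.Agent.Lib.Helper86.GL2
import Mathlib.LinearAlgebra.Matrix.SpecialLinearGroup

set_option autoImplicit false

namespace Cfsg.Agent.Lib.Helper86.SL2

open Matrix Matrix.SpecialLinearGroup MatrixGroups

variable {F : Type*} [Field F]

abbrev uS (x : F) : SL(2, F) := SpecialLinearGroup.transvection (zero_ne_one : (0 : Fin 2) ≠ 1) x
abbrev lS (x : F) : SL(2, F) := SpecialLinearGroup.transvection (one_ne_zero : (1 : Fin 2) ≠ 0) x

theorem uS_val (x : F) : (uS x : Matrix (Fin 2) (Fin 2) F) = !![1, x; 0, 1] := by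
  ext i j
  fin_cases i <;> fin_cases j <;> simp [transvection_coe]

theorem lS_val (x : F) : (lS x : Matrix (Fin 2) (Fin 2) F) = !![1, 0; x, 1] := by
  ext i j
  fin_cases i <;> fin_cases j <;> simp [transvection_coe]

theorem mul_entry (g h : SL(2, F)) (i j : Fin 2) :
    (g * h).val i j = g.val i 0 * h.val 0 j + g.val i 1 * h.val 1 j := by
  simp [Matrix.mul_apply, Fin.sum_univ_two]

theorem ext2 {g h : SL(2, F)} (h00 : g.val 0 0 = h.val 0 0) (h01 : g.val 0 1 = h.val 0 1)
    (h10 : g.val 1 0 = h.val 1 0) (h11 : g.val 1 1 = h.val 1 1) : g = h := by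
  apply Subtype.ext
  ext i j
  fin_cases i <;> fin_cases j <;> assumption

theorem det_eq (g : SL(2, F)) : g.val 0 0 * g.val 1 1 - g.val 0 1 * g.val 1 0 = 1 := by
  have := g.det_coe
  rwa [Matrix.det_fin_two] at this

/-- the unitriangular subgroup of `SL(2, F)` -/
def U' : Subgroup SL(2, F) := (GL2.U : Subgroup (GL (Fin 2) F)).comap toGL

theorem mem_U' {g : SL(2, F)} : g ∈ U' ↔ g.val 0 0 = 1 ∧ g.val 1 0 = 0 ∧ g.val 1 1 = 1 := by
  unfold U'
  rw [Subgroup.mem_comap, GL2.mem_U_iff]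
  rfl

theorem uS_mem (x : F) : uS x ∈ (U' : Subgroup SL(2, F)) := by
  rw [mem_U', uS_val]; simp

theorem mem_U'_iff_exists {g : SL(2, F)} : g ∈ U' ↔ ∃ x : F, uS x = g := by
  constructor
  · intro h
    obtain ⟨h1, h2, h3⟩ := mem_U'.mp h
    refine ⟨g.val 0 1, ?_⟩
    apply ext2 <;> simp [uS_val, h1, h2, h3]
  · rintro ⟨x, rfl⟩; exact uS_mem x

/-- the key generation lemma -/
theorem sup_conj_eq_top (k : SL(2, F)) (hk : k.val 1 0 ≠ 0) (H : Subgroup SL(2, F))
    (hU : U' ≤ H) (hkU : ∀ t : F, k * uS t * k⁻¹ ∈ H) : H = ⊤ := by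
  rw [eq_top_iff]
  intro A _
  have hl : ∀ r : F, lS r ∈ H := by
    intro r
    set s : F := -k.val 0 0 / k.val 1 0 with hs
    set m : SL(2, F) := uS s * k with hm
    have m00 : m.val 0 0 = 0 := by
      rw [hm, mul_entry, uS_val]; simp [hs]; field_simp; ring
    have m10 : m.val 1 0 = k.val 1 0 := by
      rw [hm, mul_entry, uS_val]; simp
    have hdet := det_eq m
    rw [m00, m10] at hdet
    have m01 : m.val 0 1 ≠ 0 := by
      intro h; rw [h] at hdet; simp at hdet
    set t : F := r * m.val 0 1 / k.val 1 0 with ht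
    have key : lS r * m = m * uS t := by
      apply ext2 <;> simp only [mul_entry, lS_val, uS_val] <;> simp [m00, m10]
      rw [ht]; field_simp
    have e : lS r = uS s * (k * uS t * k⁻¹) * (uS s)⁻¹ := by
      have : lS r = m * uS t * m⁻¹ := by rw [← key]; group
      rw [this, hm]; group
    rw [e]
    exact H.mul_mem (H.mul_mem (hU (uS_mem s)) (hkU t)) (H.inv_mem (hU (uS_mem s)))
  refine SL2.transvection_induction (fun A => A ∈ H) ?_ (fun A B hA hB => H.mul_mem hA hB) A
  intro i j hij c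
  fin_cases i <;> fin_cases j
  · exact absurd rfl hij
  · exact hU (uS_mem c)
  · exact hl c
  · exact absurd rfl hij

theorem toGL_uS (x : F) : toGL (uS x) = GL2.uE x := by
  apply GL2.ext2 <;> simp [GL2.uE_val, transvection_coe]

theorem mem_normalizer_U' (c : SL(2, F)) (hc : c.val 1 0 = 0) :
    c ∈ Subgroup.normalizer ((U' : Subgroup SL(2, F)) : Set SL(2, F)) := by
  have h1 : toGL c ∈ Subgroup.normalizer ((GL2.U : Subgroup (GL (Fin 2) F)) : Set (GL (Fin 2) F)) := by
    rw [GL2.normalizer_U, GL2.mem_B]; exact hc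
  rw [Subgroup.mem_normalizer_iff] at h1 ⊢
  intro x
  unfold U'
  rw [Subgroup.mem_comap, Subgroup.mem_comap, map_mul, map_mul, map_inv]
  exact h1 (toGL x)

section finite
variable [Fintype F] (p : ℕ) [Fact p.Prime] [CharP F p]

theorem isPGroup_U' : IsPGroup p (U' : Subgroup SL(2, F)) :=
  (GL2.isPGroup_U p).comap_of_injective toGL toGL_injective

noncomputable def U'Sylow : Sylow p SL(2, F) where
  toSubgroup := U'
  isPGroup' := isPGroup_U' p
  is_maximal' := by
    intro Q hQ hle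
    have h1 : IsPGroup p (Q.map toGL) := hQ.map _
    have h2 : ((GL2.USylow p : Sylow p (GL (Fin 2) F)) : Subgroup (GL (Fin 2) F)) ≤ Q.map toGL := by
      rw [GL2.USylow_coe]
      intro g hg
      obtain ⟨x, rfl⟩ := GL2.mem_U.mp hg
      exact ⟨uS x, hle (uS_mem x), toGL_uS x⟩
    have h3 : Q.map toGL = GL2.U := by
      rw [← GL2.USylow_coe p]
      exact (GL2.USylow p).is_maximal' h1 h2
    apply le_antisymm _ hle
    intro g hg
    show toGL g ∈ GL2.U
    rw [← h3]; exact ⟨g, hg, rfl⟩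

theorem U'Sylow_coe : ((U'Sylow p : Sylow p SL(2, F)) : Subgroup SL(2, F)) = U' := rfl

theorem mem_smul_U'Sylow {g x : SL(2, F)} :
    x ∈ ((g • (U'Sylow p : Sylow p SL(2, F)) : Sylow p SL(2, F)) : Subgroup SL(2, F)) ↔
      g⁻¹ * x * g ∈ (U' : Subgroup SL(2, F)) := by
  rw [Sylow.coe_subgroup_smul, U'Sylow_coe, Subgroup.mem_pointwise_smul_iff_inv_smul_mem]
  simp [MulAut.smul_def]

theorem sylow_sup_eq_top (P Q : Sylow p SL(2, F)) (h : P ≠ Q) :
    (P : Subgroup SL(2, F)) ⊔ (Q : Subgroup SL(2, F)) = ⊤ := by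
  obtain ⟨g, hg⟩ := MulAction.exists_smul_eq SL(2, F) (U'Sylow p) P
  obtain ⟨k, hk⟩ := MulAction.exists_smul_eq SL(2, F) (U'Sylow p) Q
  have hc : (g⁻¹ * k).val 1 0 ≠ 0 := by
    intro h0
    have hn := mem_normalizer_U' (g⁻¹ * k) h0
    rw [← U'Sylow_coe p] at hn
    have h1 : (g⁻¹ * k) • (U'Sylow p : Sylow p SL(2, F)) = U'Sylow p :=
      Sylow.smul_eq_iff_mem_normalizer.mpr hn
    apply h
    rw [← hg, ← hk]
    calc g • (U'Sylow p : Sylow p SL(2, F)) = g • ((g⁻¹ * k) • U'Sylow p) := by rw [h1]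
      _ = k • U'Sylow p := by rw [smul_smul]; congr 1; group
  set H : Subgroup SL(2, F) :=
    ((P : Subgroup SL(2, F)) ⊔ (Q : Subgroup SL(2, F))).comap (MulAut.conj g).toMonoidHom with hH
  have hHtop : H = ⊤ := by
    apply sup_conj_eq_top (g⁻¹ * k) hc H
    · intro x hx
      rw [hH, Subgroup.mem_comap]
      apply Subgroup.mem_sup_left
      rw [← hg, mem_smul_U'Sylow]
      simp only [MulEquiv.coe_toMonoidHom, MulAut.conj_apply]
      have : g⁻¹ * (g * x * g⁻¹) * g = x := by group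
      rw [this]; exact hx
    · intro t
      rw [hH, Subgroup.mem_comap]
      apply Subgroup.mem_sup_right
      rw [← hk, mem_smul_U'Sylow]
      simp only [MulEquiv.coe_toMonoidHom, MulAut.conj_apply]
      have : k⁻¹ * (g * (g⁻¹ * k * uS t * (g⁻¹ * k)⁻¹) * g⁻¹) * k = uS t := by group
      rw [this]; exact uS_mem t
  rw [eq_top_iff]
  intro y _
  have hy : g⁻¹ * y * g ∈ H := by rw [hHtop]; trivial
  rw [hH, Subgroup.mem_comap] at hy
  simp only [MulEquiv.coe_toMonoidHom, MulAut.conj_apply] at hy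
  have : g * (g⁻¹ * y * g) * g⁻¹ = y := by group
  rwa [this] at hy

end finite

end Cfsg.Agent.Lib.Helper86.SL2
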