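import Cfsg.Agent.Lib.Helper41.StnDefs
import Cfsg.Agent.Lib.Helper99.Stn_SYMRfull

set_option autoImplicit false

/-!
# Stn hive (S2401), sub-hive SYM: `hh_mul`

The exact Layer A statement `hh_mul` of `tools/helper41/StnSkelA.lean.txt`
(multiplicativity of the torus elements `hh i j t` of the Steinberg group over a finite
field), delivered through helper99's complete rank-one proof `symr_hh_mul`.
-/

namespace Cfsg.Agent.Lib.Helper41.Stn

open Matrix

variable {K : Type*} [Field K] {n : ℕ}

/-- Stn-SYM: `h_ij(t) h_ij(u) = h_ij(t u)` in the Steinberg group of a finite field. -/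
theorem hh_mul [Finite K] (hn : 3 ≤ n) {i j : Fin n} (hij : i ≠ j) {t u : K} (ht : t ≠ 0)
    (hu : u ≠ 0) : hh i j t * hh i j u = hh i j (t * u) :=
  symr_hh_mul hn hij ht hu

end Cfsg.Agent.Lib.Helper41.Stn
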