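import Mathlib
import Cfsg.Agent.S0035
import Cfsg.Agent.S0042
import Cfsg.Agent.S0040
import Cfsg.Agent.Lib.Helper78.CNSolv2
import Cfsg.Agent.Lib.Helper86.FieldLemma

set_option autoImplicit false
set_option linter.style.haveILetI false
set_option linter.unusedSectionVars false

/-!
# Doubly transitive groups with a regular normal subgroup in which three-point stabilisers are
trivial and two-point stabilisers are not: the degree is `2 ^ s`, `s` prime.
-/

namespace Cfsg.Agent.Lib.Helper86.TwoTrans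

open Cfsg Cfsg.Agent.Lib.Helper86 Cfsg.Agent.Lib.Helper48

open scoped Pointwise

/-- `Cfsg.Agent.S0040.result` without the complement hypothesis (which its proof does not use):
if every nonidentity element of `H` has trivial centraliser in the nontrivial normal subgroup `K`,
then each Sylow subgroup of `H` is cyclic or generalized quaternion. -/
theorem sylow_of_fpf {G : Type*} [Group G] [Finite G] (K H : Subgroup G) [K.Normal]
    (hK : K ≠ ⊥) (hfpf : ∀ h ∈ H, h ≠ 1 → K ⊓ Subgroup.centralizer {h} = ⊥)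
    (p : ℕ) [Fact p.Prime] (P : Sylow p H) :
    IsCyclic P ∨ ∃ n : ℕ, Nonempty (P ≃* QuaternionGroup (2 ^ n)) := by
  have hp : p.Prime := Fact.out
  have hPp : IsPGroup p (P : Subgroup H) := P.isPGroup'
  have huniq : ∀ H₁ K₁ : Subgroup (P : Subgroup H), Nat.card H₁ = p → Nat.card K₁ = p → H₁ = K₁ := by
    intro H₁ K₁ h1 hk1
    by_contra hne
    -- generators
    have hgen : ∀ L : Subgroup (P : Subgroup H), Nat.card L = p →
        ∃ x : (P : Subgroup H), x ≠ 1 ∧ x ^ p = 1 ∧ Subgroup.zpowers x = L := by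
      intro L hL
      have hLnt : Nontrivial L := by
        rw [← Finite.one_lt_card_iff_nontrivial, hL]; exact hp.one_lt
      obtain ⟨x, hx⟩ := exists_ne (1 : L)
      refine ⟨x, fun h => hx (Subtype.ext h), ?_, ?_⟩
      · have : x ^ Nat.card L = 1 := pow_card_eq_one'
        rw [hL] at this
        exact congrArg Subtype.val this
      · apply eq_of_le_of_prime_card hp
        · rw [Subgroup.zpowers_le]; exact x.2
        · intro hbot
          have := Subgroup.mem_zpowers (x : (P : Subgroup H))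
          rw [hbot, Subgroup.mem_bot] at this
          exact hx (Subtype.ext this)
        · exact hL
    obtain ⟨x, hx1, hxp, hxH⟩ := hgen H₁ h1
    obtain ⟨y, hy1, hyp, hyK⟩ := hgen K₁ hk1
    -- a central element of order p
    have hPnt : Nontrivial (P : Subgroup H) := ⟨⟨x, 1, hx1⟩⟩
    have hZnt : Nontrivial (Subgroup.center (P : Subgroup H)) := hPp.center_nontrivial
    have hZp : IsPGroup p (Subgroup.center (P : Subgroup H)) := hPp.to_subgroup _
    obtain ⟨k, hk0, hk⟩ := hZp.nontrivial_iff_card.mp hZnt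
    obtain ⟨z, hz⟩ := exists_prime_orderOf_dvd_card' p
      (show p ∣ Nat.card (Subgroup.center (P : Subgroup H)) by rw [hk]; exact dvd_pow_self p hk0.ne')
    have hzp : (z : (P : Subgroup H)) ^ p = 1 := by
      have : z ^ orderOf z = 1 := pow_orderOf_eq_one z
      rw [hz] at this
      exact congrArg Subtype.val this
    have hz1 : (z : (P : Subgroup H)) ≠ 1 := by
      intro h
      have : z = 1 := Subtype.ext h
      rw [this, orderOf_one] at hz
      exact hp.one_lt.ne hz
    have hzcard : Nat.card (Subgroup.zpowers (z : (P : Subgroup H))) = p := by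
      rw [Nat.card_zpowers]; exact orderOf_eq_prime hzp hz1
    -- choose b outside ⟨z⟩
    have hexb : ∃ b : (P : Subgroup H), b ^ p = 1 ∧ b ∉ Subgroup.zpowers (z : (P : Subgroup H)) := by
      by_cases hzH : Subgroup.zpowers (z : (P : Subgroup H)) = H₁
      · refine ⟨y, hyp, ?_⟩
        intro hy
        apply hne
        rw [← hzH, ← hyK]
        symm
        apply eq_of_le_of_prime_card hp
        · rw [Subgroup.zpowers_le]; exact hy
        · intro hbot
          have := Subgroup.mem_zpowers y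
          rw [hbot, Subgroup.mem_bot] at this
          exact hy1 this
        · exact hzcard
      · refine ⟨x, hxp, ?_⟩
        intro hx
        apply hzH
        rw [← hxH]
        symm
        apply eq_of_le_of_prime_card hp
        · rw [Subgroup.zpowers_le]; exact hx
        · intro hbot
          have := Subgroup.mem_zpowers x
          rw [hbot, Subgroup.mem_bot] at this
          exact hx1 this
        · exact hzcard
    obtain ⟨b, hbp, hbz⟩ := hexb
    -- pass to G
    set a' : G := (((z : (P : Subgroup H)) : H) : G) with ha'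
    set b' : G := (((b : (P : Subgroup H)) : H) : G) with hb'
    have ha'p : a' ^ p = 1 := by
      have := congrArg (fun w : (P : Subgroup H) => ((w : H) : G)) hzp
      simpa using this
    have hb'p : b' ^ p = 1 := by
      have := congrArg (fun w : (P : Subgroup H) => ((w : H) : G)) hbp
      simpa using this
    have hcomm : a' * b' = b' * a' := by
      have h := Subgroup.mem_center_iff.mp z.2 b
      have := congrArg (fun w : (P : Subgroup H) => ((w : H) : G)) h
      simpa using this.symm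
    have ha'1 : a' ≠ 1 := by
      intro h
      apply hz1
      apply Subtype.ext; apply Subtype.ext
      exact h
    have ha'H : a' ∈ H := ((z : (P : Subgroup H)) : H).2
    have hb'H : b' ∈ H := ((b : (P : Subgroup H)) : H).2
    have hb'z : b' ∉ Subgroup.zpowers a' := by
      intro hmem
      obtain ⟨n, hn⟩ := Subgroup.mem_zpowers_iff.mp hmem
      apply hbz
      rw [Subgroup.mem_zpowers_iff]
      refine ⟨n, ?_⟩
      apply Subtype.ext; apply Subtype.ext
      rw [← hb', ← hn, ha']
      simp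
    have hb'1 : b' ≠ 1 := fun h => hb'z (h ▸ one_mem _)
    have hKp : ¬ p ∣ Nat.card K := Cfsg.Agent.S0040.not_dvd_card_of_fpf K a' ha'p (hfpf a' ha'H ha'1)
    have hgenle := coprime_gen K a' b' ha'p hb'p hcomm hKp
    apply hK
    rw [eq_bot_iff]
    refine hgenle.trans ?_
    unfold genSub
    apply iSup₂_le
    intro c hc
    have hcH : c ∈ H := by
      rcases hc with rfl | ⟨n, rfl⟩
      · exact hb'H
      · exact mul_mem ha'H (pow_mem hb'H n)
    have hc1 : c ≠ 1 := by
      rcases hc with rfl | ⟨n, rfl⟩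
      · exact hb'1
      · intro h
        apply hb'z
        have haz : a' ∈ Subgroup.zpowers b' := by
          have : a' = (b' ^ n)⁻¹ := eq_inv_of_mul_eq_one_left h
          rw [this]
          exact inv_mem (Subgroup.pow_mem _ (Subgroup.mem_zpowers b') n)
        have heq : Subgroup.zpowers a' = Subgroup.zpowers b' := by
          apply eq_of_le_of_prime_card hp
          · rw [Subgroup.zpowers_le]; exact haz
          · intro hbot
            have := Subgroup.mem_zpowers a'
            rw [hbot, Subgroup.mem_bot] at this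
            exact ha'1 this
          · rw [Nat.card_zpowers]; exact orderOf_eq_prime hb'p hb'1
        rw [heq]; exact Subgroup.mem_zpowers b'
    rw [hfpf c hcH hc1]
  rcases Cfsg.Agent.S0016.result p hPp huniq with h | ⟨-, h⟩
  · exact Or.inl h
  · exact Or.inr h


/-- elementwise hypotheses: faithful, doubly transitive, three-point stabilisers trivial -/
structure Hyp (G Ω : Type*) [Group G] [MulAction G Ω] : Prop where
  faith : ∀ g : G, (∀ a : Ω, g • a = a) → g = 1
  h2 : ∀ {a b c d : Ω}, a ≠ b → c ≠ d → ∃ g : G, g • a = c ∧ g • b = d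
  h3 : ∀ g : G, ∀ a b c : Ω, a ≠ b → b ≠ c → a ≠ c → g • a = a → g • b = b → g • c = c → g = 1

/-- a regular subgroup -/
structure Reg (Ω : Type*) {G : Type*} [Group G] [MulAction G Ω] (N : Subgroup G) : Prop where
  tr : ∀ a b : Ω, ∃ n ∈ N, n • a = b
  free : ∀ n ∈ N, ∀ a : Ω, n • a = a → n = 1

variable {G Ω : Type*} [Group G] [MulAction G Ω]

theorem mem_conj_smul (H : Subgroup G) (g x : G) :
    x ∈ MulAut.conj g • H ↔ g⁻¹ * x * g ∈ H := by
  rw [Subgroup.mem_pointwise_smul_iff_inv_smul_mem, ← map_inv, MulAut.smul_def, MulAut.conj_apply,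
    inv_inv]

theorem pow_smul_fix {g : G} {a : Ω} (h : g • a = a) (n : ℕ) : g ^ n • a = a := by
  have h1 : g ∈ MulAction.stabilizer G a := h
  exact (MulAction.stabilizer G a).pow_mem h1 n

theorem inv_smul_fix {g : G} {a : Ω} (h : g • a = a) : g⁻¹ • a = a :=
  inv_smul_eq_iff.mpr h.symm

/-- conjugation by a point stabiliser element on the regular normal subgroup corresponds to
the action on points -/
theorem conj_eq {N : Subgroup G} [N.Normal] (hN : Reg Ω N) {g n m : G} {a : Ω}
    (hg : g • a = a) (hn : n ∈ N) (hm : m ∈ N) (h : g • (n • a) = m • a) :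
    g * n * g⁻¹ = m := by
  have h1 : (m⁻¹ * (g * n * g⁻¹)) • a = a := by
    rw [mul_smul, mul_smul, mul_smul, inv_smul_fix hg, h, inv_smul_smul]
  have h2 : m⁻¹ * (g * n * g⁻¹) ∈ N :=
    N.mul_mem (N.inv_mem hm) (‹N.Normal›.conj_mem n hn g)
  have h3 := hN.free _ h2 a h1
  calc g * n * g⁻¹ = m * (m⁻¹ * (g * n * g⁻¹)) := by group
    _ = m := by rw [h3, mul_one]

theorem smul_conj {g n : G} {a : Ω} (hg : g • a = a) :
    (g * n * g⁻¹) • a = g • (n • a) := by
  rw [mul_smul, mul_smul, inv_smul_fix hg]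

/-- the regular normal subgroup has exponent two -/
theorem sq_eq_one (hy : Hyp G Ω) {N : Subgroup G} [N.Normal] (hN : Reg Ω N)
    {g : G} (hg1 : g ≠ 1) {a b : Ω} (hab : a ≠ b) (hga : g • a = a) (hgb : g • b = b) :
    ∀ n ∈ N, n * n = 1 := by
  obtain ⟨y, hyN, hyab⟩ := hN.tr a b
  have hy1 : y ≠ 1 := by
    intro h
    rw [h, one_smul] at hyab
    exact hab hyab
  have hgy : g * y * g⁻¹ = y := conj_eq hN hga hyN hyN (by rw [hyab, hgb])
  have hgy' : g * y = y * g := by
    calc g * y = g * y * g⁻¹ * g := by group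
      _ = y * g := by rw [hgy]
  have hyy : y * y = 1 := by
    by_contra hne
    apply hg1
    have hyya : (y * y) • a ≠ a := fun h => hne (hN.free _ (N.mul_mem hyN hyN) a h)
    have h1 : g • ((y * y) • a) = (y * y) • a := by
      rw [← mul_smul, ← mul_assoc, hgy', mul_assoc, hgy', ← mul_assoc, mul_smul, hga]
    refine hy.h3 g a b ((y * y) • a) hab ?_ (Ne.symm hyya) hga hgb h1
    rw [← hyab, mul_smul]
    intro h
    exact hab ((smul_left_cancel y h).trans hyab)
  intro n hn
  by_cases hn1 : n = 1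
  · rw [hn1, one_mul]
  have hna : n • a ≠ a := fun h => hn1 (hN.free n hn a h)
  obtain ⟨x, hxa, hxb⟩ := hy.h2 hab (Ne.symm hna)
  have hxy : x * y * x⁻¹ = n := conj_eq hN hxa hyN hn (by rw [hyab, hxb])
  rw [← hxy]
  calc x * y * x⁻¹ * (x * y * x⁻¹) = x * (y * y) * x⁻¹ := by group
    _ = 1 := by rw [hyy]; group

theorem comm_of_sq {N : Subgroup G} (h : ∀ n ∈ N, n * n = 1) (x y : N) : x * y = y * x := by
  have hx : x * x = 1 := Subtype.ext (h x x.2)
  have hy : y * y = 1 := Subtype.ext (h y y.2)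
  have hxy : (x * y) * (x * y) = 1 := Subtype.ext (h _ (x * y).2)
  calc x * y = y * y * (x * y) * (x * x) := by rw [hx, hy, one_mul, mul_one]
    _ = y * (y * x) * (y * x) * x := by group
    _ = y * ((y * x) * (y * x)) * x := by group
    _ = y * x := by
      have : (y * x) * (y * x) = 1 := Subtype.ext (h _ (y * x).2)
      rw [this, mul_one]

/-- the regular subgroup has as many elements as there are points -/
theorem card_eq {N : Subgroup G} (hN : Reg Ω N) (a : Ω) : Nat.card N = Nat.card Ω := by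
  apply Nat.card_eq_of_bijective (fun n : N => (n : G) • a)
  constructor
  · intro n m h
    have h' : (n : G) • a = (m : G) • a := h
    have h1 : ((m : G)⁻¹ * (n : G)) • a = a := by
      rw [mul_smul, h', inv_smul_smul]
    have h2 := hN.free _ (N.mul_mem (N.inv_mem m.2) n.2) a h1
    apply Subtype.ext
    calc (n : G) = m * ((m : G)⁻¹ * n) := by group
      _ = m := by rw [h2, mul_one]
  · intro b
    obtain ⟨n, hn, hnb⟩ := hN.tr a b
    exact ⟨⟨n, hn⟩, hnb⟩

/-- the Frobenius kernel of a point stabiliser; it is nilpotent by Thompson's theorem -/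
theorem exists_kernel [Finite G] (hy : Hyp G Ω) {g₀ : G} (hg1 : g₀ ≠ 1) {α β : Ω} (hβ : β ≠ α)
    (hgα : g₀ • α = α) (hgβ : g₀ • β = β) :
    ∃ K : Subgroup G, (∀ x, x ∈ K ↔ x • α = α ∧ (x = 1 ∨ ∀ c, x • c = c → c = α)) ∧
      (∀ b c, b ≠ α → c ≠ α → ∃ k ∈ K, k • b = c) ∧ Group.IsNilpotent K := by
  have hH : Cfsg.IsFrobeniusComplement
      (MulAction.stabilizer (MulAction.stabilizer G α) β) := by
    refine ⟨?_, ?_, ?_⟩
    · intro hbot
      have hmem : (⟨g₀, hgα⟩ : MulAction.stabilizer G α) ∈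
          MulAction.stabilizer (MulAction.stabilizer G α) β := hgβ
      rw [hbot, Subgroup.mem_bot] at hmem
      exact hg1 (congrArg Subtype.val hmem)
    · have hγ : ∃ γ : Ω, g₀ • γ ≠ γ := by
        by_contra hcon
        push Not at hcon
        exact hg1 (hy.faith _ hcon)
      obtain ⟨γ, hγ⟩ := hγ
      have hγα : γ ≠ α := fun h => hγ (by rw [h, hgα])
      have hγβ : γ ≠ β := fun h => hγ (by rw [h, hgβ])
      obtain ⟨g, hgα', hgβ'⟩ := hy.h2 (Ne.symm hβ) (Ne.symm hγα)
      intro htop
      have hmem : (⟨g, hgα'⟩ : MulAction.stabilizer G α) ∈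
          MulAction.stabilizer (MulAction.stabilizer G α) β := by
        rw [htop]; exact Subgroup.mem_top _
      have h1 : g • β = β := hmem
      exact hγβ (hgβ'.symm.trans h1)
    · intro g hg
      rw [eq_bot_iff]
      intro x hx
      rw [Subgroup.mem_inf, mem_conj_smul] at hx
      obtain ⟨hx1, hx2⟩ := hx
      have h1 : (x : G) • β = β := hx1
      have h2 : ((g : G)⁻¹ * (x : G) * (g : G)) • β = β := hx2
      have h3 : (x : G) • ((g : G) • β) = (g : G) • β := by
        rw [mul_smul, mul_smul, inv_smul_eq_iff] at h2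
        exact h2
      have h4 : (g : G) • β ≠ β := fun h => hg h
      have h5 : (g : G) • β ≠ α := by
        intro h
        have hgα' : (g : G) • α = α := g.2
        exact hβ (smul_left_cancel (g : G) (h.trans hgα'.symm))
      have h6 : (x : G) = 1 := hy.h3 _ α β ((g : G) • β) (Ne.symm hβ) (Ne.symm h4) (Ne.symm h5)
        x.2 h1 h3
      rw [Subgroup.mem_bot]
      exact Subtype.ext h6
  obtain ⟨K₀, hK₀, hK₀n, hK₀c⟩ := Cfsg.Agent.S0035.result _ hH
  obtain ⟨K₁, hK₁, -, hK₁nil⟩ := Cfsg.Agent.S0042.result _ hH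
  have hK01 : K₁ = K₀ := SetLike.coe_injective (hK₁.trans hK₀.symm)
  rw [hK01] at hK₁nil
  have hmemK₀ : ∀ s : MulAction.stabilizer G α, s ∈ K₀ ↔
      (s = 1 ∨ ∀ c, (s : G) • c = c → c = α) := by
    intro s
    have h1 : s ∈ K₀ ↔ s ∈ Cfsg.frobeniusKernel
        (MulAction.stabilizer (MulAction.stabilizer G α) β) := by
      rw [← hK₀]; rfl
    rw [h1]
    have h2 : (∀ g : MulAction.stabilizer G α,
        s ∉ MulAut.conj g • MulAction.stabilizer (MulAction.stabilizer G α) β) ↔
        (∀ c, (s : G) • c = c → c = α) := by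
      constructor
      · intro h c hc
        by_contra hcα
        obtain ⟨g, hgα', hgβ'⟩ := hy.h2 (Ne.symm hβ) (Ne.symm hcα)
        apply h ⟨g, hgα'⟩
        rw [mem_conj_smul]
        show (g⁻¹ * (s : G) * g) • β = β
        rw [mul_smul, mul_smul, hgβ', hc, ← hgβ', inv_smul_smul]
      · intro h g hmem
        rw [mem_conj_smul] at hmem
        have h2 : ((g : G)⁻¹ * (s : G) * (g : G)) • β = β := hmem
        have h3 : (s : G) • ((g : G) • β) = (g : G) • β := by
          rw [mul_smul, mul_smul, inv_smul_eq_iff] at h2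
          exact h2
        have h4 := h _ h3
        have hgα' : (g : G) • α = α := g.2
        exact hβ (smul_left_cancel (g : G) (h4.trans hgα'.symm))
    show (s = 1 ∨ _) ↔ _
    rw [h2]
  have htr : ∀ c, c ≠ α → ∃ k ∈ K₀, (k : G) • β = c := by
    intro c hc
    obtain ⟨g, hgα', hgβ'⟩ := hy.h2 (Ne.symm hβ) (Ne.symm hc)
    obtain ⟨⟨k, h⟩, hkh, -⟩ := (Subgroup.isComplement'_def.mp hK₀c).existsUnique
      (⟨g, hgα'⟩ : MulAction.stabilizer G α)
    refine ⟨k.1, k.2, ?_⟩
    have h1 : ((k : MulAction.stabilizer G α) : G) * ((h : MulAction.stabilizer G α) : G) = g :=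
      congrArg Subtype.val hkh
    have h2 : ((h : MulAction.stabilizer G α) : G) • β = β := h.2
    rw [← hgβ', ← h1, mul_smul, h2]
  refine ⟨K₀.map (MulAction.stabilizer G α).subtype, ?_, ?_, ?_⟩
  · intro x
    rw [Subgroup.mem_map]
    constructor
    · rintro ⟨s, hs, rfl⟩
      refine ⟨s.2, ?_⟩
      rcases (hmemK₀ s).mp hs with h | h
      · left; rw [h]; rfl
      · right; exact h
    · rintro ⟨hxα, hx⟩
      refine ⟨⟨x, hxα⟩, ?_, rfl⟩
      rw [hmemK₀]
      rcases hx with h | h
      · left; exact Subtype.ext h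
      · right; exact h
  · intro b c hb hc
    obtain ⟨k1, hk1, hk1b⟩ := htr b hb
    obtain ⟨k2, hk2, hk2c⟩ := htr c hc
    refine ⟨((k2 * k1⁻¹ : MulAction.stabilizer G α) : G), ?_, ?_⟩
    · rw [Subgroup.mem_map]
      exact ⟨k2 * k1⁻¹, K₀.mul_mem hk2 (K₀.inv_mem hk1), rfl⟩
    · rw [← hk1b]
      show ((k2 : G) * (k1 : G)⁻¹) • ((k1 : G) • β) = c
      rw [mul_smul, inv_smul_smul, hk2c]
  · have e : K₀ ≃* K₀.map (MulAction.stabilizer G α).subtype :=
      K₀.equivMapOfInjective _ (MulAction.stabilizer G α).subtype_injective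
    haveI := hK₁nil
    exact Group.nilpotent_of_mulEquiv e

/-- a nonidentity kernel element centralises no nonidentity element of the regular normal
subgroup -/
theorem kernel_fpf {N : Subgroup G} (hN : Reg Ω N) {α : Ω} {K : Subgroup G}
    (hK : ∀ x, x ∈ K ↔ x • α = α ∧ (x = 1 ∨ ∀ c, x • c = c → c = α)) :
    ∀ k ∈ K, k ≠ 1 → N ⊓ Subgroup.centralizer {k} = ⊥ := by
  intro k hk hk1
  rw [eq_bot_iff]
  intro n hn
  rw [Subgroup.mem_inf, Subgroup.mem_centralizer_iff] at hn
  obtain ⟨hnN, hnc⟩ := hn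
  have hkn : k * n = n * k := hnc k (Set.mem_singleton k)
  obtain ⟨hkα, hk'⟩ := (hK k).mp hk
  rcases hk' with h | h
  · exact absurd h hk1
  · have h1 : k • (n • α) = n • α := by rw [← mul_smul, hkn, mul_smul, hkα]
    have h2 := h _ h1
    rw [Subgroup.mem_bot]
    exact hN.free n hnN α h2

/-- a group acting fixed-point-freely on a nontrivial group of exponent two has odd order -/
theorem kernel_odd [Finite G] {N K : Subgroup G} [N.Normal] (hN2 : ∀ n ∈ N, n * n = 1)
    (hNbot : N ≠ ⊥) (hfpf : ∀ k ∈ K, k ≠ 1 → N ⊓ Subgroup.centralizer {k} = ⊥) :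
    Odd (Nat.card K) := by
  rw [← Nat.not_even_iff_odd]
  intro hev
  haveI : Fact (Nat.Prime 2) := ⟨Nat.prime_two⟩
  obtain ⟨t, ht⟩ := exists_prime_orderOf_dvd_card' (G := K) 2 hev.two_dvd
  have ht1 : (t : G) ≠ 1 := by
    intro h
    have : t = 1 := Subtype.ext h
    rw [this, orderOf_one] at ht
    norm_num at ht
  have htt : (t : G) * (t : G) = 1 := by
    have h1 : t ^ 2 = 1 := by rw [← ht]; exact pow_orderOf_eq_one t
    have h2 := congrArg (fun x : K => (x : G)) h1
    simpa [pow_two] using h2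
  have htinv : (t : G)⁻¹ = t := inv_eq_of_mul_eq_one_left htt
  obtain ⟨n, hnN, hn1⟩ : ∃ n : G, n ∈ N ∧ n ≠ 1 := by
    obtain ⟨n, hn⟩ := (Subgroup.ne_bot_iff_exists_ne_one).mp hNbot
    exact ⟨(n : G), n.2, fun h => hn (Subtype.ext h)⟩
  have hbot := hfpf t t.2 ht1
  have hconjN : (t : G) * n * (t : G)⁻¹ ∈ N := ‹N.Normal›.conj_mem n hnN t
  have hcomm : n * ((t : G) * n * (t : G)⁻¹) = (t : G) * n * (t : G)⁻¹ * n := by
    have h1 := hN2 _ (N.mul_mem hnN hconjN)
    have h2 := hN2 _ hnN
    have h3 := hN2 _ hconjN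
    calc n * ((t : G) * n * (t : G)⁻¹)
        = ((t : G) * n * (t : G)⁻¹ * ((t : G) * n * (t : G)⁻¹)) *
          (n * ((t : G) * n * (t : G)⁻¹)) * (n * n) := by rw [h2, h3, one_mul, mul_one]
      _ = (t : G) * n * (t : G)⁻¹ * ((t : G) * n * (t : G)⁻¹ * n) *
          (((t : G) * n * (t : G)⁻¹) * n) * n := by group
      _ = (t : G) * n * (t : G)⁻¹ * ((t : G) * n * (t : G)⁻¹ * n *
          (((t : G) * n * (t : G)⁻¹) * n)) * n := by group
      _ = (t : G) * n * (t : G)⁻¹ * n := by
        rw [hN2 _ (N.mul_mem hconjN hnN), mul_one]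
  have hm : n * ((t : G) * n * (t : G)⁻¹) ∈ N ⊓ Subgroup.centralizer {(t : G)} := by
    rw [Subgroup.mem_inf, Subgroup.mem_centralizer_iff]
    refine ⟨N.mul_mem hnN hconjN, ?_⟩
    intro h hh
    rw [Set.mem_singleton_iff] at hh
    subst hh
    calc (t : G) * (n * ((t : G) * n * (t : G)⁻¹))
        = ((t : G) * n * (t : G)⁻¹) * ((t : G) * (t : G)) * n * (t : G)⁻¹ := by group
      _ = ((t : G) * n * (t : G)⁻¹) * n * (t : G)⁻¹ := by rw [htt, mul_one]
      _ = n * ((t : G) * n * (t : G)⁻¹) * (t : G)⁻¹ := by rw [hcomm]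
      _ = n * ((t : G) * n * (t : G)⁻¹) * (t : G) := by rw [htinv]
  rw [hbot, Subgroup.mem_bot] at hm
  have hn' : (t : G) * n * (t : G)⁻¹ = n := by
    have h2 := hN2 _ hnN
    calc (t : G) * n * (t : G)⁻¹ = (n * n) * ((t : G) * n * (t : G)⁻¹) := by rw [h2, one_mul]
      _ = n * (n * ((t : G) * n * (t : G)⁻¹)) := by group
      _ = n := by rw [hm, mul_one]
  have hn2 : n ∈ N ⊓ Subgroup.centralizer {(t : G)} := by
    rw [Subgroup.mem_inf, Subgroup.mem_centralizer_iff]
    refine ⟨hnN, ?_⟩
    intro h hh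
    rw [Set.mem_singleton_iff] at hh
    subst hh
    calc (t : G) * n = (t : G) * n * (t : G)⁻¹ * t := by group
      _ = n * t := by rw [hn']
  rw [hbot, Subgroup.mem_bot] at hn2
  exact hn1 hn2

/-- the kernel is cyclic -/
theorem kernel_cyclic [Finite G] {N K : Subgroup G} [N.Normal]
    (hNbot : N ≠ ⊥) (hfpf : ∀ k ∈ K, k ≠ 1 → N ⊓ Subgroup.centralizer {k} = ⊥)
    (hnil : Group.IsNilpotent K) (hodd : Odd (Nat.card K)) : IsCyclic K := by
  have h1 : IsCyclic (⊤ : Subgroup K) := by
    apply Cfsg.Agent.Lib.Helper78.isCyclic_of_odd_of_sylow hnil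
    · intro q _ P
      exact sylow_of_fpf N K hNbot hfpf q P
    · rw [Subgroup.card_top]
      exact hodd
  exact isCyclic_of_surjective (Subgroup.topEquiv (G := K)).toMonoidHom
    (Subgroup.topEquiv (G := K)).surjective

/-- two elements of a point stabiliser inducing the same automorphism of the regular normal
subgroup are equal -/
theorem eq_of_conj_eq (hy : Hyp G Ω) {N : Subgroup G} (hN : Reg Ω N) {a : Ω} {g g' : G}
    (hg : g • a = a) (hg' : g' • a = a) (h : ∀ n ∈ N, g * n * g⁻¹ = g' * n * g'⁻¹) : g = g' := by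
  have h1 : ∀ c : Ω, (g'⁻¹ * g) • c = c := by
    intro c
    obtain ⟨n, hn, hnc⟩ := hN.tr a c
    rw [← hnc, mul_smul, ← smul_conj hg, h n hn, smul_conj hg', inv_smul_smul]
  have h2 := hy.faith _ h1
  calc g = g' * (g'⁻¹ * g) := by group
    _ = g' := by rw [h2, mul_one]

/-- main theorem: the degree is `2 ^ s` with `s` prime -/
theorem main [Finite G] [Fintype Ω] (hy : Hyp G Ω) (N : Subgroup G) [N.Normal] (hN : Reg Ω N)
    {g₀ : G} (hg1 : g₀ ≠ 1) {a b : Ω} (hab : a ≠ b) (hga : g₀ • a = a) (hgb : g₀ • b = b) :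
    ∃ s : ℕ, s.Prime ∧ Fintype.card Ω = 2 ^ s := by
  classical
  -- an element `d` of prime order fixing `a` and `b`
  have ho1 : orderOf g₀ ≠ 1 := fun h => hg1 (orderOf_eq_one_iff.mp h)
  obtain ⟨s, hs, hsd⟩ := Nat.exists_prime_and_dvd ho1
  have ho0 : orderOf g₀ ≠ 0 := (orderOf_pos g₀).ne'
  set d : G := g₀ ^ (orderOf g₀ / s) with hd
  have hdo : orderOf d = s := orderOf_pow_orderOf_div ho0 hsd
  have hd1 : d ≠ 1 := by
    intro h
    rw [h, orderOf_one] at hdo
    exact hs.one_lt.ne hdo
  have hda : d • a = a := pow_smul_fix hga _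
  have hdb : d • b = b := pow_smul_fix hgb _
  have hds : d ^ s = 1 := by rw [← hdo]; exact pow_orderOf_eq_one d
  -- the regular normal subgroup
  have hN2 : ∀ n ∈ N, n * n = 1 := sq_eq_one hy hN hd1 hab hda hdb
  have hNbot : N ≠ ⊥ := by
    intro h
    obtain ⟨n, hn, hnab⟩ := hN.tr a b
    rw [h, Subgroup.mem_bot] at hn
    rw [hn, one_smul] at hnab
    exact hab hnab
  -- the kernel
  obtain ⟨K, hK, hKtr, hKnil⟩ := exists_kernel hy hd1 (Ne.symm hab) hda hdb
  have hfpf := kernel_fpf hN hK
  have hodd : Odd (Nat.card K) := kernel_odd hN2 hNbot hfpf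
  haveI hcyc : IsCyclic K := kernel_cyclic hNbot hfpf hKnil hodd
  obtain ⟨c, hc⟩ := IsCyclic.exists_generator (α := K)
  have hcpow : ∀ k ∈ K, ∃ i : ℕ, (c : G) ^ i = k := by
    intro k hk
    have h1 : (⟨k, hk⟩ : K) ∈ Submonoid.powers c :=
      mem_powers_iff_mem_zpowers.mpr (hc ⟨k, hk⟩)
    obtain ⟨i, hi⟩ := h1
    refine ⟨i, ?_⟩
    have := congrArg (fun x : K => (x : G)) hi
    simpa using this
  have hca : (c : G) • a = a := ((hK c).mp c.2).1
  have hcia : ∀ i : ℕ, ((c : G) ^ i) • a = a := fun i => pow_smul_fix hca i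
  have hciK : ∀ i : ℕ, (c : G) ^ i ∈ K := fun i => K.pow_mem c.2 i
  -- `d` normalises the kernel
  have hdK : d * (c : G) * d⁻¹ ∈ K := by
    rw [hK]
    obtain ⟨-, hc'⟩ := (hK c).mp c.2
    refine ⟨by rw [smul_conj hda, hca, hda], ?_⟩
    rcases hc' with h | h
    · left; rw [h]; group
    · right
      intro x hx
      have h1 : (c : G) • (d⁻¹ • x) = d⁻¹ • x := by
        rw [mul_smul, mul_smul] at hx
        exact eq_inv_smul_iff.mpr hx
      have h2 := h _ h1
      rw [inv_smul_eq_iff, hda] at h2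
      exact h2
  obtain ⟨j, hj⟩ := hcpow _ hdK
  have hdc : d * (c : G) = (c : G) ^ j * d := by
    rw [hj]; group
  -- commuting with `d`
  have hcent : ∀ i : ℕ, d * (c : G) ^ i = (c : G) ^ i * d → (c : G) ^ i = 1 := by
    intro i hi
    by_contra hne
    apply hd1
    obtain ⟨-, hc'⟩ := (hK _).mp (hciK i)
    rcases hc' with h | h
    · exact absurd h hne
    · have h1 : d • (((c : G) ^ i) • b) = ((c : G) ^ i) • b := by
        rw [← mul_smul, hi, mul_smul, hdb]
      have h2 : b ≠ ((c : G) ^ i) • b := fun h' => hab (h b h'.symm).symm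
      have h3 : a ≠ ((c : G) ^ i) • b := by
        intro h'
        have : ((c : G) ^ i) • a = ((c : G) ^ i) • b := by rw [hcia i]; exact h'
        exact hab (smul_left_cancel _ this)
      exact hy.h3 d a b _ hab h2 h3 hda hdb h1
  -- the commutative group structure
  letI : CommGroup N := { (inferInstance : Group N) with mul_comm := comm_of_sq hN2 }
  haveI : Finite N := inferInstance
  have hcardN : Nat.card N = Nat.card Ω := card_eq hN a
  have hcard3 : 2 < Nat.card Ω := by
    rw [Nat.card_eq_fintype_card, Fintype.two_lt_card_iff]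
    have hγ : ∃ γ : Ω, d • γ ≠ γ := by
      by_contra hcon
      push Not at hcon
      exact hd1 (hy.faith _ hcon)
    obtain ⟨γ, hγ⟩ := hγ
    exact ⟨a, b, γ, hab, fun h => hγ (by rw [← h, hda]), fun h => hγ (by rw [← h, hdb])⟩
  have key : Nat.card N = 2 ^ s := by
    apply FieldLemma.main_mul (MulAut.conjNormal (c : G)) (MulAut.conjNormal d) s hs ?_ ?_ j ?_ ?_
      (by rw [hcardN]; exact hcard3)
    · intro v w hv hw
      have hva : (v : G) • a ≠ a := fun h => hv (Subtype.ext (hN.free _ v.2 a h))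
      have hwa : (w : G) • a ≠ a := fun h => hw (Subtype.ext (hN.free _ w.2 a h))
      obtain ⟨k, hk, hkvw⟩ := hKtr _ _ hva hwa
      obtain ⟨i, hi⟩ := hcpow k hk
      refine ⟨i, ?_⟩
      apply Subtype.ext
      rw [← map_pow, MulAut.conjNormal_apply, hi]
      exact conj_eq hN ((hK k).mp hk).1 v.2 w.2 hkvw
    · rw [← map_pow, hds, map_one]
    · rw [← map_pow, ← map_mul, ← map_mul, hdc]
    · intro i hi
      rw [← map_pow, ← map_mul, ← map_mul] at hi
      have h1 : d * (c : G) ^ i = (c : G) ^ i * d := by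
        apply eq_of_conj_eq hy hN (a := a)
        · rw [mul_smul, hcia, hda]
        · rw [mul_smul, hda, hcia]
        · intro n hn
          have h2 := congrArg (fun f : MulAut N => ((f ⟨n, hn⟩ : N) : G)) hi
          simp only [MulAut.conjNormal_apply] at h2
          exact h2
      rw [← map_pow, hcent i h1, map_one]
  refine ⟨s, hs, ?_⟩
  rw [← Nat.card_eq_fintype_card, ← hcardN, key]

end Cfsg.Agent.Lib.Helper86.TwoTrans
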