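import Mathlib
import Cfsg.Prelude.Def_Solvable
import Cfsg.Agent.Lib.Helper24.SylowInv
import Cfsg.Agent.Lib.Helper24.InvCompl
import Cfsg.Agent.Lib.Helper79.Frobenius
import Cfsg.Agent.Lib.Helper78.TwoFrob1

set_option autoImplicit false
set_option linter.style.haveILetI false
set_option linter.unusedSectionVars false

/-! A group `H` acting coprimely and nontrivially on a normal subgroup `N`, such that all
nonidentity elements of `H` have the same fixed points on `N`, is isomorphic to a Frobenius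
complement. -/

namespace Cfsg.Agent.Lib.Helper86.UniformFix

open Subgroup
open Cfsg.Agent.Lib.Helper33 Cfsg.Agent.Lib.Helper24
open scoped Pointwise

universe u
variable {G : Type u} [Group G]

/-- `S` is isomorphic to a Frobenius complement of a finite group in the same universe. -/
def Frob (S : Subgroup G) : Prop :=
  ∃ (F : Type u) (_ : Group F) (_ : Finite F) (C : Subgroup F),
    Cfsg.IsFrobeniusComplement C ∧ Nonempty (S ≃* C)

/-- Free section lemma: if `S` normalizes the `q`-group `Q` coprimely, does not centralize it, and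
every nonidentity element of `S` has the same fixed points on `Q` as `S`, then `S` is a Frobenius
complement. -/
theorem frob_of_section [Finite G] {q : ℕ} [Fact q.Prime] (S Q : Subgroup G) (hS : S ≠ ⊥)
    (hQ : IsPGroup q Q) (hSQ : S ≤ normalizer (Q : Set G))
    (hcop : (Nat.card S).Coprime (Nat.card Q))
    (hne : ¬ Q ≤ centralizer (S : Set G))
    (hfix : ∀ s ∈ S, s ≠ 1 → ∀ x ∈ Q, x * s = s * x → x ∈ centralizer (S : Set G)) : Frob S := by
  classical
  set Q₀ : Subgroup G := Q ⊓ centralizer (S : Set G) with hQ₀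
  have hQ₀Q : Q₀ ≤ Q := inf_le_left
  have hQ₀lt : Q₀ < Q := by
    refine lt_of_le_of_ne hQ₀Q ?_
    intro h
    apply hne
    rw [← h]
    exact inf_le_right
  set Q₁ : Subgroup G := Q ⊓ normalizer (Q₀ : Set G) with hQ₁
  have hlt : Q₀ < Q₁ := normalizer_growth hQ hQ₀lt
  have hQ₁Q : Q₁ ≤ Q := inf_le_left
  have hSc : ∀ s ∈ S, ∀ z ∈ Q₀, s * z = z * s := by
    intro s hs z hz
    exact mem_centralizer_iff.mp (mem_inf.mp hz).2 s hs
  have hSQ1 : ∀ s ∈ S, s ∈ Q → s = 1 := by
    intro s hs hsQ
    have h1 := (Subgroup.disjoint_of_coprime_natCard hcop).eq_bot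
    have h2 : s ∈ S ⊓ Q := mem_inf.mpr ⟨hs, hsQ⟩
    rw [h1] at h2
    exact mem_bot.mp h2
  have hSQ₀ : S ≤ normalizer (Q₀ : Set G) := by
    intro s hs
    rw [mem_normalizer_iff]
    intro z
    constructor
    · intro hz
      have : s * z * s⁻¹ = z := by rw [hSc s hs z hz]; group
      rw [this]; exact hz
    · intro hz
      have h1 := hSc s hs _ hz
      have h2 : s * (s * z * s⁻¹) = s * z := by rw [h1]; group
      have h3 : z = s * z * s⁻¹ := (mul_left_cancel h2).symm
      rw [h3]; exact hz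
  have hSQ₁ : S ≤ normalizer (Q₁ : Set G) := by
    intro s hs
    rw [← cj_eq_self_iff, hQ₁, cj_inf, cj_eq_self_iff.mpr (hSQ hs),
      cj_eq_self_iff.mpr (le_normalizer (hSQ₀ hs))]
  set X : Subgroup G := S ⊔ Q₁ with hX
  have hXQ₀ : X ≤ normalizer (Q₀ : Set G) := sup_le hSQ₀ inf_le_right
  have hXQ₁ : X ≤ normalizer (Q₁ : Set G) := sup_le hSQ₁ le_normalizer
  have hQ₀X : Q₀ ≤ X := le_trans hlt.le le_sup_right
  haveI hnorm : (Q₀.subgroupOf X).Normal := (normal_subgroupOf_iff_le_normalizer hQ₀X).mpr hXQ₀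
  let π : X →* X ⧸ (Q₀.subgroupOf X) := QuotientGroup.mk' _
  have hπ : ∀ z : X, π z = 1 ↔ (z : G) ∈ Q₀ := by
    intro z
    rw [show π z = (z : X ⧸ (Q₀.subgroupOf X)) from rfl, QuotientGroup.eq_one_iff, mem_subgroupOf]
  let f : S →* X ⧸ (Q₀.subgroupOf X) := π.comp (inclusion le_sup_left)
  let g : Q₁ →* X ⧸ (Q₀.subgroupOf X) := π.comp (inclusion le_sup_right)
  have hf1 : ∀ s : S, f s = 1 → s = 1 := by
    intro s hs
    have h1 : ((inclusion (le_sup_left : S ≤ X) s : X) : G) ∈ Q₀ := (hπ _).mp hs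
    have h2 : (s : G) ∈ Q₀ := h1
    exact Subtype.ext (hSQ1 s s.2 (hQ₀Q h2))
  have hfinj : Function.Injective f := (injective_iff_map_eq_one f).mpr hf1
  have hg1 : ∀ x : Q₁, g x = 1 ↔ (x : G) ∈ Q₀ := fun x => hπ _
  have hPn : (g.range).Normal := by
    constructor
    intro y hy w
    obtain ⟨x, rfl⟩ := hy
    obtain ⟨z, rfl⟩ := QuotientGroup.mk'_surjective _ w
    have hz : (z : G) * x * (z : G)⁻¹ ∈ Q₁ := (mem_normalizer_iff.mp (hXQ₁ z.2) x).mp x.2
    refine ⟨⟨_, hz⟩, ?_⟩
    show π (inclusion le_sup_right ⟨_, hz⟩) = π z * π (inclusion le_sup_right x) * (π z)⁻¹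
    rw [← map_inv, ← map_mul, ← map_mul]
    congr 1
  have hfpf : ∀ c ∈ f.range, c ≠ 1 → ∀ y ∈ g.range, y ≠ 1 → c * y ≠ y * c := by
    rintro _ ⟨s, rfl⟩ hc _ ⟨x, rfl⟩ hy hcomm
    have hs1 : (s : G) ≠ 1 := by
      intro h
      apply hc
      have : s = 1 := Subtype.ext h
      rw [this, map_one]
    apply hy
    rw [hg1]
    have hk : ∀ a ∈ zpowers (s : G), a * (x : G) * a⁻¹ * (x : G)⁻¹ ∈ Q₀ := by
      intro a ha
      obtain ⟨k, rfl⟩ := mem_zpowers_iff.mp ha
      have hc2 : f (s ^ k) * g x = g x * f (s ^ k) := by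
        rw [map_zpow]
        exact (Commute.zpow_left (show Commute (f s) (g x) from hcomm) k).eq
      have h3 : π (inclusion le_sup_left (s ^ k) * inclusion le_sup_right x *
          (inclusion le_sup_left (s ^ k))⁻¹ * (inclusion le_sup_right x)⁻¹) = 1 := by
        rw [map_mul, map_mul, map_mul, map_inv, map_inv]
        show f (s ^ k) * g x * (f (s ^ k))⁻¹ * (g x)⁻¹ = 1
        rw [hc2]; group
      have h4 := (hπ _).mp h3
      simpa using h4
    have hAN : zpowers (s : G) ≤ normalizer (Q₀ : Set G) := zpowers_le.mpr (hSQ₀ s.2)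
    have hcopA : (Nat.card (zpowers (s : G))).Coprime (Nat.card Q₀) := by
      rw [Nat.card_zpowers]
      exact Nat.Coprime.coprime_dvd_left (Subgroup.orderOf_dvd_natCard S s.2)
        (Nat.Coprime.coprime_dvd_right (card_dvd_of_le hQ₀Q) hcop)
    have hsolv : Group.IsSolvable (zpowers (s : G)) := inferInstance
    obtain ⟨n, hn, hcn⟩ := fixed_point_lemma Q₀ (zpowers (s : G)) hAN hcopA (Or.inr hsolv) (x : G) hk
    have h5 : (s : G) * (n⁻¹ * x) = (n⁻¹ * x) * s :=
      mem_centralizer_iff.mp hcn s (mem_zpowers _)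
    have h6 : n⁻¹ * (x : G) ∈ Q := Q.mul_mem (Q.inv_mem (hQ₀Q hn)) (hQ₁Q x.2)
    have h7 : n⁻¹ * (x : G) ∈ Q₀ := mem_inf.mpr ⟨h6, hfix s s.2 hs1 _ h6 h5.symm⟩
    have h8 : (x : G) = n * (n⁻¹ * x) := by group
    rw [h8]
    exact Q₀.mul_mem hn h7
  have hcompl : (f.range).IsComplement' (g.range) := by
    apply isComplement'_of_disjoint_and_mul_eq_univ
    · rw [disjoint_def]
      rintro _ ⟨s, rfl⟩ ⟨x, hx⟩
      have h1 : π ((inclusion le_sup_right x)⁻¹ * inclusion le_sup_left s) = 1 := by
        rw [map_mul, map_inv]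
        show (g x)⁻¹ * f s = 1
        rw [hx]; group
      have h2 := (hπ _).mp h1
      have h3 : (x : G)⁻¹ * (s : G) ∈ Q₀ := by simpa using h2
      have h4 : (s : G) ∈ Q := by
        have : (s : G) = (x : G) * ((x : G)⁻¹ * s) := by group
        rw [this]; exact Q.mul_mem (hQ₁Q x.2) (hQ₀Q h3)
      have : s = 1 := Subtype.ext (hSQ1 s s.2 h4)
      rw [this, map_one]
    · rw [Set.eq_univ_iff_forall]
      intro w
      obtain ⟨z, rfl⟩ := QuotientGroup.mk'_surjective _ w
      obtain ⟨a, ha, n, hn, hz⟩ := exists_mul_of_mem_sup_of_le_normalizer S Q₁ hSQ₁ (z : G) z.2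
      refine Set.mem_mul.mpr ⟨f ⟨a, ha⟩, ⟨_, rfl⟩, g ⟨n, hn⟩, ⟨_, rfl⟩, ?_⟩
      show π (inclusion le_sup_left ⟨a, ha⟩) * π (inclusion le_sup_right ⟨n, hn⟩) = π z
      rw [← map_mul]
      congr 1
      apply Subtype.ext
      simp [hz]
  have hPne : g.range ≠ ⊥ := by
    obtain ⟨x, hx1, hx0⟩ := SetLike.exists_of_lt hlt
    intro h
    have h1 : g ⟨x, hx1⟩ ∈ g.range := ⟨_, rfl⟩
    rw [h, mem_bot, hg1] at h1
    exact hx0 h1
  have hCne : f.range ≠ ⊥ := by
    obtain ⟨s, hs1⟩ := (ne_bot_iff_exists_ne_one).mp hS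
    intro h
    have h1 : f s ∈ f.range := ⟨_, rfl⟩
    rw [h, mem_bot] at h1
    exact hs1 (hf1 _ h1)
  haveI := hPn
  obtain ⟨hF, -⟩ := Cfsg.Agent.Lib.Helper79.frobenius_of_fpf g.range f.range hPne hCne hcompl hfpf
  exact ⟨X ⧸ (Q₀.subgroupOf X), inferInstance, inferInstance, f.range, hF,
    ⟨MonoidHom.ofInjective hfinj⟩⟩


/-- If `A ⊴ S` is solvable and `C_N(A) ≤ C(S)`, then some Sylow `q`-subgroup of `N` is
`S`-invariant (coprime action, no solvability assumption on `S` or `N`). -/
theorem exists_invariant_sylow_of_normal_solvable [Finite G] {q : ℕ} [Fact q.Prime]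
    (S A N : Subgroup G) [hN : N.Normal] (hAS : A ≤ S) (hSA : S ≤ normalizer (A : Set G))
    (hcop : (Nat.card S).Coprime (Nat.card N)) (hAsolv : Group.IsSolvable A)
    (hcent : N ⊓ centralizer (A : Set G) ≤ centralizer (S : Set G)) :
    ∃ P : Sylow q N, S ≤ normalizer (((P : Subgroup N).map N.subtype : Subgroup G) : Set G) := by
  have hNtop : normalizer (N : Set G) = ⊤ := normalizer_eq_top N
  have hAN : A ≤ normalizer (N : Set G) := by rw [hNtop]; exact le_top
  have hcopA : (Nat.card A).Coprime (Nat.card N) :=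
    Nat.Coprime.coprime_dvd_left (card_dvd_of_le hAS) hcop
  obtain ⟨P, hP⟩ := exists_invariant_sylow (p := q) A N hAN hcopA (Or.inl hAsolv)
  refine ⟨P, ?_⟩
  intro s hs
  obtain ⟨hUN, hUq, hUi⟩ := sylow_map_facts N P
  set U : Subgroup G := (P : Subgroup N).map N.subtype with hU
  have hcjN : ∀ g : G, cj g N = N := fun g => cj_eq_self_iff.mpr (by rw [hNtop]; trivial)
  have hVN : cj s U ≤ N := by
    rw [cj_le_iff, hcjN]; exact hUN
  have hVq : IsPGroup q (cj s U) := isPGroup_cj hUq
  have hVi : ¬ q ∣ (cj s U).relIndex N := by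
    have h1 : (cj s U).relIndex (cj s N) = U.relIndex N := relIndex_cj s U N
    rw [hcjN] at h1
    rw [h1]; exact hUi
  obtain ⟨P', hP'⟩ := exists_sylow_map_eq N (cj s U) hVN hVq hVi
  have hAP' : A ≤ normalizer (((P' : Subgroup N).map N.subtype : Subgroup G) : Set G) := by
    rw [hP']
    intro a ha
    have ha' : s⁻¹ * a * s ∈ A := by
      have h1 := (mem_normalizer_iff.mp (hSA (S.inv_mem hs)) a).mp ha
      simpa using h1
    have e : a * s = s * (s⁻¹ * a * s) := by group
    rw [← cj_eq_self_iff, ← cj_mul, e, cj_mul, cj_eq_self_iff.mpr (hP ha')]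
  obtain ⟨c, hc, hcj⟩ := invariant_sylow_conj A N hAN hcopA (Or.inl hAsolv) P P' hP hAP'
  rw [hP'] at hcj
  have hcS : c ∈ centralizer (S : Set G) := hcent hc
  have hcs : s * c = c * s := mem_centralizer_iff.mp hcS s hs
  have h1 : c⁻¹ * s ∈ normalizer (U : Set G) := by
    rw [← cj_eq_self_iff, cj_mul, ← hcj, cj_inv_cj]
  have hcN : c ^ Nat.card N = 1 := by
    have hcN' : c ∈ N := (mem_inf.mp hc).1
    exact orderOf_dvd_iff_pow_eq_one.mp (Subgroup.orderOf_dvd_natCard N hcN')
  have h2 : s ^ Nat.card N ∈ normalizer (U : Set G) := by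
    have h3 : (c⁻¹ * s) ^ Nat.card N = s ^ Nat.card N := by
      have hcomm : Commute c⁻¹ s := Commute.inv_left (show Commute c s from hcs.symm)
      rw [hcomm.mul_pow, inv_pow, hcN, inv_one, one_mul]
    rw [← h3]; exact pow_mem h1 _
  have hcop' : (Nat.card N).Coprime (orderOf s) :=
    (Nat.Coprime.coprime_dvd_left (Subgroup.orderOf_dvd_natCard S hs) hcop).symm
  obtain ⟨m, hm⟩ := exists_pow_eq_self_of_coprime hcop'
  rw [← hm]; exact pow_mem h2 m

/-- The context: `H` acts (by conjugation) on the normal subgroup `N`, coprimely, nontrivially, and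
all nonidentity elements of `H` have the same fixed points on `N`. -/
structure Ctx (H N : Subgroup G) : Prop where
  nN : N.Normal
  cop : (Nat.card H).Coprime (Nat.card N)
  fix : ∀ h ∈ H, h ≠ 1 → ∀ n ∈ N, n * h = h * n → n ∈ centralizer (H : Set G)
  ne : ¬ N ≤ centralizer (H : Set G)

theorem Ctx.mono {H N S : Subgroup G} (h : Ctx H N) (hSH : S ≤ H) (hS : S ≠ ⊥) : Ctx S N := by
  refine ⟨h.nN, Nat.Coprime.coprime_dvd_left (card_dvd_of_le hSH) h.cop, ?_, ?_⟩
  · intro s hs hs1 n hn hc
    exact centralizer_le (by exact_mod_cast hSH) (h.fix s (hSH hs) hs1 n hn hc)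
  · intro hle
    obtain ⟨s, hs1⟩ := (ne_bot_iff_exists_ne_one).mp hS
    apply h.ne
    intro n hn
    have h1 : (s : G) * n = n * s := mem_centralizer_iff.mp (hle hn) s s.2
    exact h.fix s (hSH s.2) (fun h0 => hs1 (Subtype.ext h0)) n hn h1.symm

theorem Ctx.ne_bot {H N : Subgroup G} (h : Ctx H N) : H ≠ ⊥ := by
  intro h0
  apply h.ne
  intro n _
  rw [h0, mem_centralizer_iff]
  intro x hx
  have : x = 1 := by simpa using hx
  rw [this]; simp

/-- In the context, if `H` has a nontrivial solvable normal subgroup then `H` is a Frobenius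
complement. -/
theorem Ctx.frob_of_normal_solvable [Finite G] {H N : Subgroup G} (h : Ctx H N) (A : Subgroup G)
    (hAH : A ≤ H) (hA1 : A ≠ ⊥) (hHA : H ≤ normalizer (A : Set G)) (hAs : Group.IsSolvable A) :
    Frob H := by
  haveI := h.nN
  have hrel : (N ⊓ centralizer (H : Set G)).relIndex N ≠ 1 := by
    intro h1
    rw [relIndex_eq_one] at h1
    exact h.ne (le_trans h1 inf_le_right)
  obtain ⟨q, hq, hqd⟩ := Nat.exists_prime_and_dvd hrel
  haveI := Fact.mk hq
  obtain ⟨a, ha1⟩ := (ne_bot_iff_exists_ne_one).mp hA1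
  have hcent : N ⊓ centralizer (A : Set G) ≤ centralizer (H : Set G) := by
    intro n hn
    obtain ⟨hnN, hnA⟩ := mem_inf.mp hn
    have h1 : (a : G) * n = n * a := mem_centralizer_iff.mp hnA a a.2
    exact h.fix a (hAH a.2) (fun h0 => ha1 (Subtype.ext h0)) n hnN h1.symm
  obtain ⟨P, hP⟩ := exists_invariant_sylow_of_normal_solvable (q := q) H A N hAH hHA h.cop hAs hcent
  obtain ⟨hUN, hUq, hUi⟩ := sylow_map_facts N P
  set Q : Subgroup G := (P : Subgroup N).map N.subtype with hQ
  refine frob_of_section (q := q) H Q h.ne_bot hUq hP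
    (Nat.Coprime.coprime_dvd_right (card_dvd_of_le hUN) h.cop) ?_ ?_
  · intro hle
    apply hUi
    have h1 : Q ≤ N ⊓ centralizer (H : Set G) := le_inf hUN hle
    exact dvd_trans hqd (relIndex_dvd_of_le_left N h1)
  · intro s hs hs1 x hx hc
    exact h.fix s hs hs1 x (hUN hx) hc


theorem mem_normalizer_zpowers {y u : G} (h : zpowers (y * u * y⁻¹) = zpowers u) :
    y ∈ normalizer ((zpowers u : Subgroup G) : Set G) := by
  rw [← cj_eq_self_iff, cj_def, MonoidHom.map_zpowers]
  simpa using h

/-- In the context, `H` has a nontrivial solvable normal subgroup: a central involution if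
`|H|` is even, and `H` itself (a Z-group) if `|H|` is odd. -/
theorem Ctx.exists_normal_solvable [Finite G] {H N : Subgroup G} (h : Ctx H N) :
    ∃ A : Subgroup G, A ≤ H ∧ A ≠ ⊥ ∧ H ≤ normalizer (A : Set G) ∧ Group.IsSolvable A := by
  by_cases h2 : 2 ∣ Nat.card H
  · haveI : Fact (Nat.Prime 2) := ⟨Nat.prime_two⟩
    obtain ⟨t, ht⟩ := exists_prime_orderOf_dvd_card' (G := H) 2 h2
    have ht1 : (t : G) ≠ 1 := by
      intro h0
      have : t = 1 := Subtype.ext h0
      rw [this, orderOf_one] at ht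
      omega
    have ht2 : (t : G) * t = 1 := by
      have h3 : t ^ 2 = 1 := by rw [← ht]; exact pow_orderOf_eq_one t
      have h4 := congrArg Subtype.val h3
      simpa [pow_two] using h4
    have ht_inv : (t : G)⁻¹ = t := inv_eq_of_mul_eq_one_left ht2
    have huniq : ∀ s ∈ H, s ≠ 1 → s * s = 1 → s = (t : G) := by
      intro s hs hs1 hs2
      by_contra hne
      have hs_inv : s⁻¹ = s := inv_eq_of_mul_eq_one_left hs2
      set u := s * (t : G) with hu
      have hu1 : u ≠ 1 := by
        intro h0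
        apply hne
        have h3 : s = (t : G)⁻¹ := eq_inv_of_mul_eq_one_left h0
        rw [h3]; exact ht_inv
      set S : Subgroup G := closure {s, (t : G)} with hS
      set A : Subgroup G := zpowers u with hA
      have hsS : s ∈ S := subset_closure (Set.mem_insert _ _)
      have htS : (t : G) ∈ S := subset_closure (Set.mem_insert_of_mem _ rfl)
      have hSH : S ≤ H := by
        rw [hS, closure_le]
        intro y hy
        rcases Set.mem_insert_iff.mp hy with h0 | h0
        · rw [h0]; exact hs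
        · rw [Set.mem_singleton_iff.mp h0]; exact t.2
      have hS1 : S ≠ ⊥ := by
        intro h0; rw [h0] at hsS; exact hs1 (mem_bot.mp hsS)
      have hAS : A ≤ S := zpowers_le.mpr (S.mul_mem hsS htS)
      have hA1 : A ≠ ⊥ := by
        intro h0
        have h3 : u ∈ A := mem_zpowers u
        rw [h0] at h3; exact hu1 (mem_bot.mp h3)
      have hSA : S ≤ normalizer (A : Set G) := by
        rw [hS, closure_le]
        intro y hy
        rcases Set.mem_insert_iff.mp hy with h0 | h0
        · rw [h0]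
          apply mem_normalizer_zpowers
          have h3 : s * u * s⁻¹ = u⁻¹ := by
            rw [hu, mul_inv_rev, ht_inv, hs_inv]
            calc s * (s * t) * s = (s * s) * t * s := by group
              _ = t * s := by rw [hs2, one_mul]
          rw [h3, zpowers_inv]
        · rw [Set.mem_singleton_iff.mp h0]
          apply mem_normalizer_zpowers
          have h3 : (t : G) * u * (t : G)⁻¹ = u⁻¹ := by
            rw [hu, mul_inv_rev, ht_inv, hs_inv]
            calc (t : G) * (s * t) * t = t * s * (t * t) := by group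
              _ = t * s := by rw [ht2, mul_one]
          rw [h3, zpowers_inv]
      have hctx : Ctx S N := h.mono hSH hS1
      obtain ⟨F, instG, instF, C, hC, ⟨e⟩⟩ :=
        hctx.frob_of_normal_solvable A hAS hA1 hSA inferInstance
      obtain ⟨N', hN', -, -⟩ := Cfsg.Agent.Lib.Helper96.frobenius_kernel_subgroup C hC
      have key := Cfsg.Agent.Lib.Helper78.TwoFrob.involution_unique hC hN'
        (s := ((e ⟨s, hsS⟩ : C) : F)) (t := ((e ⟨(t : G), htS⟩ : C) : F)) (e _).2 (e _).2 ?_ ?_ ?_ ?_
      · have h3 : e ⟨s, hsS⟩ = e ⟨(t : G), htS⟩ := Subtype.ext key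
        have h4 := e.injective h3
        exact hne (congrArg Subtype.val h4)
      · intro h0
        have h3 : e ⟨s, hsS⟩ = 1 := Subtype.ext h0
        have h4 : (⟨s, hsS⟩ : S) = 1 := e.injective (by rw [h3, map_one])
        exact hs1 (congrArg Subtype.val h4)
      · intro h0
        have h3 : e ⟨(t : G), htS⟩ = 1 := Subtype.ext h0
        have h4 : (⟨(t : G), htS⟩ : S) = 1 := e.injective (by rw [h3, map_one])
        exact ht1 (congrArg Subtype.val h4)
      · have h3 : (⟨s, hsS⟩ : S) * ⟨s, hsS⟩ = 1 := Subtype.ext hs2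
        have h4 : e ⟨s, hsS⟩ * e ⟨s, hsS⟩ = 1 := by rw [← map_mul, h3, map_one]
        exact congrArg Subtype.val h4
      · have h3 : (⟨(t : G), htS⟩ : S) * ⟨(t : G), htS⟩ = 1 := Subtype.ext ht2
        have h4 : e ⟨(t : G), htS⟩ * e ⟨(t : G), htS⟩ = 1 := by rw [← map_mul, h3, map_one]
        exact congrArg Subtype.val h4
    have hcent : ∀ x ∈ H, x * (t : G) * x⁻¹ = t := by
      intro x hx
      apply huniq
      · exact H.mul_mem (H.mul_mem hx t.2) (H.inv_mem hx)
      · intro h0
        apply ht1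
        have h3 : (t : G) = x⁻¹ * (x * t * x⁻¹) * x := by group
        rw [h3, h0]; group
      · calc x * t * x⁻¹ * (x * t * x⁻¹) = x * ((t : G) * t) * x⁻¹ := by group
          _ = 1 := by rw [ht2]; group
    refine ⟨zpowers (t : G), zpowers_le.mpr t.2, ?_, ?_, inferInstance⟩
    · intro h0
      apply ht1
      have h3 : (t : G) ∈ zpowers (t : G) := mem_zpowers _
      rw [h0] at h3; exact mem_bot.mp h3
    · intro x hx
      apply mem_normalizer_zpowers
      rw [hcent x hx]
  · have hZ : IsZGroup H := by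
      refine ⟨fun p hp P => ?_⟩
      haveI := Fact.mk hp
      by_cases hPbot : (P : Subgroup H) = ⊥
      · haveI : Subsingleton (P : Subgroup H) := by rw [hPbot]; infer_instance
        exact isCyclic_of_subsingleton
      · set S : Subgroup G := (P : Subgroup H).map H.subtype with hS
        have hSH : S ≤ H := map_subtype_le _
        have hS1 : S ≠ ⊥ := by
          intro h0; apply hPbot
          exact (map_eq_bot_iff_of_injective _ H.subtype_injective).mp h0
        have eSP : (P : Subgroup H) ≃* S :=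
          (P : Subgroup H).equivMapOfInjective H.subtype H.subtype_injective
        have hSp : IsPGroup p S := P.isPGroup'.map H.subtype
        have hSsolv : Group.IsSolvable S := by
          haveI : Group.IsNilpotent S := hSp.isNilpotent
          infer_instance
        obtain ⟨F, instG, instF, C, hC, ⟨e⟩⟩ :=
          (h.mono hSH hS1).frob_of_normal_solvable S le_rfl hS1 le_normalizer hSsolv
        obtain ⟨N', hN', -, -⟩ := Cfsg.Agent.Lib.Helper96.frobenius_kernel_subgroup C hC
        have hCp : IsPGroup p C := hSp.of_equiv e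
        obtain ⟨P'⟩ : Nonempty (Sylow p C) := inferInstance
        have hP'top : (P' : Subgroup C) = ⊤ := by
          have hTop : IsPGroup p (⊤ : Subgroup C) := hCp.of_equiv topEquiv.symm
          exact (P'.is_maximal' hTop le_top).symm
        have eP : (P' : Subgroup C) ≃* (P : Subgroup H) :=
          ((MulEquiv.subgroupCongr hP'top).trans topEquiv).trans (e.symm.trans eSP.symm)
        rcases Cfsg.Agent.Lib.Helper78.TwoFrob.sylow_cyclic_or_quaternion hC hN' p P' with
          hcyc | ⟨n, ⟨eq⟩⟩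
        · exact isCyclic_of_surjective eP eP.surjective
        · exfalso
          have hcard : Nat.card (P : Subgroup H) = 4 * 2 ^ n := by
            rw [← Nat.card_congr eP.toEquiv, Nat.card_congr eq.toEquiv, Nat.card_eq_fintype_card,
              QuaternionGroup.card]
          apply h2
          have h3 : Nat.card (P : Subgroup H) ∣ Nat.card H := Subgroup.card_subgroup_dvd_card _
          exact dvd_trans ⟨2 * 2 ^ n, by rw [hcard]; ring⟩ h3
    haveI := hZ
    exact ⟨H, le_rfl, h.ne_bot, le_normalizer, inferInstance⟩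

/-- **Main theorem**: in the context, `H` is isomorphic to a Frobenius complement. -/
theorem Ctx.frob [Finite G] {H N : Subgroup G} (h : Ctx H N) : Frob H := by
  obtain ⟨A, hAH, hA1, hHA, hAs⟩ := h.exists_normal_solvable
  exact h.frob_of_normal_solvable A hAH hA1 hHA hAs

end Cfsg.Agent.Lib.Helper86.UniformFix
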