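import Cfsg.Prelude.Def_FusionComponents

set_option autoImplicit false

/-!
# Weakly embedded subgroups: the two hypotheses

`WE1 F N`: every subgroup of `S` of order `N` is weakly embedded in `F`.
`WE2 F p N`: every automorphism of the system on a subgroup `U` that stabilizes a normal subgroup
of `U` of order `N` has `p`-power order.
-/

namespace Cfsg.Agent.Lib.Helper86.WE

open Cfsg Cfsg.FusionSystem

variable {Ω : Type*} [Group Ω] {S : Subgroup Ω}

/-- every subgroup of `S` of order `N` is weakly embedded in `F` -/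
def WE1 (F : FusionSystem S) (N : ℕ) : Prop :=
  ∀ Q : Subgroup Ω, Q ≤ S → Nat.card Q = N →
    ∃ P : Subgroup Ω, F.StronglyClosed P ∧ F.StronglyClosed (Q ⊔ P) ∧ F.StronglyClosed (Q ⊓ P)

/-- every automorphism of the system on a subgroup `U` stabilizing a normal subgroup `H` of `U`
of order `N` has `p`-power order -/
def WE2 (F : FusionSystem S) (p N : ℕ) : Prop :=
  ∀ (U H : Subgroup Ω), U ≤ S → H ≤ U → (∀ u ∈ U, ∀ h ∈ H, u * h * u⁻¹ ∈ H) → Nat.card H = N →
    ∀ β : MulAut U, U.subtype.comp β.toMonoidHom ∈ F.Hom U →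
      (∀ x : U, (x : Ω) ∈ H → ((β x : U) : Ω) ∈ H) → ∃ m : ℕ, β ^ (p ^ m) = 1

end Cfsg.Agent.Lib.Helper86.WE
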