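import Cfsg.Agent.Lib.Helper86.WEDefs
import Cfsg.Agent.Lib.Helper87.ModExt
import Cfsg.Agent.Lib.Helper87.ConstrainedNormal

set_option autoImplicit false
set_option linter.style.haveILetI false
set_option linter.unusedSectionVars false

/-!
# S5271-T1: the join of two strongly closed subgroups is strongly closed (saturated system)
-/

namespace Cfsg.Agent.Lib.Helper86.WE

open Cfsg Cfsg.FusionSystem

universe u

variable {Ω : Type u} [Group Ω] {S : Subgroup Ω}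

/-- T1 -/
theorem stronglyClosed_sup [Finite S] {p : ℕ} [Fact p.Prime] (hS : IsPGroup p S)
    (F : FusionSystem S) (hF : F.IsSaturated p) {T₁ T₂ : Subgroup Ω}
    (h₁ : F.StronglyClosed T₁) (h₂ : F.StronglyClosed T₂) : F.StronglyClosed (T₁ ⊔ T₂) := by
  refine ⟨sup_le h₁.1 h₂.1, ?_⟩
  intro R hR φ hφ x
  -- Puig: extend `φ` modulo `T₂`
  obtain ⟨ψ, hψ, hψe⟩ := Cfsg.Agent.Lib.Helper87.exists_extension_mod hS F hF h₂ R φ hφ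
  -- decompose `x = t₁ * t₂`
  have hnorm : T₁ ≤ Subgroup.normalizer (T₂ : Set Ω) :=
    h₁.1.trans (Cfsg.Agent.Lib.Helper87.stronglyClosed_le_normalizer F h₂)
  obtain ⟨t₁, ht₁, t₂, ht₂, hx⟩ :=
    Cfsg.Agent.Lib.Helper87.exists_mul_of_mem_sup hnorm (hR x.2)
  have hxR : (x : Ω) ∈ R ⊔ T₂ := (le_sup_left : R ≤ R ⊔ T₂) x.2
  have ht₂' : t₂ ∈ R ⊔ T₂ := (le_sup_right : T₂ ≤ R ⊔ T₂) ht₂
  have ht₁' : t₁ ∈ R ⊔ T₂ := by
    have : t₁ = (x : Ω) * t₂⁻¹ := by rw [hx, mul_inv_cancel_right]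
    rw [this]
    exact Subgroup.mul_mem _ hxR (Subgroup.inv_mem _ ht₂')
  have e1 : ψ ⟨t₁, ht₁'⟩ ∈ T₁ :=
    Cfsg.Agent.Lib.Helper87.stronglyClosed_map_mem F h₁ hψ ⟨t₁, ht₁'⟩ ht₁
  have e2 : ψ ⟨t₂, ht₂'⟩ ∈ T₂ :=
    Cfsg.Agent.Lib.Helper87.stronglyClosed_map_mem F h₂ hψ ⟨t₂, ht₂'⟩ ht₂
  have e3 : ψ (Subgroup.inclusion le_sup_left x) = ψ ⟨t₁, ht₁'⟩ * ψ ⟨t₂, ht₂'⟩ := by
    rw [← map_mul]
    congr 1
    apply Subtype.ext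
    exact hx
  have e4 : (φ x)⁻¹ * ψ (Subgroup.inclusion le_sup_left x) ∈ T₂ := hψe x
  have e5 : φ x = ψ (Subgroup.inclusion le_sup_left x) *
      ((φ x)⁻¹ * ψ (Subgroup.inclusion le_sup_left x))⁻¹ := by
    group
  rw [e5]
  refine Subgroup.mul_mem _ ?_ ((le_sup_right : T₂ ≤ T₁ ⊔ T₂) (Subgroup.inv_mem _ e4))
  rw [e3]
  exact Subgroup.mul_mem _ ((le_sup_left : T₁ ≤ T₁ ⊔ T₂) e1)
    ((le_sup_right : T₂ ≤ T₁ ⊔ T₂) e2)

end Cfsg.Agent.Lib.Helper86.WE
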