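import Cfsg.Agent.Lib.Helper86.WEDefs

set_option autoImplicit false

/-!
# S5271, piece T2: a subgroup of prescribed order between two subgroups of a `p`-group
-/

namespace Cfsg.Agent.Lib.Helper86.WE

open Cfsg Cfsg.FusionSystem

universe u

/-- generic form: `B` a finite `p`-subgroup of any group, `A ≤ B`, `|A| ≤ p ^ k ≤ |B|`. -/
theorem t2_between_aux {G : Type*} [Group G] {p : ℕ} [Fact p.Prime] {A B : Subgroup G}
    [Finite B] (hBp : IsPGroup p B) (hAB : A ≤ B) {k : ℕ} (hA : Nat.card A ≤ p ^ k)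
    (hB : p ^ k ≤ Nat.card B) : ∃ Q : Subgroup G, A ≤ Q ∧ Q ≤ B ∧ Nat.card Q = p ^ k := by
  have hpp : p.Prime := Fact.out
  obtain ⟨b, hb⟩ := IsPGroup.iff_card.mp hBp
  have hAp : IsPGroup p (A.subgroupOf B) := hBp.to_subgroup _
  obtain ⟨a, ha⟩ := IsPGroup.iff_card.mp hAp
  have hcardA : Nat.card (A.subgroupOf B) = Nat.card A :=
    Nat.card_congr (Subgroup.subgroupOfEquivOfLe hAB).toEquiv
  have hak : a ≤ k := by
    rw [hcardA] at ha
    rw [ha] at hA
    exact (Nat.pow_le_pow_iff_right hpp.one_lt).mp hA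
  have hkb : k ≤ b := by
    rw [hb] at hB
    exact (Nat.pow_le_pow_iff_right hpp.one_lt).mp hB
  have hdvd : p ^ k ∣ Nat.card B := by
    rw [hb]
    exact pow_dvd_pow p hkb
  obtain ⟨K, hK, hAK⟩ := Sylow.exists_subgroup_card_pow_prime_le p hdvd (A.subgroupOf B) ha hak
  refine ⟨K.map B.subtype, ?_, ?_, ?_⟩
  · intro x hx
    exact ⟨⟨x, hAB hx⟩, hAK (Subgroup.mem_subgroupOf.mpr hx), rfl⟩
  · rintro _ ⟨y, _, rfl⟩
    exact y.2
  · rw [Subgroup.card_map_of_injective B.subtype_injective, hK]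

variable {Ω : Type u} [Group Ω] {S : Subgroup Ω}

/-- T2 -/
theorem exists_between [Finite S] {p : ℕ} [Fact p.Prime] (hS : IsPGroup p S)
    {A B : Subgroup Ω} (hAB : A ≤ B) (hBS : B ≤ S) {k : ℕ} (hA : Nat.card A ≤ p ^ k)
    (hB : p ^ k ≤ Nat.card B) : ∃ Q : Subgroup Ω, A ≤ Q ∧ Q ≤ B ∧ Nat.card Q = p ^ k := by
  haveI : Finite B := Finite.of_injective _ (Subgroup.inclusion_injective hBS)
  exact t2_between_aux (hS.to_le hBS) hAB hA hB

end Cfsg.Agent.Lib.Helper86.WE
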