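import Cfsg.Agent.Lib.Helper86.WEDefs
import Cfsg.Agent.Lib.Helper87.ConstrainedNormal
import Cfsg.Agent.Lib.Helper87.Chain

set_option autoImplicit false

/-!
# S5271, piece T3: a subgroup between two strongly closed subgroups forming a cover,
which is weakly embedded, is strongly closed
-/

namespace Cfsg.Agent.Lib.Helper86.WE

open Cfsg Cfsg.FusionSystem

universe u

variable {Ω : Type u} [Group Ω] {S : Subgroup Ω}

/-- a strongly closed subgroup is normalized by `S` (no finiteness needed) -/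
theorem t3_le_normalizer (F : FusionSystem S) {P : Subgroup Ω} (hP : F.StronglyClosed P) :
    S ≤ Subgroup.normalizer (P : Set Ω) := by
  have key : ∀ s ∈ S, ∀ x ∈ P, s * x * s⁻¹ ∈ P := by
    intro s hs x hx
    have := hP.2 P le_rfl (conjHom P s) (F.conj_mem hP.1 hs) ⟨x, hx⟩
    simpa [conjHom] using this
  intro s hs
  rw [Subgroup.mem_normalizer_iff]
  intro x
  constructor
  · exact key s hs x
  · intro h
    have := key s⁻¹ (S.inv_mem hs) _ h
    simpa [mul_assoc] using this

/-- T3 (new statement) -/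
theorem stronglyClosed_of_cover (F : FusionSystem S)
    (hsup : ∀ T₁ T₂ : Subgroup Ω, F.StronglyClosed T₁ → F.StronglyClosed T₂ →
      F.StronglyClosed (T₁ ⊔ T₂))
    {T' U' Q : Subgroup Ω} (hT' : F.StronglyClosed T') (hU' : F.StronglyClosed U')
    (hT'Q : T' ≤ Q) (hQU' : Q ≤ U')
    (hWE : ∃ P : Subgroup Ω, F.StronglyClosed P ∧ F.StronglyClosed (Q ⊔ P) ∧
      F.StronglyClosed (Q ⊓ P))
    (hcov : ∀ X : Subgroup Ω, F.StronglyClosed X → T' ≤ X → X ≤ U' → X = T' ∨ X = U') :
    F.StronglyClosed Q := by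
  obtain ⟨P, hP, hQP, hQiP⟩ := hWE
  have hPU : F.StronglyClosed (P ⊓ U') := Cfsg.Agent.Lib.Helper87.stronglyClosed_inf F hP hU'
  have hX : F.StronglyClosed ((P ⊓ U') ⊔ T') := hsup _ _ hPU hT'
  have hQS : Q ≤ S := hQU'.trans hU'.1
  rcases hcov _ hX le_sup_right (sup_le inf_le_right (hT'Q.trans hQU')) with h | h
  · have hPT : P ⊓ U' ≤ T' := le_sup_left.trans_eq h
    have hQeq : Q = (Q ⊔ P) ⊓ U' := by
      apply le_antisymm
      · exact le_inf le_sup_left hQU'
      · intro x hx
        obtain ⟨hx1, hx2⟩ := Subgroup.mem_inf.mp hx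
        obtain ⟨q, hq, y, hy, rfl⟩ := Cfsg.Agent.Lib.Helper87.exists_mul_of_mem_sup
          (hQS.trans (t3_le_normalizer F hP)) hx1
        have hyU : y ∈ U' := by
          have : y = q⁻¹ * (q * y) := by group
          rw [this]
          exact U'.mul_mem (U'.inv_mem (hQU' hq)) hx2
        exact Q.mul_mem hq (hT'Q (hPT (Subgroup.mem_inf.mpr ⟨hy, hyU⟩)))
    rw [hQeq]
    exact Cfsg.Agent.Lib.Helper87.stronglyClosed_inf F hQP hU'
  · have hQeq : Q = (Q ⊓ P) ⊔ T' := by
      apply le_antisymm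
      · intro x hx
        have hxU : x ∈ (P ⊓ U') ⊔ T' := by
          rw [h]
          exact hQU' hx
        obtain ⟨y, hy, t, ht, rfl⟩ := Cfsg.Agent.Lib.Helper87.exists_mul_of_mem_sup
          (hPU.1.trans (t3_le_normalizer F hT')) hxU
        have hyQ : y ∈ Q := by
          have : y = (y * t) * t⁻¹ := by group
          rw [this]
          exact Q.mul_mem hx (Q.inv_mem (hT'Q ht))
        exact Subgroup.mul_mem_sup (Subgroup.mem_inf.mpr ⟨hyQ, (Subgroup.mem_inf.mp hy).1⟩) ht
      · exact sup_le inf_le_left hT'Q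
    rw [hQeq]
    exact hsup _ _ hQiP hT'

end Cfsg.Agent.Lib.Helper86.WE
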