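import Cfsg.Agent.Lib.Helper86.WEDefs
import Cfsg.Agent.Lib.Helper85.Solvable
import Cfsg.Agent.Lib.Helper87.Essential
import Cfsg.Agent.Lib.Helper86.WE_T1
import Cfsg.Agent.Lib.Helper86.WE_T2
import Cfsg.Agent.Lib.Helper86.WE_T3

set_option autoImplicit false
set_option linter.style.haveILetI false
set_option linter.unusedSectionVars false

namespace Cfsg.Agent.Lib.Helper86.WE

open Cfsg Cfsg.FusionSystem

universe u

variable {Ω : Type u} [Group Ω] {S : Subgroup Ω}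

theorem no_cover [Finite S] {p : ℕ} [Fact p.Prime] (hS : IsPGroup p S)
    (F : FusionSystem S) (hF : F.IsSaturated p) {k : ℕ} (h1 : WE1 F (p ^ k))
    {T' U' : Subgroup Ω} (hT' : F.StronglyClosed T') (hU' : F.StronglyClosed U') (hle : T' ≤ U')
    (hc1 : Nat.card T' < p ^ k) (hc2 : p ^ k < Nat.card U')
    (hcov : ∀ X : Subgroup Ω, F.StronglyClosed X → T' ≤ X → X ≤ U' → X = T' ∨ X = U') :
    False := by
  obtain ⟨Q, hT'Q, hQU', hQc⟩ := exists_between hS hle hU'.1 hc1.le hc2.le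
  have hQsc := stronglyClosed_of_cover F
    (fun T₁ T₂ h₁ h₂ => stronglyClosed_sup hS F hF h₁ h₂) hT' hU' hT'Q hQU'
    (h1 Q (hQU'.trans hU'.1) hQc) hcov
  rcases hcov Q hQsc hT'Q hQU' with h | h
  · rw [h] at hQc; omega
  · rw [h] at hQc; omega

theorem exists_stronglyClosed_card [Finite S] {p : ℕ} [Fact p.Prime] (hS : IsPGroup p S)
    (F : FusionSystem S) (hF : F.IsSaturated p) {k : ℕ} (hk : p ^ k < Nat.card S)
    (h1 : WE1 F (p ^ k)) : ∃ T : Subgroup Ω, F.StronglyClosed T ∧ Nat.card T = p ^ k := by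
  have hpp : p.Prime := Fact.out
  by_contra hcon
  push Not at hcon
  -- a strongly closed subgroup of maximal order at most `p ^ k`
  let A : Set ℕ := {c | ∃ T : Subgroup Ω, F.StronglyClosed T ∧ Nat.card T = c ∧ c ≤ p ^ k}
  have hA1 : (1 : ℕ) ∈ A :=
    ⟨⊥, Cfsg.Agent.Lib.Helper85.stronglyClosed_bot F, Subgroup.card_bot, Nat.one_le_pow _ _ hpp.pos⟩
  have hAb : BddAbove A := ⟨p ^ k, by rintro c ⟨_, _, _, h⟩; exact h⟩
  obtain ⟨T', hT', hT'c, hT'le⟩ := Nat.sSup_mem ⟨1, hA1⟩ hAb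
  have hT'max : ∀ X : Subgroup Ω, F.StronglyClosed X → Nat.card X ≤ p ^ k →
      Nat.card X ≤ Nat.card T' := by
    intro X hX hXc
    rw [hT'c]
    exact le_csSup hAb ⟨X, hX, rfl, hXc⟩
  have hT'lt : Nat.card T' < p ^ k := by
    rw [hT'c]
    exact lt_of_le_of_ne hT'le (fun h => hcon T' hT' (hT'c.trans h))
  -- a strongly closed subgroup above it of minimal order larger than `p ^ k`
  let B : Set ℕ := {c | ∃ U : Subgroup Ω, F.StronglyClosed U ∧ T' ≤ U ∧ Nat.card U = c ∧ p ^ k < c}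
  have hBS : Nat.card S ∈ B :=
    ⟨S, Cfsg.Agent.Lib.Helper85.stronglyClosed_top F, hT'.1, rfl, hk⟩
  obtain ⟨U', hU', hT'U', hU'c, hU'gt⟩ := Nat.sInf_mem ⟨_, hBS⟩
  have hU'min : ∀ X : Subgroup Ω, F.StronglyClosed X → T' ≤ X → p ^ k < Nat.card X →
      Nat.card U' ≤ Nat.card X := by
    intro X hX hTX hXc
    rw [hU'c]
    exact Nat.sInf_le ⟨X, hX, hTX, rfl, hXc⟩
  refine no_cover hS F hF h1 hT' hU' hT'U' hT'lt (hU'c ▸ hU'gt) ?_
  intro X hX hTX hXU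
  haveI : Finite X := Cfsg.Agent.Lib.Helper87.finite_of_le hX.1
  haveI : Finite U' := Cfsg.Agent.Lib.Helper87.finite_of_le hU'.1
  rcases le_or_gt (Nat.card X) (p ^ k) with hle | hgt
  · left
    exact (Subgroup.eq_of_le_of_card_ge hTX (hT'max X hX hle)).symm
  · right
    exact Subgroup.eq_of_le_of_card_ge hXU (hU'min X hX hTX hgt)

theorem exists_stronglyClosed_le_card [Finite S] {p : ℕ} [Fact p.Prime] (hS : IsPGroup p S)
    (F : FusionSystem S) (hF : F.IsSaturated p) {k : ℕ} (hk1 : 1 ≤ k) (h1 : WE1 F (p ^ k))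
    {T' : Subgroup Ω} (hT' : F.StronglyClosed T') (hne : T' ≠ ⊥) :
    ∃ A : Subgroup Ω, F.StronglyClosed A ∧ A ≠ ⊥ ∧ A ≤ T' ∧ Nat.card A ≤ p ^ k := by
  have hpp : p.Prime := Fact.out
  let B : Set ℕ := {c | ∃ A : Subgroup Ω, F.StronglyClosed A ∧ A ≠ ⊥ ∧ A ≤ T' ∧ Nat.card A = c}
  have hB : Nat.card T' ∈ B := ⟨T', hT', hne, le_rfl, rfl⟩
  obtain ⟨A₀, hA₀, hA₀ne, hA₀T', hA₀c⟩ := Nat.sInf_mem ⟨_, hB⟩
  have hmin : ∀ X : Subgroup Ω, F.StronglyClosed X → X ≠ ⊥ → X ≤ T' →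
      Nat.card A₀ ≤ Nat.card X := by
    intro X hX hXne hXT
    rw [hA₀c]
    exact Nat.sInf_le ⟨X, hX, hXne, hXT, rfl⟩
  refine ⟨A₀, hA₀, hA₀ne, hA₀T', ?_⟩
  by_contra hgt
  push Not at hgt
  have h1lt : Nat.card (⊥ : Subgroup Ω) < p ^ k := by
    rw [Subgroup.card_bot]
    exact Nat.one_lt_pow (by omega) hpp.one_lt
  refine no_cover hS F hF h1 (Cfsg.Agent.Lib.Helper85.stronglyClosed_bot F) hA₀ bot_le h1lt hgt ?_
  intro X hX _ hXA
  haveI : Finite A₀ := Cfsg.Agent.Lib.Helper87.finite_of_le hA₀.1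
  by_cases hXb : X = ⊥
  · exact Or.inl hXb
  · right
    exact Subgroup.eq_of_le_of_card_ge hXA (hmin X hX hXb (hXA.trans hA₀T'))

end Cfsg.Agent.Lib.Helper86.WE
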