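import Cfsg.Agent.Lib.Helper86.WEDefs
import Cfsg.Agent.Lib.Helper87.ModExt
import Cfsg.Agent.Lib.Helper85.Hyperfocal
import Cfsg.Agent.Lib.Helper85.Solvable
import Cfsg.Agent.Lib.Helper87.HypQuot
import Cfsg.Agent.Lib.Helper87.TateT6
import Cfsg.Agent.Lib.Helper87.Inner
import Cfsg.Agent.Lib.Helper63.PGroup

set_option autoImplicit false
set_option linter.style.haveILetI false
set_option linter.unusedSectionVars false

/-!
# S5271, step 7: the hyperfocal subgroup does not have order `p`  (helper86's own copy)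
-/

namespace Cfsg.Agent.Lib.Helper86.WE

open Cfsg Cfsg.FusionSystem
open Cfsg.Agent.Lib.Helper87 (hom_le hom_mem_S restrict_mem mem_autGroup_iff finite_of_le
  stronglyClosed_map_mem hyperfocal_le_of_coprime)

universe u

variable {Ω : Type u} [Group Ω] {S : Subgroup Ω}

/-- an automorphism of `W` of order prime to `p` acting trivially on a subgroup `M` of order `p`
that contains all its commutators is trivial -/
theorem t10h_trivial_of_fix {p : ℕ} [Fact p.Prime] {W M : Subgroup Ω} (hMc : Nat.card M = p)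
    (α : MulAut W) (hco : (orderOf α).Coprime p)
    (hcomm : ∀ y : W, (y : Ω)⁻¹ * ((α y : W) : Ω) ∈ M)
    (hfix : ∀ m : W, (m : Ω) ∈ M → α m = m) : α = 1 := by
  have hpp : p.Prime := Fact.out
  have hpow : ∀ (y : W) (j : ℕ), (α ^ j) y = y * (y⁻¹ * α y) ^ j := by
    intro y j
    induction j with
    | zero => simp
    | succ j ih =>
      have e : y * (y⁻¹ * α y) = α y := mul_inv_cancel_left y (α y)
      rw [pow_succ', MulAut.mul_apply, ih, map_mul, map_pow, hfix (y⁻¹ * α y) (hcomm y),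
        pow_succ' (y⁻¹ * α y) j, ← mul_assoc y, e]
  have hp1 : α ^ p = 1 := by
    ext y
    rw [hpow y p]
    have hc : ((y⁻¹ * α y : W) : Ω) ∈ M := hcomm y
    have h1 : ((y⁻¹ * α y : W) : Ω) ^ p = 1 := by
      have h2 : (⟨_, hc⟩ : M) ^ Nat.card M = 1 := pow_card_eq_one'
      rw [hMc] at h2
      exact congrArg Subtype.val h2
    have h3 : (y⁻¹ * α y : W) ^ p = 1 := Subtype.ext (by simpa using h1)
    rw [h3, mul_one]
    rfl
  have hdvd : orderOf α ∣ p := orderOf_dvd_of_pow_eq_one hp1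
  have h1 : orderOf α = 1 := Nat.eq_one_of_dvd_coprimes hco dvd_rfl hdvd
  exact orderOf_eq_one_iff.mp h1

/-- if a power `γ ^ k` of an automorphism fixes `m` and `k` is prime to the order of `γ`,
then `γ` fixes `m` -/
theorem t10h_fix_of_pow_fix {W : Type*} [Group W] [Finite W] (γ : MulAut W) (m : W) (k : ℕ)
    (hk : (orderOf γ).Coprime k) (hfix : (γ ^ k) m = m) : γ m = m := by
  by_cases h1 : orderOf γ = 1
  · rw [orderOf_eq_one_iff.mp h1]; rfl
  · have hpos : 0 < orderOf γ := orderOf_pos γ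
    have hgt : 1 < orderOf γ := by omega
    obtain ⟨e, -, he⟩ := Nat.exists_mul_mod_eq_one_of_coprime hk.symm hgt
    have hpowfix : ∀ e : ℕ, ((γ ^ k) ^ e) m = m := by
      intro e
      induction e with
      | zero => simp
      | succ e ih => rw [pow_succ, MulAut.mul_apply, hfix, ih]
    have e1 : γ ^ (k * e) = γ := by
      rw [← pow_mod_orderOf, he, pow_one]
    have := hpowfix e
    rw [← pow_mul, e1] at this
    exact this

/-- T10 -/
theorem card_hyperfocal_ne_prime [Finite S] {p : ℕ} [Fact p.Prime] (hS : IsPGroup p S)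
    (F : FusionSystem S) (hF : F.IsSaturated p) {N : ℕ} (h2 : WE2 F p N)
    {T : Subgroup Ω} (hT : F.StronglyClosed T) (hTc : Nat.card T = N) :
    Nat.card (F.hyperfocalSubgroup p) ≠ p := by
  intro hMc
  have hpp : p.Prime := Fact.out
  set M := F.hyperfocalSubgroup p with hMdef
  have hMsc : F.StronglyClosed M := Cfsg.Agent.Lib.Helper85.hyperfocal_stronglyClosed hS F hF
  have hMS : M ≤ S := hMsc.1
  haveI : Finite M := finite_of_le hMS
  have hMne : M ≠ ⊥ := by
    intro h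
    rw [h, Subgroup.card_bot] at hMc
    exact hpp.one_lt.ne hMc
  -- a nontrivial automorphism of order prime to `p`
  obtain ⟨W, hWS, α, hα, hco, x, hx⟩ : ∃ W : Subgroup Ω, W ≤ S ∧ ∃ α : MulAut W,
      α ∈ F.autGroup W ∧ (orderOf α).Coprime p ∧ ∃ x : W, (x : Ω)⁻¹ * ((α x : W) : Ω) ≠ 1 := by
    by_contra hcon
    push Not at hcon
    apply hMne
    rw [eq_bot_iff]
    refine hyperfocal_le_of_coprime F p ⊥ ?_
    intro P hP α hα hco x
    rw [Subgroup.mem_bot]
    exact hcon P hP α hα hco x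
  haveI : Finite W := finite_of_le hWS
  have hcomm : ∀ y : W, (y : Ω)⁻¹ * ((α y : W) : Ω) ∈ M := fun y =>
    Cfsg.Agent.Lib.Helper34.Tate.comm_mem_hyperfocal F p hWS hα hco y
  -- `α` moves some element of `M`
  obtain ⟨m, hmM, hαm⟩ : ∃ m : W, (m : Ω) ∈ M ∧ α m ≠ m := by
    by_contra hcon
    push Not at hcon
    have h1 := t10h_trivial_of_fix hMc α hco hcomm hcon
    apply hx
    rw [h1]
    simp
  have hm1 : (m : Ω) ≠ 1 := by
    intro h
    apply hαm
    have : m = 1 := Subtype.ext h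
    rw [this, map_one]
  -- `M ≤ W`
  have hMW : M ≤ W := by
    haveI : Fact (Nat.card M).Prime := ⟨hMc.symm ▸ hpp⟩
    rcases Subgroup.eq_bot_or_eq_top_of_prime_card ((M ⊓ W).subgroupOf M) with h | h
    · exfalso
      have h3 : (⟨m, hmM⟩ : M) ∈ (M ⊓ W).subgroupOf M :=
        Subgroup.mem_subgroupOf.mpr ⟨hmM, m.2⟩
      rw [h, Subgroup.mem_bot] at h3
      exact hm1 (congrArg Subtype.val h3)
    · intro z hz
      have h3 : (⟨z, hz⟩ : M) ∈ (M ⊓ W).subgroupOf M := by rw [h]; trivial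
      exact (Subgroup.mem_subgroupOf.mp h3).2
  -- `M` is central in `S`
  haveI hMn : (M.subgroupOf S).Normal :=
    Cfsg.Agent.Lib.Helper85.stronglyClosed_subgroupOf_normal F hMsc
  have hMcS : Nat.card (M.subgroupOf S) = p := by
    rw [← hMc]
    exact Nat.card_congr (Subgroup.subgroupOfEquivOfLe hMS).toEquiv
  have hcen := Cfsg.Agent.Lib.Helper63.normal_card_prime_le_center hS (M.subgroupOf S) hMcS
  have hcent : ∀ g ∈ S, ∀ z ∈ M, g * z * g⁻¹ = z := by
    intro g hg z hz
    have h1 : (⟨z, hMS hz⟩ : S) ∈ Subgroup.center S := hcen (Subgroup.mem_subgroupOf.mpr hz)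
    have h3 := Subgroup.mem_center_iff.mp h1 ⟨g, hg⟩
    have h4 : g * z = z * g := congrArg Subtype.val h3
    rw [h4, mul_assoc, mul_inv_cancel, mul_one]
  -- the restriction of `α` to `M`
  have hαhom := (mem_autGroup_iff F hWS α).mp hα
  set φ : M →* Ω := (W.subtype.comp α.toMonoidHom).comp (Subgroup.inclusion hMW) with hφdef
  have hφ : φ ∈ F.Hom M := restrict_mem F hαhom hMW
  have hφM : ∀ z : M, φ z ∈ M := fun z => hMsc.2 M le_rfl φ hφ z
  have hφr : φ.range = M := by
    apply Subgroup.eq_of_le_of_card_ge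
    · rintro _ ⟨z, rfl⟩
      exact hφM z
    · rw [← Nat.card_congr (MonoidHom.ofInjective (F.injective_of_mem hφ)).toEquiv]
  -- `M` is receptive
  obtain ⟨Q, ⟨ψ0, hψ0, hψ0r⟩, -, hrecQ⟩ := hF M hMS
  have hQM : Q = M := by
    rw [← hψ0r]
    apply Subgroup.eq_of_le_of_card_ge
    · rintro _ ⟨z, rfl⟩
      exact hMsc.2 M le_rfl ψ0 hψ0 z
    · rw [← Nat.card_congr (MonoidHom.ofInjective (F.injective_of_mem hψ0)).toEquiv]
  rw [hQM] at hrecQ
  obtain ⟨ψ, hψ, hψe⟩ := hrecQ.2 M φ hφ hφr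
  -- the extender is all of `S`
  have hSle : S ≤ extender S M φ := by
    intro g hg
    refine Subgroup.subset_closure ⟨hg, ?_, 1, S.one_mem, fun z hz => ?_⟩
    · show g ∈ Subgroup.normalizer (M : Set Ω)
      rw [Subgroup.mem_normalizer_iff]
      intro z
      constructor
      · intro hz
        rw [hcent g hg z hz]
        exact hz
      · intro hz
        have h3 := hcent g⁻¹ (S.inv_mem hg) _ hz
        have e : g⁻¹ * (g * z * g⁻¹) * g⁻¹⁻¹ = z := by group
        rw [e] at h3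
        rw [h3]
        exact hz
    · have e : (⟨g * (z : Ω) * g⁻¹, hz⟩ : M) = z := Subtype.ext (hcent g hg z z.2)
      rw [e]
      simp
  have hψS := restrict_mem F hψ hSle
  set ψS : S →* Ω := ψ.comp (Subgroup.inclusion hSle) with hψSdef
  have hψSM : ∀ (z : Ω) (hz : z ∈ M), ψS ⟨z, hMS hz⟩ = φ ⟨z, hz⟩ := fun z hz =>
    hψe z hz (hSle (hMS hz))
  have hψSS : ∀ s : S, ψS s ∈ S := hom_mem_S F hψS
  have hinj : Function.Injective (ψS.codRestrict S hψSS) := by
    intro a b hab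
    exact F.injective_of_mem hψS (congrArg Subtype.val hab)
  have hbij : Function.Bijective (ψS.codRestrict S hψSS) :=
    ⟨hinj, Finite.injective_iff_surjective.mp hinj⟩
  let β : MulAut S := MulEquiv.ofBijective (ψS.codRestrict S hψSS) hbij
  have hβ : S.subtype.comp β.toMonoidHom = ψS := by
    ext s
    rfl
  have hβx : ∀ s : S, ((β s : S) : Ω) = ψS s := fun s => rfl
  obtain ⟨j, hj⟩ := h2 S T le_rfl hT.1
    (fun u hu h hh => hT.2 T le_rfl _ (F.conj_mem hT.1 hu) ⟨h, hh⟩) hTc β (hβ ▸ hψS)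
    (fun s hs => stronglyClosed_map_mem F hT hψS s hs)
  -- powers of `β` and of `α` agree on `M`
  have key : ∀ i : ℕ, ∀ (z : W) (hz : (z : Ω) ∈ M), (((α ^ i) z : W) : Ω) ∈ M ∧
      (((β ^ i) ⟨z, hMS hz⟩ : S) : Ω) = ((α ^ i) z : W) := by
    intro i
    induction i with
    | zero =>
      intro z hz
      exact ⟨by simpa using hz, by simp⟩
    | succ i ih =>
      intro z hz
      obtain ⟨h3, h4⟩ := ih z hz
      have e1 : (α ^ (i + 1)) z = α ((α ^ i) z) := by rw [pow_succ', MulAut.mul_apply]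
      have e2 : (β ^ (i + 1)) ⟨z, hMS hz⟩ = β ((β ^ i) ⟨z, hMS hz⟩) := by
        rw [pow_succ', MulAut.mul_apply]
      have e3 : (β ^ i) ⟨z, hMS hz⟩ = ⟨((α ^ i) z : W), hMS h3⟩ := Subtype.ext h4
      have e4 : φ ⟨((α ^ i) z : W), h3⟩ = ((α ((α ^ i) z) : W) : Ω) := rfl
      rw [e1, e2, e3, hβx, hψSM _ h3, e4]
      exact ⟨e4 ▸ hφM ⟨_, h3⟩, rfl⟩
  have hfix : (α ^ p ^ j) m = m := by
    have h3 := (key (p ^ j) m hmM).2
    rw [hj] at h3
    exact Subtype.ext h3.symm
  exact hαm (t10h_fix_of_pow_fix α m (p ^ j) (Nat.Coprime.pow_right j hco) hfix)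

end Cfsg.Agent.Lib.Helper86.WE
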