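import Cfsg.Agent.Lib.Helper86.WE_T2
import Cfsg.Agent.Lib.Helper1.PFrattini

set_option autoImplicit false

/-!
# S5271, piece T11: a subgroup of order at least `p ^ 2` which every subgroup of order `p ^ k`
either avoids or contains lies in the Frattini subgroup
-/

namespace Cfsg.Agent.Lib.Helper86.WE

open Cfsg Cfsg.FusionSystem

universe u

/-- the statement inside a finite `p`-group -/
theorem t11_aux {G : Type*} [Group G] [Finite G] {p : ℕ} [Fact p.Prime] (hG : IsPGroup p G)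
    {k : ℕ} (hk1 : 1 ≤ k) (hk : p ^ k < Nat.card G) (M : Subgroup G)
    (hMc : p ^ 2 ≤ Nat.card M)
    (h6 : ∀ Q : Subgroup G, Nat.card Q = p ^ k → Q ⊓ M = ⊥ ∨ M ≤ Q) :
    M ≤ frattini G := by
  have hpp : p.Prime := Fact.out
  unfold frattini Order.radical
  refine le_iInf₂ ?_
  intro Y hY
  have hY : IsCoatom Y := hY
  by_contra hMY
  haveI hYn : Y.Normal := Cfsg.Agent.Lib.Helper1.coatom_normal_of_isPGroup hG Y hY
  have hidx : Y.index = p := by
    rw [Subgroup.index_eq_card]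
    exact Cfsg.Agent.Lib.Helper1.card_quotient_coatom_of_isPGroup hG Y hY
  -- the intersection is nontrivial
  have hrel : Y.relIndex M ∣ p := by
    have := Subgroup.relIndex_dvd_index_of_normal Y M
    rwa [hidx] at this
  have hcard : Nat.card (M ⊓ Y : Subgroup G) * Y.relIndex M = Nat.card M := by
    have h1 := Subgroup.card_mul_index ((M ⊓ Y).subgroupOf M)
    have h2 : Nat.card ((M ⊓ Y).subgroupOf M) = Nat.card (M ⊓ Y : Subgroup G) :=
      Nat.card_congr (Subgroup.subgroupOfEquivOfLe inf_le_left).toEquiv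
    have h3 : ((M ⊓ Y).subgroupOf M).index = Y.relIndex M := by
      rw [← Subgroup.relIndex, Subgroup.inf_relIndex_left]
    rw [h2, h3] at h1
    exact h1
  have hne : (M ⊓ Y : Subgroup G) ≠ ⊥ := by
    intro hbot
    rw [hbot, Subgroup.card_bot, one_mul] at hcard
    have hle : Y.relIndex M ≤ p := Nat.le_of_dvd hpp.pos hrel
    have : p < p ^ 2 := by
      calc p = p ^ 1 := (pow_one p).symm
        _ < p ^ 2 := Nat.pow_lt_pow_right hpp.one_lt (by norm_num)
    omega
  -- an element of order `p` in the intersection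
  have hIp : IsPGroup p (M ⊓ Y : Subgroup G) := hG.to_subgroup _
  have hInt : Nontrivial (M ⊓ Y : Subgroup G) := (Subgroup.nontrivial_iff_ne_bot _).mpr hne
  obtain ⟨n, hn0, hn⟩ := hIp.nontrivial_iff_card.mp hInt
  have hdvd : p ∣ Nat.card (M ⊓ Y : Subgroup G) := by
    rw [hn]; exact dvd_pow_self p hn0.ne'
  obtain ⟨z, hz⟩ := exists_prime_orderOf_dvd_card' p hdvd
  set X : Subgroup G := Subgroup.zpowers (z : G) with hX
  have hzord : orderOf (z : G) = p := by rw [Subgroup.orderOf_coe, hz]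
  have hXc : Nat.card X = p := by rw [hX, Nat.card_zpowers, hzord]
  have hXM : X ≤ M := by
    rw [hX, Subgroup.zpowers_le]
    exact (Subgroup.mem_inf.mp z.2).1
  have hXY : X ≤ Y := by
    rw [hX, Subgroup.zpowers_le]
    exact (Subgroup.mem_inf.mp z.2).2
  have hXne : X ≠ ⊥ := by
    intro h
    rw [h, Subgroup.card_bot] at hXc
    exact hpp.one_lt.ne hXc
  -- a subgroup of order `p ^ k` between `X` and `Y`
  have hYc : Nat.card Y * p = Nat.card G := by
    rw [← hidx]; exact Subgroup.card_mul_index Y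
  obtain ⟨s, hs⟩ := IsPGroup.iff_card.mp hG
  have hks : k < s := by
    rw [hs] at hk
    exact (Nat.pow_lt_pow_iff_right hpp.one_lt).mp hk
  have hYc' : Nat.card Y = p ^ (s - 1) := by
    have h1 : p ^ s = p ^ (s - 1) * p := by
      rw [← pow_succ]; congr 1; omega
    rw [hs, h1] at hYc
    exact Nat.eq_of_mul_eq_mul_right hpp.pos hYc
  have hXk : Nat.card X ≤ p ^ k := by
    rw [hXc]
    calc p = p ^ 1 := (pow_one p).symm
      _ ≤ p ^ k := Nat.pow_le_pow_right hpp.pos hk1
  have hkY : p ^ k ≤ Nat.card Y := by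
    rw [hYc']
    exact Nat.pow_le_pow_right hpp.pos (by omega)
  obtain ⟨Q, hXQ, hQY, hQc⟩ := t2_between_aux (hG.to_subgroup Y) hXY hXk hkY
  rcases h6 Q hQc with h | h
  · apply hXne
    rw [eq_bot_iff, ← h]
    exact le_inf hXQ hXM
  · exact hMY (h.trans hQY)

variable {Ω : Type u} [Group Ω] {S : Subgroup Ω}

/-- T11 -/
theorem le_frattini_of_inf [Finite S] {p : ℕ} [Fact p.Prime] (hS : IsPGroup p S) {k : ℕ}
    (hk1 : 1 ≤ k) (hk : p ^ k < Nat.card S) {M : Subgroup Ω} (hMS : M ≤ S)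
    (hMc : p ^ 2 ≤ Nat.card M)
    (h6 : ∀ Q : Subgroup Ω, Q ≤ S → Nat.card Q = p ^ k → Q ⊓ M = ⊥ ∨ M ≤ Q) :
    M ≤ (frattini ↥S).map S.subtype := by
  have hMc' : p ^ 2 ≤ Nat.card (M.subgroupOf S) := by
    rw [Nat.card_congr (Subgroup.subgroupOfEquivOfLe hMS).toEquiv]
    exact hMc
  have h6' : ∀ Q : Subgroup S, Nat.card Q = p ^ k →
      Q ⊓ M.subgroupOf S = ⊥ ∨ M.subgroupOf S ≤ Q := by
    intro Q hQc
    have hQS : Q.map S.subtype ≤ S := by
      rintro _ ⟨y, _, rfl⟩
      exact y.2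
    have hc : Nat.card (Q.map S.subtype) = p ^ k := by
      rw [Subgroup.card_map_of_injective S.subtype_injective, hQc]
    rcases h6 _ hQS hc with h | h
    · left
      rw [eq_bot_iff]
      intro x hx
      rw [Subgroup.mem_bot]
      have hx1 : (x : Ω) ∈ Q.map S.subtype ⊓ M :=
        Subgroup.mem_inf.mpr ⟨⟨x, (Subgroup.mem_inf.mp hx).1, rfl⟩,
          Subgroup.mem_subgroupOf.mp (Subgroup.mem_inf.mp hx).2⟩
      rw [h, Subgroup.mem_bot] at hx1
      exact Subtype.ext hx1
    · right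
      intro x hx
      obtain ⟨y, hy, hyx⟩ := h (Subgroup.mem_subgroupOf.mp hx)
      have : y = x := Subtype.ext hyx
      rwa [this] at hy
  have hle := t11_aux hS hk1 hk (M.subgroupOf S) hMc' h6'
  intro x hx
  exact ⟨⟨x, hMS hx⟩, hle (Subgroup.mem_subgroupOf.mpr hx), rfl⟩

end Cfsg.Agent.Lib.Helper86.WE
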