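import Cfsg.Agent.Lib.Helper86.WEDefs
import Cfsg.Agent.Lib.Helper87.TateT13
import Cfsg.Agent.Lib.Helper24.Omega1
import Cfsg.Agent.S5092
import Cfsg.Agent.S5224

set_option autoImplicit false
set_option linter.style.haveILetI false
set_option linter.unusedSectionVars false

/-!
# S5271-T12: a hyperfocal subgroup inside the Frattini subgroup is trivial (Tate)
-/

namespace Cfsg.Agent.Lib.Helper86.WE

open Cfsg Cfsg.FusionSystem

universe u

variable {Ω : Type u} [Group Ω] {S : Subgroup Ω}

theorem t12_commutator_le_frattini [Finite S] {p : ℕ} [Fact p.Prime] (hS : IsPGroup p S) :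
    ⁅(S : Subgroup Ω), (S : Subgroup Ω)⁆ ≤ (frattini ↥S).map S.subtype := by
  have h1 : commutator ↥S ≤ frattini ↥S :=
    Cfsg.Agent.Lib.Helper24.commutator_le_frattini_of_isPGroup hS
  have h2 : (commutator ↥S).map S.subtype = ⁅(S : Subgroup Ω), (S : Subgroup Ω)⁆ := by
    rw [commutator_def, Subgroup.map_commutator, ← MonoidHom.range_eq_map, Subgroup.range_subtype]
  rw [← h2]
  exact Subgroup.map_mono h1

/-- T12 -/
theorem hyperfocal_eq_bot_of_le_frattini [Finite S] {p : ℕ} [Fact p.Prime] (hS : IsPGroup p S)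
    (F : FusionSystem S) (hF : F.IsSaturated p)
    (h : F.hyperfocalSubgroup p ≤ (frattini ↥S).map S.subtype) :
    F.hyperfocalSubgroup p = ⊥ := by
  have hHsat : (Cfsg.innerFusionSystem S).IsSaturated p :=
    Cfsg.Agent.Lib.Helper34.Tate.inner_saturated hS
  have hHsub : (Cfsg.innerFusionSystem S).IsSubsystemOf F :=
    Cfsg.Agent.Lib.Helper34.Tate.inner_isSubsystemOf F
  have hHhyp : (Cfsg.innerFusionSystem S).hyperfocalSubgroup p = ⊥ :=
    Cfsg.Agent.Lib.Helper34.Tate.inner_hyperfocal hS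
  have hfocF := Cfsg.Agent.S5092.result p hS F hF
  have hfocH := Cfsg.Agent.S5092.result p hS (Cfsg.innerFusionSystem S) hHsat
  have hcomm := t12_commutator_le_frattini (p := p) hS
  have hT := Cfsg.Agent.S5224.result p hS F hF (Cfsg.innerFusionSystem S) hHsat hHsub
  have e1 : (frattini ↥S).map S.subtype ⊔ F.focalSubgroup = (frattini ↥S).map S.subtype := by
    rw [hfocF]
    exact sup_eq_left.mpr (sup_le h hcomm)
  have e2 : (frattini ↥S).map S.subtype ⊔ (Cfsg.innerFusionSystem S).focalSubgroup =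
      (frattini ↥S).map S.subtype := by
    rw [hfocH, hHhyp]
    exact sup_eq_left.mpr (sup_le bot_le hcomm)
  have e3 : F.focalSubgroup = (Cfsg.innerFusionSystem S).focalSubgroup :=
    hT.1.mp (e1.trans e2.symm)
  rw [hT.2.mp e3, hHhyp]

end Cfsg.Agent.Lib.Helper86.WE
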