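import Cfsg.Agent.Lib.Helper86.WEDefs
import Cfsg.Agent.Lib.Helper85.FullyNormalized
import Cfsg.Agent.Lib.Helper84.NormalizerSystem
import Cfsg.Agent.Lib.Helper87.NormalizerSystem
import Cfsg.Agent.Lib.Helper87.FusionBasic
import Cfsg.Agent.Lib.Helper87.Inner

set_option autoImplicit false
set_option linter.style.haveILetI false
set_option linter.unusedSectionVars false

/-!
# S5271, step 0: inner normalizer systems give the hypothesis `WE2`
-/

namespace Cfsg.Agent.Lib.Helper86.WE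

open Cfsg Cfsg.FusionSystem
open Cfsg.Agent.Lib.Helper87 (hom_le hom_mem_S restrict_mem inv_exists exists_fullyNormalized_conj
  card_eq_of_isConj map_subgroupOf_eq_iff finite_of_le)

universe u

variable {Ω : Type u} [Group Ω] {S : Subgroup Ω}

/-- T13 -/
theorem WE2_of_normalizer_inner [Finite S] {p : ℕ} [Fact p.Prime] (hS : IsPGroup p S)
    (F : FusionSystem S) (hF : F.IsSaturated p) {N : ℕ}
    (h : ∀ H : Subgroup Ω, F.IsFullyNormalized H → Nat.card H = N →
      ∀ NS : FusionSystem (normalizerIn S H), F.IsNormalizerSystem H NS →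
        ∀ P : Subgroup Ω, NS.Hom P = (innerFusionSystem (normalizerIn S H)).Hom P) :
    WE2 F p N := by
  intro U H hUS hHU hnorm hHc β hβ hβH
  have hHS : H ≤ S := hHU.trans hUS
  haveI : Finite U := finite_of_le hUS
  obtain ⟨H', hconj, hH'⟩ := exists_fullyNormalized_conj F hHS
  obtain ⟨χ, hχ, hχN, hχH, hχsur⟩ :=
    Cfsg.Agent.Lib.Helper85.exists_hom_normalizer_of_fullyNormalized hS F hF hH' hconj
  have hH'S : H' ≤ S := hH'.1
  have hH'c : Nat.card H' = N := (card_eq_of_isConj F hconj).symm.trans hHc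
  -- `U ≤ N_S(H)`
  have hUN : U ≤ normalizerIn S H := by
    intro u hu
    refine ⟨hUS hu, ?_⟩
    show u ∈ Subgroup.normalizer (H : Set Ω)
    rw [Subgroup.mem_normalizer_iff]
    intro x
    constructor
    · intro hx
      exact hnorm u hu x hx
    · intro hx
      have h3 := hnorm u⁻¹ (U.inv_mem hu) _ hx
      have e : u⁻¹ * (u * x * u⁻¹) * u⁻¹⁻¹ = x := by group
      rw [e] at h3
      exact h3
  -- `χ` restricted to `U`
  set χU : U →* Ω := χ.comp (Subgroup.inclusion hUN) with hχU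
  have hχUmem : χU ∈ F.Hom U := restrict_mem F hχ hUN
  have hχUinj : Function.Injective χU := F.injective_of_mem hχUmem
  have hχUN : ∀ x : U, χU x ∈ normalizerIn S H' := fun x => hχN _
  have hχUH : ∀ x : U, (x : Ω) ∈ H → χU x ∈ H' := fun x hx => hχH _ hx
  have hχUsur : ∀ y ∈ H', ∃ x : U, (x : Ω) ∈ H ∧ χU x = y := by
    intro y hy
    obtain ⟨x, hxH, hxy⟩ := hχsur y hy
    refine ⟨⟨x, hHU hxH⟩, hxH, ?_⟩
    rw [← hxy]
    rfl
  -- the inverse of `χU`
  obtain ⟨ψ, hψ, hψinv, hψr⟩ := inv_exists F hχUmem rfl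
  have hψU : ∀ y : χU.range, ψ y ∈ U := by
    intro y
    have h0 : ψ y ∈ ψ.range := ⟨y, rfl⟩
    rwa [hψr] at h0
  have h1 := F.comp_mem hψ hβ hψU
  have hmaps2 : ∀ y : χU.range,
      ((U.subtype.comp β.toMonoidHom).comp (ψ.codRestrict U hψU)) y ∈ U := fun y => (β _).2
  have h2 := F.comp_mem h1 hχUmem hmaps2
  set β' : χU.range →* Ω :=
    χU.comp (((U.subtype.comp β.toMonoidHom).comp (ψ.codRestrict U hψU)).codRestrict U hmaps2)
    with hβ'
  have hβ'y : ∀ y : χU.range, β' y = χU (β ⟨ψ y, hψU y⟩) := fun y => rfl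
  have hβ'x : ∀ (x : U) (hx : χU x ∈ χU.range), β' ⟨χU x, hx⟩ = χU (β x) := by
    intro x hx
    rw [hβ'y]
    congr 2
    exact Subtype.ext (hψinv x hx)
  -- surjectivity of `β` on `H`
  have hβsur : ∀ x : U, (x : Ω) ∈ H → ∃ x₀ : U, (x₀ : Ω) ∈ H ∧ β x₀ = x := by
    intro x hx
    let f : H.subgroupOf U → H.subgroupOf U := fun y => ⟨β y, hβH y y.2⟩
    have hf : Function.Injective f := by
      intro a b hab
      have : β a = β b := congrArg Subtype.val hab
      exact Subtype.ext (β.injective this)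
    obtain ⟨y, hy⟩ := (Finite.injective_iff_surjective.mp hf) ⟨x, hx⟩
    exact ⟨y, y.2, congrArg Subtype.val hy⟩
  -- `β'` is a map of the normalizer system of `H'`
  have hH'U' : H' ≤ χU.range := by
    intro y hy
    obtain ⟨x, -, hxy⟩ := hχUsur y hy
    exact ⟨x, hxy⟩
  have hle : χU.range ⊔ H' ≤ χU.range := sup_le le_rfl hH'U'
  have hmemN : β' ∈ F.normalizerHom H' χU.range := by
    refine ⟨h2, ?_, ?_, β'.comp (Subgroup.inclusion hle), restrict_mem F h2 hle, fun x => ?_, ?_⟩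
    · rintro _ ⟨x, rfl⟩
      exact hχUN x
    · intro y
      rw [hβ'y]
      exact hχUN _
    · rfl
    · rw [map_subgroupOf_eq_iff]
      constructor
      · intro y hy
        obtain ⟨x, hxH, hxy⟩ := hχUsur y hy
        have e : Subgroup.inclusion hle y = ⟨χU x, ⟨x, rfl⟩⟩ := Subtype.ext hxy.symm
        show β' (Subgroup.inclusion hle y) ∈ H'
        have e2 : β' (Subgroup.inclusion hle y) = χU (β x) := by
          rw [e]
          exact hβ'x x _
        rw [e2]
        exact hχUH _ (hβH _ hxH)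
      · intro q hq
        obtain ⟨x, hxH, hxq⟩ := hχUsur q hq
        obtain ⟨x₀, hx₀H, hx₀⟩ := hβsur x hxH
        refine ⟨⟨χU x₀, (le_sup_left : χU.range ≤ χU.range ⊔ H') ⟨x₀, rfl⟩⟩, hχUH _ hx₀H, ?_⟩
        show β' ⟨χU x₀, _⟩ = q
        have e2 : β' ⟨χU x₀, ⟨x₀, rfl⟩⟩ = χU (β x₀) := hβ'x x₀ _
        rw [e2, hx₀, hxq]
  -- so it is a conjugation
  have hNS := Cfsg.Agent.Lib.Helper84.normalizerSystem_spec F H' hH'S
  have hin := h H' hH' hH'c _ hNS χU.range
  have hmem : β' ∈ (Cfsg.Agent.Lib.Helper84.normalizerSystem F H' hH'S).Hom χU.range := by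
    rw [hNS]
    exact hmemN
  rw [hin] at hmem
  obtain ⟨-, g, hg, hgx⟩ := hmem
  obtain ⟨m, hm⟩ := hS ⟨g, hg.1⟩
  have hm' : g ^ p ^ m = 1 := by
    have := congrArg Subtype.val hm
    simpa using this
  refine ⟨m, ?_⟩
  have key : ∀ j : ℕ, ∀ x : U, χU ((β ^ j) x) = g ^ j * χU x * (g ^ j)⁻¹ := by
    intro j
    induction j with
    | zero => intro x; simp
    | succ j ih =>
      intro x
      have e1 : χU ((β ^ (j + 1)) x) = χU (β ((β ^ j) x)) := by
        rw [pow_succ', MulAut.mul_apply]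
      have e2 : χU (β ((β ^ j) x)) = g * χU ((β ^ j) x) * g⁻¹ := by
        rw [← hβ'x _ ⟨_, rfl⟩]
        exact hgx _
      rw [e1, e2, ih, pow_succ', mul_inv_rev]
      simp only [mul_assoc]
  ext x
  have := key (p ^ m) x
  rw [hm'] at this
  have h5 : χU ((β ^ p ^ m) x) = χU x := by simpa using this
  exact congrArg Subtype.val (hχUinj h5)

end Cfsg.Agent.Lib.Helper86.WE
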