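import Cfsg.Agent.Lib.Helper86.WEDefs
import Cfsg.Agent.Lib.Helper85.Solvable
import Cfsg.Agent.Lib.Helper84.NormalizerSystem
import Cfsg.Agent.Lib.Helper87.FusionBasic

set_option autoImplicit false
set_option linter.style.haveILetI false
set_option linter.unusedSectionVars false

/-!
# S5271-T14: the forward direction (an inner system satisfies the two hypotheses for a maximal `D`)
-/

namespace Cfsg.Agent.Lib.Helper86.WE

open Cfsg Cfsg.FusionSystem

universe u

variable {Ω : Type u} [Group Ω] {S : Subgroup Ω}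

/-- a subgroup of index `p` of a finite `p`-group `S` is normalized by `S` -/
theorem t14_normal_of_card [Finite S] {p : ℕ} [Fact p.Prime]
    {Q : Subgroup Ω} (hQS : Q ≤ S) {n : ℕ} (hSc : Nat.card S = p ^ (n + 1))
    (hQc : Nat.card Q = p ^ n) : ∀ g ∈ S, ∀ x ∈ Q, g * x * g⁻¹ ∈ Q := by
  have hpp : p.Prime := Fact.out
  have hidx : (Q.subgroupOf S).index = (Nat.card S).minFac := by
    have h1 : Nat.card (Q.subgroupOf S) * (Q.subgroupOf S).index = Nat.card S :=
      Subgroup.card_mul_index _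
    have h2 : Nat.card (Q.subgroupOf S) = p ^ n := by
      rw [← hQc]
      exact Nat.card_congr (Subgroup.subgroupOfEquivOfLe hQS).toEquiv
    rw [h2, hSc, pow_succ] at h1
    have h3 : (Q.subgroupOf S).index = p :=
      Nat.eq_of_mul_eq_mul_left (pow_pos hpp.pos n) h1
    rw [h3, hSc, Nat.Prime.pow_minFac hpp (Nat.succ_ne_zero n)]
  have hnorm : (Q.subgroupOf S).Normal := Subgroup.normal_of_index_eq_minFac_card hidx
  intro g hg x hx
  have := hnorm.conj_mem ⟨x, hQS hx⟩ (Subgroup.mem_subgroupOf.mpr hx) ⟨g, hg⟩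
  exact Subgroup.mem_subgroupOf.mp this

/-- T14 -/
theorem forward [Finite S] {p : ℕ} [Fact p.Prime] (hS : IsPGroup p S)
    (F : FusionSystem S) (hcard : p ^ 2 ≤ Nat.card S)
    (hin : ∀ P : Subgroup Ω, F.Hom P = (innerFusionSystem S).Hom P) :
    ∃ D : Subgroup Ω, ⊥ < D ∧ D < S ∧ (∀ Q : Subgroup Ω, Q ≤ S → Nat.card ↥Q = Nat.card ↥D →
      ∃ P : Subgroup Ω, F.StronglyClosed P ∧ F.StronglyClosed (Q ⊔ P) ∧
        F.StronglyClosed (Q ⊓ P)) ∧
      (∀ H : Subgroup Ω, F.IsFullyNormalized H → Nat.card ↥H = Nat.card ↥D →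
        ∀ N : FusionSystem (normalizerIn S H), F.IsNormalizerSystem H N →
          ∀ P : Subgroup Ω, N.Hom P = (innerFusionSystem (normalizerIn S H)).Hom P) := by
  have hpp : p.Prime := Fact.out
  obtain ⟨n', hn'⟩ := IsPGroup.iff_card.mp hS
  have hn2 : 2 ≤ n' := by
    by_contra hlt
    push Not at hlt
    have : p ^ n' < p ^ 2 := Nat.pow_lt_pow_right hpp.one_lt hlt
    omega
  obtain ⟨n, rfl⟩ : ∃ n, n' = n + 1 := ⟨n' - 1, by omega⟩
  have hn1 : 1 ≤ n := by omega
  -- a subgroup of order `p ^ n`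
  obtain ⟨D₀, hD₀⟩ := Sylow.exists_subgroup_card_pow_prime (G := ↥S) p
    (show p ^ n ∣ Nat.card S by rw [hn']; exact pow_dvd_pow p (Nat.le_succ n))
  set D : Subgroup Ω := D₀.map S.subtype with hDdef
  have hDS : D ≤ S := by
    rintro _ ⟨x, -, rfl⟩
    exact x.2
  have hDc : Nat.card D = p ^ n := by
    rw [← hD₀]
    exact (Nat.card_congr (D₀.equivMapOfInjective S.subtype S.subtype_injective).toEquiv).symm
  have hDbot : ⊥ < D := by
    rw [bot_lt_iff_ne_bot]
    intro hb
    rw [hb, Subgroup.card_bot] at hDc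
    have : 1 < p ^ n := Nat.one_lt_pow (by omega) hpp.one_lt
    omega
  have hDlt : D < S := by
    refine lt_of_le_of_ne hDS ?_
    intro hb
    rw [hb, hn'] at hDc
    have : p ^ n < p ^ (n + 1) := Nat.pow_lt_pow_right hpp.one_lt (Nat.lt_succ_self n)
    omega
  refine ⟨D, hDbot, hDlt, ?_, ?_⟩
  · -- every subgroup of order `|D|` is strongly closed, take `P = ⊥`
    intro Q hQS hQc
    rw [hDc] at hQc
    have hQn := t14_normal_of_card hQS hn' hQc
    have hQsc : F.StronglyClosed Q := by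
      refine ⟨hQS, fun R hR φ hφ x => ?_⟩
      rw [hin R] at hφ
      obtain ⟨-, g, hg, hgφ⟩ := hφ
      rw [hgφ]
      exact hQn g hg _ (hR x.2)
    refine ⟨⊥, Cfsg.Agent.Lib.Helper85.stronglyClosed_bot F, ?_, ?_⟩
    · rw [sup_bot_eq]
      exact hQsc
    · rw [inf_bot_eq]
      exact Cfsg.Agent.Lib.Helper85.stronglyClosed_bot F
  · -- normalizer systems of an inner system are inner
    intro H hHfn _ N hN P
    ext φ
    constructor
    · intro hφ
      rw [hN P] at hφ
      obtain ⟨-, hPN, -, ψ, hψ, hψext, hψH⟩ := hφ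
      rw [hin (P ⊔ H)] at hψ
      obtain ⟨-, g, hg, hgψ⟩ := hψ
      have hgN : g ∈ Subgroup.normalizer (H : Set Ω) := by
        rw [Subgroup.mem_normalizer_iff]
        intro x
        constructor
        · intro hx
          have := Cfsg.Agent.Lib.Helper84.map_sup_right_mem hψH ⟨x, hx⟩
          rw [hgψ] at this
          exact this
        · intro hx
          obtain ⟨w, hw⟩ := Cfsg.Agent.Lib.Helper84.exists_of_mem_map_sup_right hψH hx
          rw [hgψ] at hw
          have : ((Subgroup.inclusion le_sup_right w : ↥(P ⊔ H)) : Ω) = x :=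
            mul_left_cancel (mul_right_cancel hw)
          rw [← this]
          exact w.2
      refine ⟨hPN, g, ⟨hg, hgN⟩, fun x => ?_⟩
      rw [← hψext x, hgψ]
      rfl
    · rintro ⟨hPN, g, hg, hgφ⟩
      have h1 : Cfsg.conjHom P g ∈ N.Hom P := N.conj_mem hPN hg
      have e : φ = Cfsg.conjHom P g := by
        ext x
        rw [hgφ]
        rfl
      rw [e]
      exact h1

end Cfsg.Agent.Lib.Helper86.WE
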