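import Cfsg.Agent.Lib.Helper86.WEDefs
import Cfsg.Agent.Lib.Helper87.ModExt
import Cfsg.Agent.Lib.Helper87.ConstrainedNormal
import Cfsg.Agent.Lib.Helper87.HypQuot

set_option autoImplicit false
set_option linter.style.haveILetI false
set_option linter.unusedSectionVars false

/-!
# S5271-T6: under `WE2`, the hyperfocal subgroup lies in every strongly closed subgroup of order `N`
-/

namespace Cfsg.Agent.Lib.Helper86.WE

open Cfsg Cfsg.FusionSystem

universe u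

variable {Ω : Type u} [Group Ω] {S : Subgroup Ω}

/-- the set of automorphisms `γ` of `P` with `y⁻¹ γ(y) ∈ T` for all `y` is closed under powers -/
theorem t6_pow_mem {P T : Subgroup Ω} (γ : MulAut P)
    (h : ∀ y : P, (y : Ω)⁻¹ * ((γ y : P) : Ω) ∈ T) (i : ℕ) :
    ∀ y : P, (y : Ω)⁻¹ * (((γ ^ i) y : P) : Ω) ∈ T := by
  induction i with
  | zero =>
    intro y
    have : (y : Ω)⁻¹ * (((γ ^ 0) y : P) : Ω) = 1 := by
      rw [pow_zero]
      show (y : Ω)⁻¹ * (y : Ω) = 1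
      group
    rw [this]
    exact T.one_mem
  | succ i ih =>
    intro y
    have e : (y : Ω)⁻¹ * (((γ ^ (i + 1)) y : P) : Ω) =
        ((y : Ω)⁻¹ * (((γ ^ i) y : P) : Ω)) *
          ((((γ ^ i) y : P) : Ω)⁻¹ * ((γ ((γ ^ i) y) : P) : Ω)) := by
      rw [mul_assoc, mul_inv_cancel_left, pow_succ']
      rfl
    rw [e]
    exact T.mul_mem (ih y) (h _)

/-- T6 -/
theorem hyperfocal_le_of_card_eq [Finite S] {p : ℕ} [Fact p.Prime] (hS : IsPGroup p S)
    (F : FusionSystem S) (hF : F.IsSaturated p) {N : ℕ} (h2 : WE2 F p N)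
    {T : Subgroup Ω} (hT : F.StronglyClosed T) (hTc : Nat.card T = N) :
    F.hyperfocalSubgroup p ≤ T := by
  refine Cfsg.Agent.Lib.Helper87.hyperfocal_le_of_coprime F p T ?_
  intro P hPS α hα hco x
  have hφ : P.subtype.comp α.toMonoidHom ∈ F.Hom P :=
    (Cfsg.Agent.Lib.Helper87.mem_autGroup_iff F hPS α).mp hα
  obtain ⟨ψ, hψ, hψe⟩ :=
    Cfsg.Agent.Lib.Helper87.exists_extension_mod hS F hF hT P _ hφ
  have hUS : P ⊔ T ≤ S := sup_le hPS hT.1
  haveI hfinU : Finite ↥(P ⊔ T) := Cfsg.Agent.Lib.Helper87.finite_of_le hUS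
  -- `ψ` maps `P ⊔ T` into itself
  have hmaps : ∀ z : ↥(P ⊔ T), ψ z ∈ P ⊔ T := by
    have := Cfsg.Agent.Lib.Helper87.forall_sup_of_subgroup (P := P) (Q := T)
      ((P ⊔ T).comap ψ) ?_ ?_
    · intro z; exact this z
    · intro y hy
      show ψ _ ∈ P ⊔ T
      have h3 := hψe ⟨y, hy⟩
      have e : ψ ⟨y, (le_sup_left : P ≤ P ⊔ T) hy⟩ =
          (P.subtype.comp α.toMonoidHom) ⟨y, hy⟩ *
            (((P.subtype.comp α.toMonoidHom) ⟨y, hy⟩)⁻¹ *
              ψ (Subgroup.inclusion le_sup_left ⟨y, hy⟩)) := by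
        rw [mul_inv_cancel_left]; rfl
      rw [e]
      refine Subgroup.mul_mem _ ((le_sup_left : P ≤ P ⊔ T) ?_) ((le_sup_right : T ≤ P ⊔ T) h3)
      exact (α ⟨y, hy⟩).2
    · intro y hy
      show ψ _ ∈ P ⊔ T
      exact (le_sup_right : T ≤ P ⊔ T)
        (Cfsg.Agent.Lib.Helper87.stronglyClosed_map_mem F hT hψ _ hy)
  have hinj : Function.Injective (ψ.codRestrict (P ⊔ T) hmaps) := by
    intro a b hab
    apply F.injective_of_mem hψ
    exact congrArg Subtype.val hab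
  have hbij : Function.Bijective (ψ.codRestrict (P ⊔ T) hmaps) :=
    Finite.injective_iff_bijective.mp hinj
  set β : MulAut ↥(P ⊔ T) := MulEquiv.ofBijective (ψ.codRestrict (P ⊔ T) hmaps) hbij with hβ
  have hβv : ∀ z : ↥(P ⊔ T), ((β z : ↥(P ⊔ T)) : Ω) = ψ z := fun z => rfl
  have hβF : (P ⊔ T).subtype.comp β.toMonoidHom ∈ F.Hom (P ⊔ T) := by
    have : (P ⊔ T).subtype.comp β.toMonoidHom = ψ := by
      ext z; rfl
    rw [this]; exact hψ
  -- apply `WE2`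
  have hnorm : ∀ u ∈ P ⊔ T, ∀ h ∈ T, u * h * u⁻¹ ∈ T := by
    intro u hu h hh
    have := Cfsg.Agent.Lib.Helper87.stronglyClosed_le_normalizer F hT (hUS hu)
    exact (Subgroup.mem_normalizer_iff.mp this h).mp hh
  have hβT : ∀ z : ↥(P ⊔ T), (z : Ω) ∈ T → ((β z : ↥(P ⊔ T)) : Ω) ∈ T := by
    intro z hz
    rw [hβv]
    exact Cfsg.Agent.Lib.Helper87.stronglyClosed_map_mem F hT hψ z hz
  obtain ⟨m, hm⟩ := h2 (P ⊔ T) T hUS le_sup_right hnorm hTc β hβF hβT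
  -- congruence modulo `T` is preserved by `(α, β)`
  have hstep : ∀ (z : P) (u : ↥(P ⊔ T)), (z : Ω)⁻¹ * (u : Ω) ∈ T →
      ((α z : P) : Ω)⁻¹ * ((β u : ↥(P ⊔ T)) : Ω) ∈ T := by
    intro z u hzu
    have hu : u = Subgroup.inclusion le_sup_left z *
        (⟨(z : Ω)⁻¹ * (u : Ω), (le_sup_right : T ≤ P ⊔ T) hzu⟩ : ↥(P ⊔ T)) := by
      apply Subtype.ext
      show (u : Ω) = (z : Ω) * ((z : Ω)⁻¹ * (u : Ω))
      rw [mul_inv_cancel_left]
    have e : ((α z : P) : Ω)⁻¹ * ((β u : ↥(P ⊔ T)) : Ω) =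
        (((α z : P) : Ω)⁻¹ * ψ (Subgroup.inclusion le_sup_left z)) *
          ψ (⟨(z : Ω)⁻¹ * (u : Ω), (le_sup_right : T ≤ P ⊔ T) hzu⟩ : ↥(P ⊔ T)) := by
      rw [hβv, mul_assoc, ← map_mul, ← hu]
    rw [e]
    refine T.mul_mem (hψe z) ?_
    exact Cfsg.Agent.Lib.Helper87.stronglyClosed_map_mem F hT hψ _ hzu
  have hiter : ∀ (j : ℕ) (y : P),
      (((α ^ j) y : P) : Ω)⁻¹ * (((β ^ j) (Subgroup.inclusion le_sup_left y) : ↥(P ⊔ T)) : Ω)
        ∈ T := by
    intro j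
    induction j with
    | zero =>
      intro y
      have : (((α ^ 0) y : P) : Ω)⁻¹ *
          (((β ^ 0) (Subgroup.inclusion le_sup_left y) : ↥(P ⊔ T)) : Ω) = 1 := by
        rw [pow_zero, pow_zero]
        show (y : Ω)⁻¹ * (y : Ω) = 1
        group
      rw [this]
      exact T.one_mem
    | succ j ih =>
      intro y
      have := hstep _ _ (ih y)
      rw [pow_succ', pow_succ']
      exact this
  -- `γ = α ^ (p ^ m)` is trivial modulo `T`
  have hγ : ∀ y : P, (y : Ω)⁻¹ * (((α ^ (p ^ m)) y : P) : Ω) ∈ T := by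
    intro y
    have h3 := hiter (p ^ m) y
    rw [hm] at h3
    have e : (y : Ω)⁻¹ * (((α ^ (p ^ m)) y : P) : Ω) =
        ((((α ^ (p ^ m)) y : P) : Ω)⁻¹ * (y : Ω))⁻¹ := by
      group
    rw [e]
    exact T.inv_mem h3
  -- `α` is a power of `γ`
  have hco' : (p ^ m).Coprime (orderOf α) := (Nat.Coprime.pow_right m hco).symm
  obtain ⟨e, he⟩ := exists_pow_eq_self_of_coprime hco'
  have := t6_pow_mem (T := T) (α ^ (p ^ m)) hγ e x
  rw [he] at this
  exact this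

end Cfsg.Agent.Lib.Helper86.WE
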