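import Cfsg.Agent.Lib.Helper86.WEDefs
import Cfsg.Agent.Lib.Helper85.Solvable
import Cfsg.Agent.Lib.Helper88.FactorPrelim

set_option autoImplicit false
set_option linter.style.haveILetI false
set_option linter.unusedSectionVars false

/-!
# S5271, piece T7: hypothesis WE1 passes to factor systems
-/

namespace Cfsg.Agent.Lib.Helper86.WE

open Cfsg Cfsg.FusionSystem

universe u

variable {Ω : Type u} [Group Ω] {S : Subgroup Ω}

/-- image of a join along `θ` (both factors inside `S`) -/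
theorem t7_im_sup {Ω' : Type*} [Group Ω'] (θ : S →* Ω') {A B : Subgroup Ω} (hA : A ≤ S)
    (hB : B ≤ S) : imageAlong θ (A ⊔ B) = imageAlong θ A ⊔ imageAlong θ B := by
  unfold imageAlong
  rw [Subgroup.subgroupOf_sup hA hB, Subgroup.map_sup]

/-- T7 -/
theorem WE1_factor [Finite S] (F : FusionSystem S) {T₀ : Subgroup Ω}
    {Ω' : Type*} [Group Ω'] {S' : Subgroup Ω'} (θ : S →* Ω') (E : FusionSystem S')
    (hE : F.IsFactorSystem T₀ θ E) {N' : ℕ} (h : WE1 F (Nat.card T₀ * N')) : WE1 E N' := by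
  have hfac : F.IsFactorSystem T₀ θ E := hE
  obtain ⟨hT₀S, hker, hrange, -⟩ := hE
  intro Q' hQ'S' hQ'c
  have hQ'r : Q' ≤ θ.range := hrange ▸ hQ'S'
  have himQ : imageAlong θ (preimageAlong θ Q') = Q' := Cfsg.Agent.Lib.Helper85.im_pre θ hQ'r
  have hQS : preimageAlong θ Q' ≤ S := Cfsg.Agent.S5132.pre_le θ Q'
  have hT₀Q : T₀ ≤ preimageAlong θ Q' := by
    intro x hx
    refine Cfsg.Agent.S5132.mem_pre.mpr ⟨hT₀S hx, ?_⟩
    rw [(hker ⟨x, hT₀S hx⟩).mpr hx]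
    exact Q'.one_mem
  have hcard : Nat.card (preimageAlong θ Q') = Nat.card T₀ * N' := by
    rw [Cfsg.Agent.Lib.Helper88.card_eq_card_mul_card_image θ hker hT₀Q hQS, himQ, hQ'c]
  obtain ⟨P, hP, hQP, hQiP⟩ := h (preimageAlong θ Q') hQS hcard
  refine ⟨imageAlong θ P, Cfsg.Agent.Lib.Helper85.image_stronglyClosed F θ E hfac hP, ?_, ?_⟩
  · have h1 := Cfsg.Agent.Lib.Helper85.image_stronglyClosed F θ E hfac hQP
    rwa [t7_im_sup θ hQS hP.1, himQ] at h1
  · have h1 := Cfsg.Agent.Lib.Helper85.image_stronglyClosed F θ E hfac hQiP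
    have e : imageAlong θ (preimageAlong θ Q' ⊓ P) = Q' ⊓ imageAlong θ P := by
      ext y
      constructor
      · intro hy
        obtain ⟨s, hs, rfl⟩ := Cfsg.Agent.Lib.Helper85.mem_im.mp hy
        refine Subgroup.mem_inf.mpr ⟨?_, Cfsg.Agent.Lib.Helper85.mem_im.mpr ⟨s, hs.2, rfl⟩⟩
        obtain ⟨_, h2⟩ := Cfsg.Agent.S5132.mem_pre.mp hs.1
        exact h2
      · intro hy
        obtain ⟨hyQ, hyP⟩ := Subgroup.mem_inf.mp hy
        obtain ⟨s, hs, rfl⟩ := Cfsg.Agent.Lib.Helper85.mem_im.mp hyP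
        refine Cfsg.Agent.Lib.Helper85.mem_im.mpr ⟨s, Subgroup.mem_inf.mpr ⟨?_, hs⟩, rfl⟩
        exact Cfsg.Agent.S5132.mem_pre.mpr ⟨s.2, hyQ⟩
    rwa [e] at h1

end Cfsg.Agent.Lib.Helper86.WE
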