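import Cfsg.Agent.Lib.Helper86.WEDefs
import Cfsg.Agent.Lib.Helper85.Solvable
import Cfsg.Agent.Lib.Helper88.FactorPrelim

set_option autoImplicit false
set_option linter.style.haveILetI false
set_option linter.unusedSectionVars false

/-!
# S5271, piece T8: hypothesis WE2 passes to factor systems
-/

namespace Cfsg.Agent.Lib.Helper86.WE

open Cfsg Cfsg.FusionSystem

universe u

variable {Ω : Type u} [Group Ω] {S : Subgroup Ω}

/-- T8 -/
theorem WE2_factor [Finite S] (F : FusionSystem S) {T₀ : Subgroup Ω}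
    {Ω' : Type*} [Group Ω'] {S' : Subgroup Ω'} (θ : S →* Ω') (E : FusionSystem S')
    (hE : F.IsFactorSystem T₀ θ E) {p N' : ℕ} (h : WE2 F p (Nat.card T₀ * N')) :
    WE2 E p N' := by
  obtain ⟨hT₀S, hker, hrange, hhom⟩ := hE
  intro U' H' hU'S' hH'U' hnorm hH'c β' hβ' hβ'H
  have hU'r : U' ≤ θ.range := hrange ▸ hU'S'
  have hH'r : H' ≤ θ.range := hH'U'.trans hU'r
  obtain ⟨-, φ, hφ, hPS, hφS, hP', hind⟩ := (hhom U' (U'.subtype.comp β'.toMonoidHom)).mp hβ'
  -- notation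
  have hUS : preimageAlong θ U' ≤ S := Cfsg.Agent.S5132.pre_le θ U'
  haveI : Finite (preimageAlong θ U') :=
    Finite.of_injective _ (Subgroup.inclusion_injective hUS)
  -- the induced relation, in a convenient form
  have hrel : ∀ x : preimageAlong θ U',
      ((β' ⟨θ ⟨x, hPS x.2⟩, hP' x⟩ : U') : Ω') = θ ⟨φ x, hφS x⟩ := fun x => hind x
  -- `φ` maps `U` into `U`
  have hφU : ∀ x : preimageAlong θ U', φ x ∈ preimageAlong θ U' := by
    intro x
    refine Cfsg.Agent.S5132.mem_pre.mpr ⟨hφS x, ?_⟩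
    rw [← hrel x]
    exact (β' _).2
  have hinj : Function.Injective (φ.codRestrict (preimageAlong θ U') hφU) := by
    intro a b hab
    apply F.injective_of_mem hφ
    exact congrArg Subtype.val hab
  have hbij : Function.Bijective (φ.codRestrict (preimageAlong θ U') hφU) :=
    ⟨hinj, Finite.surjective_of_injective hinj⟩
  let β : MulAut (preimageAlong θ U') :=
    MulEquiv.ofBijective (φ.codRestrict (preimageAlong θ U') hφU) hbij
  have hβ_apply : ∀ x : preimageAlong θ U', ((β x : preimageAlong θ U') : Ω) = φ x := fun x => rfl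
  have hβF : (preimageAlong θ U').subtype.comp β.toMonoidHom ∈ F.Hom (preimageAlong θ U') := by
    have e : (preimageAlong θ U').subtype.comp β.toMonoidHom = φ := by
      ext x
      rfl
    rw [e]
    exact hφ
  -- the subgroup `H`
  have hHU : preimageAlong θ H' ≤ preimageAlong θ U' := by
    intro x hx
    obtain ⟨hxS, hx'⟩ := Cfsg.Agent.S5132.mem_pre.mp hx
    exact Cfsg.Agent.S5132.mem_pre.mpr ⟨hxS, hH'U' hx'⟩
  have hHnorm : ∀ u ∈ preimageAlong θ U', ∀ x ∈ preimageAlong θ H',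
      u * x * u⁻¹ ∈ preimageAlong θ H' := by
    intro u hu x hx
    obtain ⟨huS, hu'⟩ := Cfsg.Agent.S5132.mem_pre.mp hu
    obtain ⟨hxS, hx'⟩ := Cfsg.Agent.S5132.mem_pre.mp hx
    refine Cfsg.Agent.S5132.mem_pre.mpr ⟨S.mul_mem (S.mul_mem huS hxS) (S.inv_mem huS), ?_⟩
    have e : (⟨u * x * u⁻¹, S.mul_mem (S.mul_mem huS hxS) (S.inv_mem huS)⟩ : S) =
        ⟨u, huS⟩ * ⟨x, hxS⟩ * (⟨u, huS⟩ : S)⁻¹ := Subtype.ext rfl
    rw [e, map_mul, map_mul, map_inv]
    exact hnorm _ hu' _ hx'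
  have hT₀H : T₀ ≤ preimageAlong θ H' := by
    intro x hx
    refine Cfsg.Agent.S5132.mem_pre.mpr ⟨hT₀S hx, ?_⟩
    rw [(hker ⟨x, hT₀S hx⟩).mpr hx]
    exact H'.one_mem
  have hHc : Nat.card (preimageAlong θ H') = Nat.card T₀ * N' := by
    rw [Cfsg.Agent.Lib.Helper88.card_eq_card_mul_card_image θ hker hT₀H
      (Cfsg.Agent.S5132.pre_le θ H'), Cfsg.Agent.Lib.Helper85.im_pre θ hH'r, hH'c]
  have hβH : ∀ x : preimageAlong θ U', (x : Ω) ∈ preimageAlong θ H' →
      ((β x : preimageAlong θ U') : Ω) ∈ preimageAlong θ H' := by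
    intro x hx
    obtain ⟨hxS, hx'⟩ := Cfsg.Agent.S5132.mem_pre.mp hx
    rw [hβ_apply]
    refine Cfsg.Agent.S5132.mem_pre.mpr ⟨hφS x, ?_⟩
    rw [← hrel x]
    exact hβ'H _ hx'
  obtain ⟨m, hm⟩ := h (preimageAlong θ U') (preimageAlong θ H') hUS hHU hHnorm hHc β hβF hβH
  refine ⟨m, ?_⟩
  -- compatibility of powers
  have hpow : ∀ (j : ℕ) (x : preimageAlong θ U'),
      (((β' ^ j) ⟨θ ⟨x, hPS x.2⟩, hP' x⟩ : U') : Ω') =
        θ ⟨(((β ^ j) x : preimageAlong θ U') : Ω), hUS ((β ^ j) x).2⟩ := by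
    intro j
    induction j with
    | zero =>
      intro x
      simp
    | succ j ih =>
      intro x
      rw [pow_succ, pow_succ, MulAut.mul_apply, MulAut.mul_apply]
      have h1 := ih (β x)
      have h2 : (⟨θ ⟨((β x : preimageAlong θ U') : Ω), hPS (β x).2⟩, hP' (β x)⟩ : U') =
          β' ⟨θ ⟨x, hPS x.2⟩, hP' x⟩ := by
        apply Subtype.ext
        exact (hrel x).symm
      rw [h2] at h1
      exact h1
  apply MulEquiv.ext
  intro y
  rw [MulAut.one_apply]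
  obtain ⟨s, hs⟩ := hU'r y.2
  have hsU : (s : Ω) ∈ preimageAlong θ U' :=
    Cfsg.Agent.S5132.mem_pre.mpr ⟨s.2, by rw [hs]; exact y.2⟩
  have hy : y = ⟨θ ⟨((⟨s, hsU⟩ : preimageAlong θ U') : Ω), hPS hsU⟩, hP' ⟨s, hsU⟩⟩ :=
    Subtype.ext hs.symm
  apply Subtype.ext
  rw [hy, hpow (p ^ m) ⟨s, hsU⟩, hm, MulAut.one_apply]
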