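import Cfsg.Agent.Lib.Helper86.WEDefs
import Cfsg.Agent.Lib.Helper87.ModExt
import Cfsg.Agent.Lib.Helper85.Hyperfocal
import Cfsg.Agent.Lib.Helper85.Solvable
import Cfsg.Agent.Lib.Helper87.TateT13
import Cfsg.Agent.Lib.Helper87.HypQuot
import Cfsg.Agent.Lib.Helper87.Essential
import Cfsg.Agent.S5132
import Cfsg.Agent.S5133
import Cfsg.Agent.S5134
import Cfsg.Agent.S5256
import Cfsg.Agent.Lib.Helper86.WE_T7
import Cfsg.Agent.Lib.Helper86.WE_T8

set_option autoImplicit false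
set_option linter.style.haveILetI false
set_option linter.unusedSectionVars false

namespace Cfsg.Agent.Lib.Helper86.WE

open Cfsg Cfsg.FusionSystem

universe u

variable {Ω : Type u} [Group Ω] {S : Subgroup Ω}

/-- T9 -/
theorem hyperfocal_le_of_card_lt [Finite S] {p : ℕ} [Fact p.Prime] (hS : IsPGroup p S)
    (F : FusionSystem S) (hF : F.IsSaturated p) {k : ℕ} (hk : p ^ k < Nat.card S)
    (h1 : WE1 F (p ^ k)) (h2 : WE2 F p (p ^ k))
    (IH : ∀ {Ω' : Type u} [Group Ω'] {S' : Subgroup Ω'} [Finite S'], IsPGroup p S' →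
      ∀ (E : FusionSystem S'), E.IsSaturated p → ∀ k' : ℕ, Nat.card S' < Nat.card S → 1 ≤ k' →
        p ^ k' < Nat.card S' → WE1 E (p ^ k') → WE2 E p (p ^ k') → E.hyperfocalSubgroup p = ⊥)
    {T₀ : Subgroup Ω} (hT₀ : F.StronglyClosed T₀) (hne : T₀ ≠ ⊥) (hlt : Nat.card T₀ < p ^ k) :
    F.hyperfocalSubgroup p ≤ T₀ := by
  have hpp : p.Prime := Fact.out
  haveI hnorm : (T₀.subgroupOf S).Normal :=
    Cfsg.Agent.Lib.Helper85.stronglyClosed_subgroupOf_normal F hT₀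
  obtain ⟨E, hE⟩ := Cfsg.Agent.S5132.result p hS F T₀ hT₀
  have hsur := Cfsg.Agent.S5134.result p hS F hF T₀ hT₀ _ E hE
  have hEsat := Cfsg.Agent.S5133.result p hS F hF E _ hsur
  have hT₀S : T₀ ≤ S := hT₀.1
  haveI : Finite T₀ := Finite.of_injective _ (Subgroup.inclusion_injective hT₀S)
  obtain ⟨t, ht⟩ := IsPGroup.iff_card.mp (hS.to_le hT₀S)
  have htk : t < k := (Nat.pow_lt_pow_iff_right hpp.one_lt).mp (ht ▸ hlt)
  have ht0 : t ≠ 0 := by
    intro h0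
    rw [h0, pow_zero] at ht
    exact hne (Subgroup.card_eq_one.mp ht)
  -- cardinalities
  have hcT : Nat.card (T₀.subgroupOf S) = Nat.card T₀ := by
    exact Nat.card_congr (Subgroup.subgroupOfEquivOfLe hT₀S).toEquiv
  have hcardS : Nat.card S =
      Nat.card T₀ * Nat.card (⊤ : Subgroup (↥S ⧸ T₀.subgroupOf S)) := by
    rw [Subgroup.card_top, ← hcT, mul_comm]
    exact Subgroup.card_eq_card_quotient_mul_card_subgroup _
  have hcpos : 0 < Nat.card T₀ := Nat.card_pos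
  have hS' : IsPGroup p (⊤ : Subgroup (↥S ⧸ T₀.subgroupOf S)) :=
    (hS.to_quotient (T₀.subgroupOf S)).to_subgroup _
  have hlt' : Nat.card (⊤ : Subgroup (↥S ⧸ T₀.subgroupOf S)) < Nat.card S := by
    rw [hcardS]
    have h2' : 2 ≤ Nat.card T₀ := by
      rw [ht]
      calc 2 ≤ p := hpp.two_le
        _ = p ^ 1 := (pow_one p).symm
        _ ≤ p ^ t := Nat.pow_le_pow_right hpp.pos (by omega)
    have hpos' : 0 < Nat.card (⊤ : Subgroup (↥S ⧸ T₀.subgroupOf S)) := Nat.card_pos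
    nlinarith
  have hpk : p ^ k = Nat.card T₀ * p ^ (k - t) := by
    rw [ht, ← pow_add]
    congr 1
    omega
  have hk' : p ^ (k - t) < Nat.card (⊤ : Subgroup (↥S ⧸ T₀.subgroupOf S)) := by
    rw [hcardS, hpk] at hk
    exact lt_of_mul_lt_mul_left hk (Nat.zero_le _)
  have hbot := IH hS' E hEsat (k - t) hlt' (by omega) hk'
    (WE1_factor F _ E hE (hpk ▸ h1)) (WE2_factor F _ E hE (hpk ▸ h2))
  have h56 := Cfsg.Agent.S5256.result p hS F hF T₀ hT₀ _ E hE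
  rw [hbot] at h56
  intro x hx
  have hxS : x ∈ S := Cfsg.Agent.Lib.Helper85.hyperfocal_le F p hx
  have h1' : QuotientGroup.mk' (T₀.subgroupOf S) ⟨x, hxS⟩ ∈
      ((F.hyperfocalSubgroup p).subgroupOf S).map (QuotientGroup.mk' (T₀.subgroupOf S)) :=
    ⟨⟨x, hxS⟩, hx, rfl⟩
  rw [← h56, Subgroup.mem_bot] at h1'
  exact (hE.2.1 ⟨x, hxS⟩).mp h1'

end Cfsg.Agent.Lib.Helper86.WE
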