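import Cfsg.Agent.Lib.Helper86.WE_Lat
import Cfsg.Agent.Lib.Helper86.WE_T6
import Cfsg.Agent.Lib.Helper86.WE_T9
import Cfsg.Agent.Lib.Helper86.WE_T10h
import Cfsg.Agent.Lib.Helper86.WE_T11
import Cfsg.Agent.Lib.Helper86.WE_T12
import Cfsg.Agent.Lib.Helper86.WE_T13
import Cfsg.Agent.Lib.Helper86.WE_T14
import Cfsg.Agent.Lib.Helper85.Hyperfocal
import Cfsg.Agent.Lib.Helper87.TateT13
import Cfsg.Agent.Lib.Helper87.Essential

set_option autoImplicit false
set_option linter.style.haveILetI false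
set_option linter.unusedSectionVars false

/-!
# S5271: fusion systems with weakly embedded subgroups of one order and inner normalizers are inner
-/

namespace Cfsg.Agent.Lib.Helper86.WE

open Cfsg Cfsg.FusionSystem

universe u

variable {Ω : Type u} [Group Ω] {S : Subgroup Ω}

/-- main induction -/
theorem hyperfocal_eq_bot_of_WE {p : ℕ} [Fact p.Prime] (n : ℕ) :
    ∀ {Ω : Type u} [Group Ω] {S : Subgroup Ω} [Finite S], IsPGroup p S →
      ∀ (F : FusionSystem S), F.IsSaturated p → ∀ k : ℕ, Nat.card S = n → 1 ≤ k →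
        p ^ k < Nat.card S → WE1 F (p ^ k) → WE2 F p (p ^ k) → F.hyperfocalSubgroup p = ⊥ := by
  induction n using Nat.strong_induction_on with
  | _ n IH =>
  intro Ω _ S _ hS F hF k hn hk1 hk h1 h2
  by_contra hne
  have hpp : p.Prime := Fact.out
  have hMsc : F.StronglyClosed (F.hyperfocalSubgroup p) :=
    Cfsg.Agent.Lib.Helper85.hyperfocal_stronglyClosed hS F hF
  have hMS : F.hyperfocalSubgroup p ≤ S := hMsc.1
  -- (b)
  have hb : ∀ T : Subgroup Ω, F.StronglyClosed T → Nat.card T = p ^ k →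
      F.hyperfocalSubgroup p ≤ T := fun T hT hTc => hyperfocal_le_of_card_eq hS F hF h2 hT hTc
  -- (c)
  have hc : ∀ T₀ : Subgroup Ω, F.StronglyClosed T₀ → T₀ ≠ ⊥ → Nat.card T₀ < p ^ k →
      F.hyperfocalSubgroup p ≤ T₀ := by
    intro T₀ hT₀ hT₀ne hlt
    refine hyperfocal_le_of_card_lt hS F hF hk h1 h2 ?_ hT₀ hT₀ne hlt
    intro Ω' _ S' _ hS' E hE k' hlt' hk1' hk' h1' h2'
    exact IH (Nat.card S') (hn ▸ hlt') hS' E hE k' rfl hk1' hk' h1' h2'
  -- (e)
  have he : ∀ T' : Subgroup Ω, F.StronglyClosed T' → T' ≠ ⊥ → F.hyperfocalSubgroup p ≤ T' := by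
    intro T' hT' hT'ne
    obtain ⟨A, hA, hAne, hAT', hAc⟩ := exists_stronglyClosed_le_card hS F hF hk1 h1 hT' hT'ne
    rcases hAc.lt_or_eq with hlt | heq
    · exact (hc A hA hAne hlt).trans hAT'
    · exact (hb A hA heq).trans hAT'
  -- (a)
  obtain ⟨T, hT, hTc⟩ := exists_stronglyClosed_card hS F hF hk h1
  -- step 6
  have h6 : ∀ Q : Subgroup Ω, Q ≤ S → Nat.card Q = p ^ k →
      Q ⊓ F.hyperfocalSubgroup p = ⊥ ∨ F.hyperfocalSubgroup p ≤ Q := by
    intro Q hQS hQc
    obtain ⟨P, hP, hQP, hQiP⟩ := h1 Q hQS hQc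
    by_cases hPb : P = ⊥
    · right
      have hQne : Q ≠ ⊥ := by
        intro hQb
        rw [hQb, Subgroup.card_bot] at hQc
        have : 1 < p ^ k := Nat.one_lt_pow (by omega) hpp.one_lt
        omega
      have hQsc : F.StronglyClosed Q := by
        have := hQP
        rwa [hPb, sup_bot_eq] at this
      exact he Q hQsc hQne
    · have hMP : F.hyperfocalSubgroup p ≤ P := he P hP hPb
      by_cases hAb : Q ⊓ P = ⊥
      · left
        rw [eq_bot_iff, ← hAb]
        exact inf_le_inf_left Q hMP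
      · right
        exact (he (Q ⊓ P) hQiP hAb).trans inf_le_left
  -- the order of M
  have hMp : IsPGroup p (F.hyperfocalSubgroup p) := hS.to_le hMS
  haveI : Finite (F.hyperfocalSubgroup p) :=
    Finite.of_injective _ (Subgroup.inclusion_injective hMS)
  obtain ⟨j, hj⟩ := IsPGroup.iff_card.mp hMp
  have hj0 : j ≠ 0 := by
    intro hj0
    rw [hj0, pow_zero] at hj
    exact hne (Subgroup.card_eq_one.mp hj)
  by_cases hj1 : j = 1
  · rw [hj1, pow_one] at hj
    exact card_hyperfocal_ne_prime hS F hF h2 hT hTc hj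
  · have hj2 : 2 ≤ j := by omega
    have hMc : p ^ 2 ≤ Nat.card (F.hyperfocalSubgroup p) := by
      rw [hj]
      exact Nat.pow_le_pow_right hpp.pos hj2
    have hfr := le_frattini_of_inf hS hk1 hk hMS hMc h6
    exact hne (hyperfocal_eq_bot_of_le_frattini hS F hF hfr)

theorem main_iff [Finite S] (p : ℕ) [Fact p.Prime] (hS : IsPGroup p ↥S)
    (F : FusionSystem S) (hF : F.IsSaturated p) (hcard : p ^ 2 ≤ Nat.card S) :
    (∀ P : Subgroup Ω, F.Hom P = (innerFusionSystem S).Hom P) ↔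
    ∃ D : Subgroup Ω, ⊥ < D ∧ D < S ∧ (∀ Q : Subgroup Ω, Q ≤ S → Nat.card ↥Q = Nat.card ↥D →
      ∃ P : Subgroup Ω, F.StronglyClosed P ∧ F.StronglyClosed (Q ⊔ P) ∧
        F.StronglyClosed (Q ⊓ P)) ∧
      (∀ H : Subgroup Ω, F.IsFullyNormalized H → Nat.card ↥H = Nat.card ↥D →
        ∀ N : FusionSystem (normalizerIn S H), F.IsNormalizerSystem H N →
          ∀ P : Subgroup Ω, N.Hom P = (innerFusionSystem (normalizerIn S H)).Hom P) := by
  constructor
  · exact forward hS F hcard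
  · rintro ⟨D, hD0, hDS, hH1, hH2⟩
    have hpp : p.Prime := Fact.out
    have hDp : IsPGroup p D := hS.to_le hDS.le
    haveI : Finite D := Finite.of_injective _ (Subgroup.inclusion_injective hDS.le)
    obtain ⟨k, hk⟩ := IsPGroup.iff_card.mp hDp
    have hk1 : 1 ≤ k := by
      rcases Nat.eq_zero_or_pos k with h0 | h0
      · exfalso
        rw [h0, pow_zero] at hk
        exact hD0.ne' (Subgroup.card_eq_one.mp hk)
      · exact h0
    have hklt : p ^ k < Nat.card S := by
      rw [← hk]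
      exact Cfsg.Agent.Lib.Helper87.card_lt_card_of_lt' le_rfl hDS
    have h1 : WE1 F (p ^ k) := fun Q hQS hQc => hH1 Q hQS (hQc.trans hk.symm)
    have h2 : WE2 F p (p ^ k) :=
      WE2_of_normalizer_inner hS F hF (fun H hH hHc => hH2 H hH (hHc.trans hk.symm))
    have hhyp := hyperfocal_eq_bot_of_WE (Nat.card S) hS F hF k rfl hk1 hklt h1 h2
    have := Cfsg.Agent.Lib.Helper34.Tate.inner_of_hyperfocal_eq_bot hS F hF hhyp
    intro P
    rw [this]

end Cfsg.Agent.Lib.Helper86.WE
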