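import Cfsg.Agent.Lib.Helper86.WEDefs
import Cfsg.Agent.Lib.Helper85.Hyperfocal
import Cfsg.Agent.Lib.Helper85.Solvable
import Cfsg.Agent.Lib.Helper87.HypQuot
import Cfsg.Agent.Lib.Helper87.TateT6
import Cfsg.Agent.Lib.Helper63.PGroup

set_option autoImplicit false
set_option linter.style.haveILetI false
set_option linter.unusedSectionVars false

/-!
# S5271, piece T10: under WE2 the hyperfocal subgroup does not have order `p`
-/

namespace Cfsg.Agent.Lib.Helper86.WE

open Cfsg Cfsg.FusionSystem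

universe u

variable {Ω : Type u} [Group Ω] {S : Subgroup Ω}

/-- a map of the system defined on a strongly closed subgroup `M` has range `M` -/
theorem t10_range_eq [Finite S] (F : FusionSystem S) {M : Subgroup Ω} (hM : F.StronglyClosed M)
    {χ : M →* Ω} (hχ : χ ∈ F.Hom M) : χ.range = M := by
  haveI : Finite M := Cfsg.Agent.Lib.Helper87.finite_of_le hM.1
  have hle : χ.range ≤ M := by
    rintro _ ⟨x, rfl⟩
    exact hM.2 M le_rfl χ hχ x
  have hinj : Function.Injective χ := F.injective_of_mem hχ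
  apply Subgroup.eq_of_le_of_card_ge hle
  have h1 : Nat.card M = Nat.card χ.range :=
    Nat.card_congr (Equiv.ofInjective χ hinj)
  exact h1.le

/-- in a group where `a` is fixed by `g ^ a₁` and `g ^ a₂` with coprime exponents, `a` is fixed by `g` -/
theorem t10_fixed_of_coprime {W : Type*} [Group W] (α : MulAut W) (w : W) {a b : ℕ}
    (hab : a.Coprime b) (ha : (α ^ a) w = w) (hb : (α ^ b) w = w) : α w = w := by
  have hmem : ∀ k : ℕ, (α ^ k) w = w → α ^ k ∈ MulAction.stabilizer (MulAut W) w := by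
    intro k hk
    rw [MulAction.mem_stabilizer_iff, MulAut.smul_def]
    exact hk
  have h1 := hmem a ha
  have h2 := hmem b hb
  have hgcd : (1 : ℤ) = a * Nat.gcdA a b + b * Nat.gcdB a b := by
    have := Nat.gcd_eq_gcd_ab a b
    rw [hab.gcd_eq_one] at this
    exact_mod_cast this
  have h3 : α ∈ MulAction.stabilizer (MulAut W) w := by
    have e : α = (α ^ a) ^ (Nat.gcdA a b) * (α ^ b) ^ (Nat.gcdB a b) := by
      rw [← zpow_natCast, ← zpow_natCast, ← zpow_mul, ← zpow_mul, ← zpow_add, ← hgcd, zpow_one]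
    rw [e]
    exact Subgroup.mul_mem _ (Subgroup.zpow_mem _ h1 _) (Subgroup.zpow_mem _ h2 _)
  rw [MulAction.mem_stabilizer_iff, MulAut.smul_def] at h3
  exact h3

/-- T10 -/
theorem card_hyperfocal_ne_prime [Finite S] {p : ℕ} [Fact p.Prime] (hS : IsPGroup p S)
    (F : FusionSystem S) (hF : F.IsSaturated p) {N : ℕ} (h2 : WE2 F p N)
    {T : Subgroup Ω} (hT : F.StronglyClosed T) (hTc : Nat.card T = N) :
    Nat.card (F.hyperfocalSubgroup p) ≠ p := by
  intro hMp
  have hpp : p.Prime := Fact.out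
  have hMsc : F.StronglyClosed (F.hyperfocalSubgroup p) :=
    Cfsg.Agent.Lib.Helper85.hyperfocal_stronglyClosed hS F hF
  have hMS : F.hyperfocalSubgroup p ≤ S := hMsc.1
  haveI : Finite (F.hyperfocalSubgroup p) := Cfsg.Agent.Lib.Helper87.finite_of_le hMS
  -- `M` is central in `S`
  have hMcent : ∀ g ∈ S, ∀ m ∈ F.hyperfocalSubgroup p, g * m = m * g := by
    haveI := Cfsg.Agent.Lib.Helper85.stronglyClosed_subgroupOf_normal F hMsc
    have hc : Nat.card ((F.hyperfocalSubgroup p).subgroupOf S) = p :=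
      (Nat.card_congr (Subgroup.subgroupOfEquivOfLe hMS).toEquiv).trans hMp
    have hcen := Cfsg.Agent.Lib.Helper63.normal_card_prime_le_center hS
      ((F.hyperfocalSubgroup p).subgroupOf S) hc
    intro g hg m hm
    have h1 : (⟨m, hMS hm⟩ : S) ∈ (F.hyperfocalSubgroup p).subgroupOf S :=
      Subgroup.mem_subgroupOf.mpr hm
    have h3 := Subgroup.mem_center_iff.mp (hcen h1) ⟨g, hg⟩
    exact congrArg Subtype.val h3
  -- the witness
  have hne : ¬ F.hyperfocalSubgroup p ≤ ⊥ := by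
    intro hle
    have : F.hyperfocalSubgroup p = ⊥ := le_bot_iff.mp hle
    rw [this, Subgroup.card_bot] at hMp
    exact hpp.one_lt.ne hMp
  have hex : ∃ (W : Subgroup Ω) (_ : W ≤ S) (α : MulAut W), α ∈ F.autGroup W ∧
      (orderOf α).Coprime p ∧ ∃ x : W, (x : Ω)⁻¹ * ((α x : W) : Ω) ≠ 1 := by
    by_contra hcon
    apply hne
    apply Cfsg.Agent.Lib.Helper87.hyperfocal_le_of_coprime F p ⊥
    intro P hP α hα hco x
    rw [Subgroup.mem_bot]
    by_contra hx
    exact hcon ⟨P, hP, α, hα, hco, x, hx⟩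
  obtain ⟨W, hWS, α, hα, hco, x, hx⟩ := hex
  have hαF : W.subtype.comp α.toMonoidHom ∈ F.Hom W :=
    (Cfsg.Agent.Lib.Helper87.mem_autGroup_iff F hWS α).mp hα
  -- all commutators lie in `M`
  have hcomm : ∀ y : W, (y : Ω)⁻¹ * ((α y : W) : Ω) ∈ F.hyperfocalSubgroup p := fun y =>
    Cfsg.Agent.Lib.Helper34.Tate.comm_mem_hyperfocal F p hWS hα hco y
  -- `M ≤ W`
  have hMW : F.hyperfocalSubgroup p ≤ W := by
    have hcW : (x : Ω)⁻¹ * ((α x : W) : Ω) ∈ W := W.mul_mem (W.inv_mem x.2) (α x).2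
    have hz : Subgroup.zpowers ((x : Ω)⁻¹ * ((α x : W) : Ω)) = F.hyperfocalSubgroup p := by
      apply Subgroup.eq_of_le_of_card_ge
      · rw [Subgroup.zpowers_le]
        exact hcomm x
      · rw [hMp, Nat.card_zpowers]
        have hdvd : orderOf ((x : Ω)⁻¹ * ((α x : W) : Ω)) ∣ p := by
          have h1 := Subgroup.orderOf_dvd_natCard (F.hyperfocalSubgroup p) (hcomm x)
          rwa [hMp] at h1
        rcases (Nat.dvd_prime hpp).mp hdvd with h1 | h1
        · exact absurd (orderOf_eq_one_iff.mp h1) hx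
        · exact h1.ge
    rw [← hz, Subgroup.zpowers_le]
    exact hcW
  -- `α` maps `M` into `M`
  have hφ : (W.subtype.comp α.toMonoidHom).comp (Subgroup.inclusion hMW) ∈
      F.Hom (F.hyperfocalSubgroup p) := Cfsg.Agent.Lib.Helper87.restrict_mem F hαF hMW
  have hαM : ∀ m : F.hyperfocalSubgroup p,
      ((α ⟨m, hMW m.2⟩ : W) : Ω) ∈ F.hyperfocalSubgroup p := fun m =>
    hMsc.2 _ le_rfl _ hφ m
  -- `α` moves an element of `M`
  have hmove : ∃ m : F.hyperfocalSubgroup p, ((α ⟨m, hMW m.2⟩ : W) : Ω) ≠ m := by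
    by_contra hcon
    have hfix : ∀ m : F.hyperfocalSubgroup p, α ⟨m, hMW m.2⟩ = ⟨m, hMW m.2⟩ := by
      intro m
      by_contra hm
      exact hcon ⟨m, fun h => hm (Subtype.ext h)⟩
    have hpow : ∀ (k : ℕ) (y : W), (α ^ k) y = y * (y⁻¹ * α y) ^ k := by
      intro k
      induction k with
      | zero => intro y; simp
      | succ k ih =>
        intro y
        rw [pow_succ', MulAut.mul_apply, ih y, map_mul, map_pow]
        have h1 := hfix ⟨((y⁻¹ * α y : W) : Ω), hcomm y⟩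
        have h3 : α (y⁻¹ * α y) = y⁻¹ * α y := h1
        rw [h3, pow_succ', ← mul_assoc, mul_inv_cancel_left]
    have hαp : α ^ p = 1 := by
      apply MulEquiv.ext
      intro y
      rw [hpow p y, MulAut.one_apply]
      have h1 : ((y⁻¹ * α y : W) : Ω) ^ p = 1 := by
        have h3 := pow_card_eq_one' (G := F.hyperfocalSubgroup p)
          (x := ⟨((y⁻¹ * α y : W) : Ω), hcomm y⟩)
        rw [hMp] at h3
        exact congrArg Subtype.val h3
      have h3 : (y⁻¹ * α y) ^ p = 1 := Subtype.ext (by rw [Subgroup.coe_pow]; exact h1)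
      rw [h3, mul_one]
    have hdvd : orderOf α ∣ p := orderOf_dvd_of_pow_eq_one hαp
    have h1 : orderOf α = 1 := Nat.Coprime.eq_one_of_dvd hco hdvd
    rw [orderOf_eq_one_iff] at h1
    apply hx
    rw [h1, MulAut.one_apply]
    group
  obtain ⟨m₀, hm₀⟩ := hmove
  -- `M` is receptive
  obtain ⟨Q, ⟨χ, hχ, hχr⟩, -, hQrec⟩ := hF (F.hyperfocalSubgroup p) hMS
  have hQM : Q = F.hyperfocalSubgroup p := by
    rw [← hχr]
    exact t10_range_eq F hMsc hχ
  rw [hQM] at hQrec
  have hφr : ((W.subtype.comp α.toMonoidHom).comp (Subgroup.inclusion hMW)).range =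
      F.hyperfocalSubgroup p := t10_range_eq F hMsc hφ
  obtain ⟨ψ, hψ, hψφ⟩ := hQrec.2 _ _ hφ hφr
  -- the extender contains `S`
  have hconj : ∀ g ∈ S, ∀ m ∈ F.hyperfocalSubgroup p, g * m * g⁻¹ = m := by
    intro g hg m hm
    rw [hMcent g hg m hm, mul_inv_cancel_right]
  have hSext : S ≤ extender S (F.hyperfocalSubgroup p)
      ((W.subtype.comp α.toMonoidHom).comp (Subgroup.inclusion hMW)) := by
    intro g hg
    apply Subgroup.subset_closure
    refine ⟨hg, ?_, 1, S.one_mem, ?_⟩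
    · rw [Subgroup.mem_normalizer_iff]
      intro m
      constructor
      · intro hm
        rw [hconj g hg m hm]
        exact hm
      · intro hm
        have h1 := hconj g⁻¹ (S.inv_mem hg) _ hm
        have e : g⁻¹ * (g * m * g⁻¹) * g⁻¹⁻¹ = m := by group
        rw [e] at h1
        rw [h1]
        exact hm
    · intro y hy
      have e : (⟨g * (y : Ω) * g⁻¹, hy⟩ : F.hyperfocalSubgroup p) = y :=
        Subtype.ext (hconj g hg y y.2)
      rw [e, one_mul, inv_one, mul_one]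
  have hψ' : ψ.comp (Subgroup.inclusion hSext) ∈ F.Hom S :=
    Cfsg.Agent.Lib.Helper87.restrict_mem F hψ hSext
  have hψ'M : ∀ m : F.hyperfocalSubgroup p,
      (ψ.comp (Subgroup.inclusion hSext)) ⟨m, hMS m.2⟩ = ((α ⟨m, hMW m.2⟩ : W) : Ω) := by
    intro m
    exact hψφ m m.2 (hSext (hMS m.2))
  -- the automorphism `β` of `S`
  have hψ'S : ∀ s : S, (ψ.comp (Subgroup.inclusion hSext)) s ∈ S := fun s =>
    Cfsg.Agent.Lib.Helper87.hom_mem_S F hψ' s
  have hinj : Function.Injective ((ψ.comp (Subgroup.inclusion hSext)).codRestrict S hψ'S) := by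
    intro a b hab
    apply F.injective_of_mem hψ'
    exact congrArg Subtype.val hab
  have hbij : Function.Bijective ((ψ.comp (Subgroup.inclusion hSext)).codRestrict S hψ'S) :=
    ⟨hinj, Finite.surjective_of_injective hinj⟩
  let β : MulAut S := MulEquiv.ofBijective _ hbij
  have hβ_apply : ∀ s : S, ((β s : S) : Ω) = (ψ.comp (Subgroup.inclusion hSext)) s := fun s => rfl
  have hβF : S.subtype.comp β.toMonoidHom ∈ F.Hom S := by
    have e : S.subtype.comp β.toMonoidHom = ψ.comp (Subgroup.inclusion hSext) := by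
      ext s
      rfl
    rw [e]
    exact hψ'
  have hTnorm : ∀ u ∈ S, ∀ t ∈ T, u * t * u⁻¹ ∈ T := by
    intro u hu t ht
    exact hT.2 T le_rfl _ (F.conj_mem hT.1 hu) ⟨t, ht⟩
  have hβT : ∀ s : S, (s : Ω) ∈ T → ((β s : S) : Ω) ∈ T := by
    intro s hs
    have h1 := Cfsg.Agent.Lib.Helper87.restrict_mem F hψ' hT.1
    exact hT.2 T le_rfl _ h1 ⟨s, hs⟩
  obtain ⟨k, hk⟩ := h2 S T le_rfl hT.1 hTnorm hTc β hβF hβT
  -- powers of `β` and `α` agree on `M`
  have hpow : ∀ (j : ℕ) (m : F.hyperfocalSubgroup p),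
      (((β ^ j) ⟨m, hMS m.2⟩ : S) : Ω) = (((α ^ j) ⟨m, hMW m.2⟩ : W) : Ω) ∧
        (((α ^ j) ⟨m, hMW m.2⟩ : W) : Ω) ∈ F.hyperfocalSubgroup p := by
    intro j
    induction j with
    | zero =>
      intro m
      exact ⟨rfl, m.2⟩
    | succ j ih =>
      intro m
      rw [pow_succ, pow_succ, MulAut.mul_apply, MulAut.mul_apply]
      have h1 := ih ⟨((α ⟨m, hMW m.2⟩ : W) : Ω), hαM m⟩
      have e1 : (β ⟨m, hMS m.2⟩ : S) = ⟨((α ⟨m, hMW m.2⟩ : W) : Ω), hMS (hαM m)⟩ := by
        apply Subtype.ext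
        rw [hβ_apply]
        exact hψ'M m
      rw [e1]
      exact h1
  have hfixk : (α ^ (p ^ k)) ⟨m₀, hMW m₀.2⟩ = ⟨m₀, hMW m₀.2⟩ := by
    apply Subtype.ext
    rw [← (hpow (p ^ k) m₀).1, hk, MulAut.one_apply]
  have hfixn : (α ^ (orderOf α)) ⟨m₀, hMW m₀.2⟩ = ⟨m₀, hMW m₀.2⟩ := by
    rw [pow_orderOf_eq_one, MulAut.one_apply]
  have hcop : (p ^ k).Coprime (orderOf α) := (Nat.Coprime.pow_right k hco).symm
  have hfix := t10_fixed_of_coprime α ⟨m₀, hMW m₀.2⟩ hcop hfixk hfixn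
  exact hm₀ (congrArg Subtype.val hfix)

end Cfsg.Agent.Lib.Helper86.WE
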